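import Cfsg.Agent.H86.PrimeOrderFrame
import Cfsg.Agent.H86.SelfCentralPoints

/-!
# Fewer than `p^2` Sylow subgroups of order `p`: the action on the Sylow subgroups

`Ctx G p` fixes a simple group with a Sylow subgroup `P` of order `p` and `1 + n p` Sylow
subgroups, `n = u v + u + 1`, `p = v (u + 1) + 1`, `u < v`.
-/

set_option linter.unusedSectionVars false
set_option linter.style.haveILetI false

open scoped Classical Pointwise

namespace Cfsg.Agent.H78.BR

open Subgroup

universe u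

/-- The setting. -/
structure Ctx (G : Type u) [Group G] (p : ℕ) [Fact p.Prime] where
  P : Sylow p G
  card_P : Nat.card (P : Subgroup G) = p
  simple : IsSimpleGroup G
  perf : commutator G = ⊤
  u : ℕ
  v : ℕ
  hu : 1 ≤ u
  huv : u < v
  hpv : p = v * (u + 1) + 1
  card_syl : Nat.card (Sylow p G) = 1 + (u * v + u + 1) * p

variable {G : Type u} [Group G] [Fintype G] {p : ℕ} [hp : Fact p.Prime]

/-- The centralizer of a Sylow subgroup. -/
abbrev cen (Q : Sylow p G) : Subgroup G := centralizer ((Q : Subgroup G) : Set G)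

/-- The normalizer of a Sylow subgroup. -/
abbrev nor (Q : Sylow p G) : Subgroup G := normalizer ((Q : Subgroup G) : Set G)

theorem cen_le_nor (Q : Sylow p G) : cen Q ≤ nor Q := centralizer_le_normalizer _

theorem smul_eq_iff {w : G} {Q : Sylow p G} : w • Q = Q ↔ w ∈ nor Q :=
  Sylow.smul_eq_iff_mem_normalizer

theorem mem_smul_iff {c w : G} {Q : Sylow p G} :
    w ∈ ((c • Q : Sylow p G) : Subgroup G) ↔ c⁻¹ * w * c ∈ (Q : Subgroup G) := by
  rw [Sylow.coe_subgroup_smul, Subgroup.mem_pointwise_smul_iff_inv_smul_mem]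
  rw [show (MulAut.conj c)⁻¹ • w = c⁻¹ * w * c by
    rw [← map_inv, MulAut.smul_def, MulAut.conj_apply, inv_inv]]

theorem mem_cen_smul {c w : G} {Q : Sylow p G} : w ∈ cen (c • Q) ↔ c⁻¹ * w * c ∈ cen Q := by
  simp only [cen, mem_centralizer_iff, SetLike.mem_coe, mem_smul_iff]
  constructor
  · intro h x hx
    have := h (c * x * c⁻¹) (by simpa [mul_assoc] using hx)
    calc x * (c⁻¹ * w * c) = c⁻¹ * (c * x * c⁻¹ * w) * c := by group
      _ = c⁻¹ * (w * (c * x * c⁻¹)) * c := by rw [this]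
      _ = _ := by group
  · intro h x hx
    have := h _ hx
    calc x * w = c * (c⁻¹ * x * c * (c⁻¹ * w * c)) * c⁻¹ := by group
      _ = c * (c⁻¹ * w * c * (c⁻¹ * x * c)) * c⁻¹ := by rw [this]
      _ = _ := by group

theorem mem_nor_smul {c w : G} {Q : Sylow p G} : w ∈ nor (c • Q) ↔ c⁻¹ * w * c ∈ nor Q := by
  rw [← smul_eq_iff, ← smul_eq_iff, mul_smul, mul_smul, inv_smul_eq_iff]

theorem mul_mem_nor_smul {c w : G} {Q : Sylow p G} (h : w ∈ nor Q) :
    c * w * c⁻¹ ∈ nor (c • Q) := mem_nor_smul.2 (by simpa [mul_assoc] using h)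

namespace Ctx

variable (X : Ctx G p)

include X

/-- The number `n`. -/
abbrev n : ℕ := X.u * X.v + X.u + 1

theorem card_sylow_eq : Nat.card (Sylow p G) = 1 + X.n * p := X.card_syl

theorem n_lt : X.n < p := by
  have h := X.hpv
  have := X.huv
  rw [mul_add, mul_one, mul_comm X.v X.u] at h
  show X.u * X.v + X.u + 1 < p
  omega

theorem five_le_p : 5 ≤ p := by
  have h := X.hpv
  have := X.hu
  have : 2 * 2 ≤ X.v * (X.u + 1) := Nat.mul_le_mul (by have := X.huv; omega) (by omega)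
  omega

theorem card_syl_P (Q : Sylow p G) : Nat.card (Q : Subgroup G) = p := by
  rw [Q.card_eq_multiplicity, ← X.P.card_eq_multiplicity, X.card_P]

theorem orderOf_mem {Q : Sylow p G} {x : G} (hx : x ∈ (Q : Subgroup G)) (hx1 : x ≠ 1) :
    orderOf x = p := by
  have h := X.card_syl_P Q ▸ orderOf_dvd_natCard (G := (Q : Subgroup G)) ⟨x, hx⟩
  rw [Subgroup.orderOf_mk] at h
  rcases (Nat.dvd_prime hp.out).1 h with e | e
  · exact absurd (orderOf_eq_one_iff.1 e) hx1
  · exact e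

theorem zpowers_eq {Q : Sylow p G} {x : G} (hx : x ∈ (Q : Subgroup G)) (hx1 : x ≠ 1) :
    zpowers x = (Q : Subgroup G) :=
  eq_of_le_of_card_ge (zpowers_le.2 hx)
    (by rw [Nat.card_zpowers, X.orderOf_mem hx hx1, X.card_syl_P Q])

theorem exists_gen (Q : Sylow p G) : ∃ x : G, x ∈ (Q : Subgroup G) ∧ x ≠ 1 := by
  haveI : Nontrivial (Q : Subgroup G) :=
    Finite.one_lt_card_iff_nontrivial.1 (by rw [X.card_syl_P Q]; exact hp.out.one_lt)
  obtain ⟨⟨x, hx⟩, h⟩ := exists_ne (1 : (Q : Subgroup G))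
  exact ⟨x, hx, fun e => h (Subtype.ext e)⟩

theorem mem_cen_of_commute {Q : Sylow p G} {x w : G} (hx : x ∈ (Q : Subgroup G)) (hx1 : x ≠ 1)
    (h : Commute w x) : w ∈ cen Q := by
  refine mem_centralizer_iff.2 fun y hy => ?_
  rw [SetLike.mem_coe, ← X.zpowers_eq hx hx1] at hy
  obtain ⟨i, rfl⟩ := hy
  exact (h.zpow_right i).eq.symm

theorem cen_singleton {Q : Sylow p G} {x : G} (hx : x ∈ (Q : Subgroup G)) (hx1 : x ≠ 1) :
    centralizer ({x} : Set G) = cen Q :=
  le_antisymm (fun _ hc => X.mem_cen_of_commute hx hx1 (mem_centralizer_singleton_iff.1 hc))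
    fun _ hc => mem_centralizer_singleton_iff.2 (mem_centralizer_iff.1 hc x hx).symm

theorem le_cen (Q : Sylow p G) : (Q : Subgroup G) ≤ cen Q := by
  intro v hv
  haveI : IsCyclic (Q : Subgroup G) := isCyclic_of_prime_card (p := p) (X.card_syl_P Q)
  haveI : IsMulCommutative (Q : Subgroup G) := IsCyclic.isMulCommutative
  exact mem_centralizer_iff.2 fun u hu =>
    congrArg Subtype.val (mul_comm' (⟨u, hu⟩ : (Q : Subgroup G)) ⟨v, hv⟩)

theorem eq_of_mem {Q R : Sylow p G} {x : G} (h1 : x ∈ (Q : Subgroup G))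
    (h2 : x ∈ (R : Subgroup G)) (hx : x ≠ 1) : Q = R :=
  Sylow.ext ((X.zpowers_eq h1 hx).symm.trans (X.zpowers_eq h2 hx))

/-- An element of a Sylow subgroup fixing another one is trivial. -/
theorem eq_one_of_fix {x : G} {Q R : Sylow p G} (hx : x ∈ (Q : Subgroup G)) (hR : R ≠ Q)
    (h : x • R = R) : x = 1 := by
  by_contra hx1
  have hpg : IsPGroup p (zpowers x) := IsPGroup.of_card (n := 1) (by
    rw [Nat.card_zpowers, X.orderOf_mem hx hx1, pow_one])
  exact hR (X.eq_of_mem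
    (le_of_eq (hpg.inf_normalizer_sylow R) ⟨mem_zpowers x, smul_eq_iff.1 h⟩).2 hx hx1)

theorem smul_injOn {Q R : Sylow p G} (hR : R ≠ Q) {a b : G} (ha : a ∈ (Q : Subgroup G))
    (hb : b ∈ (Q : Subgroup G)) (h : a • R = b • R) : a = b := by
  refine (inv_mul_eq_one.1 (X.eq_one_of_fix (mul_mem (inv_mem hb) ha) hR ?_)).symm
  rw [mul_smul, h, inv_smul_smul]

/-- An element outside the centralizer normalizes at most `n + 1` Sylow subgroups. -/
theorem fix_le {Q : Sylow p G} {w : G} (hw : w ∈ nor Q) (hwC : w ∉ cen Q) :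
    (Finset.univ.filter fun R : Sylow p G => w • R = R).card ≤ X.n + 1 := by
  set F := Finset.univ.filter fun R : Sylow p G => w • R = R with hF
  have hQ : Q ∈ F := Finset.mem_filter.2 ⟨Finset.mem_univ _, smul_eq_iff.2 hw⟩
  let U : Finset G := Finset.univ.filter fun x : G => x ∈ (Q : Subgroup G)
  have hU : U.card = p := by
    rw [← X.card_syl_P Q, Nat.card_eq_fintype_card, Fintype.card_subtype]
  have hinj : Set.InjOn (fun a : Sylow p G × G => a.2 • a.1) ↑((F.erase Q) ×ˢ U) := by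
    rintro ⟨R, a⟩ ha ⟨R', b⟩ hb h
    simp only [Finset.coe_product, Set.mem_prod, Finset.mem_coe, U, hF, Finset.mem_erase,
      Finset.mem_filter, Finset.mem_univ, true_and] at ha hb
    simp only at h
    set z := b⁻¹ * a with hz
    have hzQ : z ∈ (Q : Subgroup G) := mul_mem (inv_mem hb.2) ha.2
    have hzR : z • R = R' := by rw [hz, mul_smul, h, inv_smul_smul]
    have h1 : (z⁻¹ * (w * z * w⁻¹)) • R = R := by
      rw [mul_smul, mul_smul, mul_smul, show w⁻¹ • R = R by rw [inv_smul_eq_iff]; exact ha.1.2.symm,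
        hzR, hb.1.2, ← hzR, inv_smul_smul]
    have h2 := X.eq_one_of_fix (mul_mem (inv_mem hzQ) ((mem_normalizer_iff.1 hw z).1 hzQ)) ha.1.1 h1
    have h3 : w * z = z * w := mul_inv_eq_iff_eq_mul.1 (inv_mul_eq_one.1 h2).symm
    have h4 : z = 1 := by_contra fun e => hwC (X.mem_cen_of_commute hzQ e h3)
    rw [h4, one_smul] at hzR
    exact Prod.ext hzR (inv_mul_eq_one.1 h4).symm
  have hsub : ((F.erase Q) ×ˢ U).image (fun a : Sylow p G × G => a.2 • a.1) ⊆
      Finset.univ.erase Q := by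
    intro R hR
    obtain ⟨⟨R', a⟩, ha, rfl⟩ := Finset.mem_image.1 hR
    simp only [Finset.mem_product, U, Finset.mem_erase, Finset.mem_filter, Finset.mem_univ,
      true_and] at ha
    refine Finset.mem_erase.2 ⟨fun h => ha.1.1 ?_, Finset.mem_univ _⟩
    rw [← inv_smul_smul a R', h, smul_eq_iff.2 (le_normalizer (inv_mem ha.2))]
  have hc := Finset.card_le_card hsub
  rw [Finset.card_image_of_injOn hinj, Finset.card_product, hU,
    Finset.card_erase_of_mem (Finset.mem_univ _), Finset.card_univ, ← Nat.card_eq_fintype_card,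
    X.card_sylow_eq, Nat.add_sub_cancel_left] at hc
  have h5 : (F.erase Q).card ≤ X.n := Nat.le_of_mul_le_mul_right hc hp.out.pos
  have h6 : (F.erase Q).card + 1 = F.card := Finset.card_erase_add_one hQ
  omega

/-- An element normalizing `Q` and centralizing `R` centralizes `Q`. -/
theorem dich {Q R : Sylow p G} {w : G} (hw : w ∈ nor Q) (hR : w ∈ cen R) : w ∈ cen Q := by
  rcases eq_or_ne Q R with rfl | hne
  · exact hR
  by_contra hwC
  have h1 := X.fix_le hw hwC
  let U : Finset G := Finset.univ.filter fun x : G => x ∈ (R : Subgroup G)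
  have hU : U.card = p := by
    rw [← X.card_syl_P R, Nat.card_eq_fintype_card, Fintype.card_subtype]
  have hfix : ∀ x ∈ (R : Subgroup G), w • (x • Q) = x • Q := fun x hx => by
    rw [← mul_smul, ← (mem_centralizer_iff.1 hR x hx), mul_smul, smul_eq_iff.2 hw]
  have hsub : insert R (U.image fun x => x • Q) ⊆
      Finset.univ.filter fun R' : Sylow p G => w • R' = R' := by
    intro R' hR'
    rw [Finset.mem_insert, Finset.mem_image] at hR'
    refine Finset.mem_filter.2 ⟨Finset.mem_univ _, ?_⟩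
    rcases hR' with rfl | ⟨x, hx, rfl⟩
    · exact smul_eq_iff.2 (cen_le_nor _ hR)
    · exact hfix x (Finset.mem_filter.1 hx).2
  have h2 := Finset.card_le_card hsub
  rw [Finset.card_insert_of_notMem, Finset.card_image_of_injOn, hU] at h2
  · have := X.n_lt; omega
  · intro a ha b hb h
    exact X.smul_injOn hne (Finset.mem_filter.1 ha).2 (Finset.mem_filter.1 hb).2 h
  · intro h
    obtain ⟨x, hx, he⟩ := Finset.mem_image.1 h
    apply hne
    rw [← inv_smul_smul x Q, he, smul_eq_iff.2 (le_normalizer (inv_mem (Finset.mem_filter.1 hx).2))]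

theorem dich_conj {Q : Sylow p G} {w c : G} (hw : w ∈ nor Q) (h : c⁻¹ * w * c ∈ cen Q) :
    w ∈ cen Q := X.dich hw (mem_cen_smul.2 h)

/-- The centralizer of `P` is `P` times its `p'`-elements. -/
theorem exists_C0 : ∃ K : Subgroup G, K ≤ cen X.P ∧ ¬ p ∣ Nat.card K ∧
    (∀ w : G, w ∈ K ↔ w ∈ cen X.P ∧ ¬ p ∣ orderOf w) ∧
    (∀ w ∈ cen X.P, ∃ x ∈ (X.P : Subgroup G), ∃ z ∈ K, w = x * z) ∧
    Nat.card (cen X.P) = p * Nat.card K := by
  obtain ⟨L, hLP, hLN⟩ := H86.TraceQ.exists_frame X.P X.card_P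
  refine ⟨L.H ⊓ cen X.P, inf_le_right, fun h => L.card_H (h.trans (card_dvd_of_le inf_le_left)),
    ?_⟩
  have hmem : ∀ w ∈ cen X.P, ∃ x ∈ (X.P : Subgroup G), ∃ z ∈ L.H ⊓ cen X.P, w = x * z := by
    intro w hw
    obtain ⟨x, hx, h, hh, e⟩ := L.dec w (hLN ▸ cen_le_nor _ hw)
    rw [hLP] at hx
    refine ⟨x, hx, h, ⟨hh, ?_⟩, e⟩
    rw [show h = x⁻¹ * w by rw [e, inv_mul_cancel_left]]
    exact mul_mem (X.le_cen _ (inv_mem hx)) hw
  have hreg : ∀ z ∈ L.H, ¬ p ∣ orderOf z := fun z hz h => L.card_H (h.trans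
    (Subgroup.orderOf_mk z hz ▸ orderOf_dvd_natCard (⟨z, hz⟩ : L.H)))
  refine ⟨fun w => ⟨fun hw => ⟨hw.2, hreg w hw.1⟩, fun ⟨hw, hr⟩ => ?_⟩, hmem, ?_⟩
  · obtain ⟨x, hx, z, hz, rfl⟩ := hmem w hw
    rcases eq_or_ne x 1 with rfl | hx1
    · rwa [one_mul]
    exfalso
    apply hr
    have hc : Commute x z := mem_centralizer_iff.1 hz.2 x hx
    rw [hc.orderOf_mul_eq_mul_orderOf_of_coprime (by
      rw [X.orderOf_mem hx hx1]; exact hp.out.coprime_iff_not_dvd.2 (hreg z hz.1)),
      X.orderOf_mem hx hx1]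
    exact dvd_mul_right _ _
  · let f : ↥(X.P : Subgroup G) × ↥(L.H ⊓ cen X.P) → cen X.P := fun a =>
      ⟨(a.1 : G) * a.2, mul_mem (X.le_cen _ a.1.2) a.2.2.2⟩
    have hf : Function.Bijective f := by
      refine ⟨fun a b h => ?_, fun w => ?_⟩
      · have h' : (a.1 : G) * a.2 = (b.1 : G) * b.2 := congrArg Subtype.val h
        have h1 : (b.1 : G)⁻¹ * a.1 = (b.2 : G) * (a.2 : G)⁻¹ := by
          rw [eq_mul_inv_iff_mul_eq, mul_assoc, h', inv_mul_cancel_left]
        have hPm : (b.1 : G)⁻¹ * a.1 ∈ (X.P : Subgroup G) := mul_mem (inv_mem b.1.2) a.1.2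
        have hH : (b.1 : G)⁻¹ * a.1 ∈ L.H := h1 ▸ mul_mem b.2.2.1 (inv_mem a.2.2.1)
        have h2 : (b.1 : G)⁻¹ * a.1 = 1 := by_contra fun e =>
          hreg _ hH (dvd_of_eq (X.orderOf_mem hPm e).symm)
        have h3 : (a.1 : G) = b.1 := (inv_mul_eq_one.1 h2).symm
        rw [h3] at h'
        exact Prod.ext (Subtype.ext h3) (Subtype.ext (mul_left_cancel h'))
      · obtain ⟨x, hx, z, hz, e⟩ := hmem w w.2
        exact ⟨(⟨x, hx⟩, ⟨z, hz⟩), Subtype.ext e.symm⟩
    rw [← Nat.card_congr (Equiv.ofBijective f hf), Nat.card_prod, X.card_P]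

/-- The `p'`-elements of the centralizer. -/
noncomputable def C0 : Subgroup G := X.exists_C0.choose

theorem mem_C0 {w : G} : w ∈ X.C0 ↔ w ∈ cen X.P ∧ ¬ p ∣ orderOf w :=
  X.exists_C0.choose_spec.2.2.1 w

theorem C0_le : X.C0 ≤ cen X.P := X.exists_C0.choose_spec.1

theorem not_dvd_card_C0 : ¬ p ∣ Nat.card X.C0 := X.exists_C0.choose_spec.2.1

theorem cen_dec {w : G} (hw : w ∈ cen X.P) :
    ∃ x ∈ (X.P : Subgroup G), ∃ z ∈ X.C0, w = x * z := X.exists_C0.choose_spec.2.2.2.1 w hw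

theorem card_cen : Nat.card (cen X.P) = p * Nat.card X.C0 := X.exists_C0.choose_spec.2.2.2.2

theorem conj_mem_cen {w c : G} (hc : c ∈ nor X.P) (hw : w ∈ cen X.P) :
    c * w * c⁻¹ ∈ cen X.P := by
  refine mem_centralizer_iff.2 fun x hx => ?_
  have h := mem_centralizer_iff.1 hw _ (show c⁻¹ * x * c ∈ (X.P : Subgroup G) by
    simpa using (mem_normalizer_iff.1 (inv_mem hc) x).1 hx)
  calc x * (c * w * c⁻¹) = c * (c⁻¹ * x * c * w) * c⁻¹ := by group
    _ = c * (w * (c⁻¹ * x * c)) * c⁻¹ := by rw [h]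
    _ = _ := by group

theorem conj_mem_C0 {w c : G} (hc : c ∈ nor X.P) (hw : w ∈ X.C0) : c * w * c⁻¹ ∈ X.C0 := by
  rw [X.mem_C0] at hw ⊢
  refine ⟨X.conj_mem_cen hc hw.1, ?_⟩
  rw [show orderOf (c * w * c⁻¹) = orderOf w from MulEquiv.orderOf_eq (MulAut.conj c) w]
  exact hw.2

/-- No other Sylow subgroup of `G` has the whole of `C₀` in its centralizer. -/
theorem C0_eq_bot_of_le {Q : Sylow p G} (hQ : Q ≠ X.P) (h : X.C0 ≤ cen Q) : X.C0 = ⊥ := by
  set M := normalizer (X.C0 : Set G) with hM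
  have hN : nor X.P ≤ M := fun c hc => mem_normalizer_iff.2 fun w =>
    ⟨fun hw => X.conj_mem_C0 hc hw, fun hw => by
      simpa [mul_assoc] using X.conj_mem_C0 (inv_mem hc) hw⟩
  have hQM : (Q : Subgroup G) ≤ M := fun x hx => by
    refine centralizer_le_normalizer _ ?_
    exact mem_centralizer_iff.2 fun z hz => (mem_centralizer_iff.1 (h hz) x hx).symm
  have hPM : (X.P : Subgroup G) ≤ M := le_normalizer.trans hN
  -- the index of the normalizer splits
  have h1 : (nor X.P).relIndex M * M.index = 1 + X.n * p := by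
    rw [Subgroup.relIndex_mul_index hN, ← X.card_sylow_eq, Sylow.card_eq_index_normalizer X.P]
    rfl
  have h2 : (nor X.P).relIndex M = Nat.card (Sylow p M) := by
    rw [Sylow.card_eq_index_normalizer (X.P.subtype hPM)]
    show _ = (normalizer (((X.P : Subgroup G).subgroupOf M : Subgroup M) : Set M)).index
    rw [← subgroupOf_normalizer_eq hPM]
    rfl
  have h3 : (nor X.P).relIndex M % p = 1 := by
    rw [h2]
    have := card_sylow_modEq_one p M
    rwa [Nat.ModEq, Nat.one_mod_eq_one.2 hp.out.ne_one] at this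
  have h4 : (nor X.P).relIndex M ≠ 1 := by
    intro h1'
    rw [h2] at h1'
    haveI := (Nat.card_eq_one_iff_unique.1 h1').1
    have he : X.P.subtype hPM = Q.subtype hQM := Subsingleton.elim _ _
    exact hQ (Sylow.subtype_injective he).symm
  obtain ⟨a, ha⟩ : ∃ a, (nor X.P).relIndex M = 1 + p * a :=
    ⟨(nor X.P).relIndex M / p, by have := Nat.div_add_mod ((nor X.P).relIndex M) p; omega⟩
  have hn := X.n_lt
  have hi : M.index < p := by
    by_contra hle
    have : (1 + p * 1) * p ≤ (nor X.P).relIndex M * M.index := Nat.mul_le_mul (by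
      rw [ha]; exact Nat.add_le_add_left (Nat.mul_le_mul_left _
        (Nat.pos_of_ne_zero fun e => h4 (by rw [ha, e, mul_zero]; rfl))) 1) (not_lt.1 hle)
    rw [h1, add_mul, one_mul, mul_one] at this
    have : X.n * p < p * p := Nat.mul_lt_mul_of_pos_right hn hp.out.pos
    have := hp.out.two_le
    omega
  have hi1 : M.index % p = 1 := by
    have h5 := congrArg (· % p) h1
    simp only [Nat.mul_mod, h3, one_mul, Nat.mod_mod, Nat.add_mul_mod_self_right,
      Nat.one_mod_eq_one.2 hp.out.ne_one] at h5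
    exact h5
  rw [Nat.mod_eq_of_lt hi] at hi1
  have hnorm : X.C0.Normal := Subgroup.normalizer_eq_top_iff.1 (Subgroup.index_eq_one.1 hi1)
  haveI := X.simple
  rcases hnorm.eq_bot_or_eq_top with e | e
  · exact e
  · exfalso
    have := X.not_dvd_card_C0
    rw [e, Subgroup.card_top] at this
    exact this (X.card_P ▸ Subgroup.card_subgroup_dvd_card _)

end Ctx

end Cfsg.Agent.H78.BR
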