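import Mathlib.Data.Nat.Prime.Basic
import Mathlib.Data.Int.ModEq
import Mathlib.Tactic.LinearCombination
import Mathlib.Tactic.Linarith
import Mathlib.Tactic.Ring
import Mathlib.Tactic.Zify
import Mathlib.RingTheory.Int.Basic

/-!
# Divisors of `(p - 1) g` congruent to `±1` for few Sylow subgroups

`p = v (u + 1) + 1`, `n = u v + u + 1` and `g = 1 + n p = (u v + 1) (p + u + 1)`.
-/

namespace Cfsg.Agent.H78.BR.Arith

variable {p u v : ℕ}

theorem g_eq (hpv : p = v * (u + 1) + 1) :
    1 + (u * v + u + 1) * p = (u * v + 1) * (p + u + 1) := by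
  subst hpv; ring

theorem a_eq (hpv : p = v * (u + 1) + 1) : u * p + 1 = (u + 1) * (u * v + 1) := by
  subst hpv; ring

theorem b_eq (hpv : p = v * (u + 1) + 1) : (v + 1) * p = v * (p + u + 1) + 1 := by
  subst hpv; ring

theorem ab_eq (hpv : p = v * (u + 1) + 1) :
    (u * p + 1) * (v * (p + u + 1)) = (p - 1) * (1 + (u * v + u + 1) * p) := by
  rw [a_eq hpv, g_eq hpv, show p - 1 = v * (u + 1) by omega]; ring

theorem coprime_succ (hpv : p = v * (u + 1) + 1) : Nat.Coprime (u + 1) (p + u + 1) := by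
  rw [show p + u + 1 = 1 + (v + 1) * (u + 1) by subst hpv; ring]
  exact (Nat.coprime_add_mul_right_right _ _ _).2 (Nat.coprime_one_right _)

theorem coprime_v (u v : ℕ) : Nat.Coprime v (u * v + 1) := by
  rw [add_comm]
  exact (Nat.coprime_add_mul_right_right _ _ _).2 (Nat.coprime_one_right _)

theorem div_one (hp : p.Prime) (huv : u < v) (hu : 1 ≤ u) (hpv : p = v * (u + 1) + 1) {D : ℕ}
    (hmod : (D : ℤ) ≡ 1 [ZMOD p]) (h1 : 1 < D)
    (hdvd : D ∣ (p - 1) * (1 + (u * v + u + 1) * p)) :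
    D = u * p + 1 ∨ D = 1 + (u * v + u + 1) * p := by
  set n := u * v + u + 1 with hn
  set g := 1 + n * p with hg
  have hp2 := hp.two_le
  have hnp : n < p := by
    rw [mul_add, mul_one, mul_comm v u] at hpv
    omega
  obtain ⟨q, hq⟩ := hdvd
  have hg0 : 0 < g := by omega
  have hgn : (g : ℤ) = 1 + n * p := by rw [hg]; push_cast; ring
  have hq' : ((p : ℤ) - 1) * g = D * q := by
    have h : (((p - 1) * g : ℕ) : ℤ) = ((D * q : ℕ) : ℤ) := congrArg _ hq
    push_cast [Nat.cast_sub (show 1 ≤ p by omega)] at h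
    exact h
  obtain ⟨u', hu'⟩ := hmod.symm.dvd
  rcases lt_or_ge D g with hlt | hle
  · left
    have hu1 : 1 ≤ u' := by
      by_contra h
      have : (p : ℤ) * u' ≤ 0 := mul_nonpos_of_nonneg_of_nonpos (by positivity) (by omega)
      omega
    have hr : (D : ℤ) * (g - u' * q) = (u' + 1) * g := by
      linear_combination (g : ℤ) * hu' + u' * hq'
    set r := (g : ℤ) - u' * q with hrdef
    have hrgt : u' + 1 < r := by
      by_contra h
      push Not at h
      have ha : (D : ℤ) * r ≤ D * (u' + 1) := mul_le_mul_of_nonneg_left h (by positivity)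
      have hb : (u' + 1) * (D : ℤ) < (u' + 1) * g :=
        mul_lt_mul_of_pos_left (by exact_mod_cast hlt) (by omega)
      linarith
    obtain ⟨w, hw⟩ : (p : ℤ) ∣ r - (u' + 1) := by
      refine ⟨(u' + 1) * n - u' * r, ?_⟩
      linear_combination hr - r * hu' + (u' + 1) * hgn
    have hw1 : 1 ≤ w := by
      by_contra h
      have : (p : ℤ) * w ≤ 0 := mul_nonpos_of_nonneg_of_nonpos (by positivity) (by omega)
      omega
    have hrel : (n : ℤ) * (u' + 1) = w * u' * p + u' ^ 2 + u' + w := by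
      refine mul_left_cancel₀ (show (p : ℤ) ≠ 0 by omega) ?_
      linear_combination -hr + r * hu' + (1 + p * u') * hw - (u' + 1) * hgn
    have hw2 : w = 1 := by
      by_contra h
      have h2 : 2 ≤ w := by omega
      have h3 : 2 * (u' * (p : ℤ)) ≤ w * (u' * p) := mul_le_mul_of_nonneg_right h2 (by positivity)
      have h4 : (n : ℤ) * (u' + 1) ≤ ((p : ℤ) - 1) * (u' + 1) :=
        mul_le_mul_of_nonneg_right (by omega) (by omega)
      have h5 : (p : ℤ) * 1 ≤ (p : ℤ) * u' := mul_le_mul_of_nonneg_left hu1 (by positivity)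
      nlinarith
    rw [hw2, one_mul] at hrel
    have hrel0 : (n : ℤ) * ((u : ℤ) + 1) = u * p + (u : ℤ) ^ 2 + u + 1 := by
      rw [hn, hpv]; push_cast; ring
    have h6 : ((u' : ℤ) - u) * ((p : ℤ) + u + u' + 1 - n) = 0 := by
      linear_combination hrel0 - hrel
    rcases mul_eq_zero.1 h6 with h | h
    · have h' : u' = (u : ℤ) := by omega
      rw [h'] at hu'
      have : (D : ℤ) = ((u * p + 1 : ℕ) : ℤ) := by push_cast; linarith
      exact_mod_cast this
    · omega
  · right
    have hqle : q ≤ p - 1 := by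
      refine Nat.le_of_mul_le_mul_right ?_ hg0
      calc q * g ≤ q * D := Nat.mul_le_mul_left _ hle
        _ = (p - 1) * g := by rw [mul_comm, ← hq]
    have hqm : (p : ℤ) ∣ (q : ℤ) + 1 := ⟨(g : ℤ) - n - u' * q, by
      linear_combination -hq' - (q : ℤ) * hu' - hgn⟩
    have hq1 : q + 1 = p := by
      have h : p ∣ q + 1 := by exact_mod_cast hqm
      have := Nat.le_of_dvd (by omega) h
      omega
    rw [show p - 1 = q by omega, mul_comm D q] at hq
    exact (Nat.eq_of_mul_eq_mul_left (by omega) hq).symm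

theorem div_neg_one (hp : p.Prime) (huv : u < v) (hu : 1 ≤ u) (hpv : p = v * (u + 1) + 1) {D : ℕ}
    (hmod : (D : ℤ) ≡ -1 [ZMOD p]) (hdvd : D ∣ (p - 1) * (1 + (u * v + u + 1) * p)) :
    D = p - 1 ∨ D = v * (p + u + 1) ∨ D = (p - 1) * (1 + (u * v + u + 1) * p) := by
  set g := 1 + (u * v + u + 1) * p with hg
  have hp2 := hp.two_le
  obtain ⟨q, hq⟩ := hdvd
  have hgn : (g : ℤ) = 1 + ((u * v + u + 1 : ℕ) : ℤ) * p := by rw [hg]; push_cast; ring
  have hq' : ((p : ℤ) - 1) * g = D * q := by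
    have h : (((p - 1) * g : ℕ) : ℤ) = ((D * q : ℕ) : ℤ) := congrArg _ hq
    push_cast [Nat.cast_sub (show 1 ≤ p by omega)] at h
    exact h
  obtain ⟨c, hc⟩ := hmod.symm.dvd
  have hqm : (q : ℤ) ≡ 1 [ZMOD p] := by
    refine (Int.modEq_iff_dvd.2 ⟨(g : ℤ) - ((u * v + u + 1 : ℕ) : ℤ) - c * q, ?_⟩)
    linear_combination -hq' - (q : ℤ) * hc - hgn
  have hD : p ≤ D + 1 := by
    have h : p ∣ D + 1 := Int.natCast_dvd_natCast.1 ⟨c, by push_cast; linarith⟩
    exact Nat.le_of_dvd (by omega) h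
  have hpos : 0 < (p - 1) * g := Nat.mul_pos (by omega) (by omega)
  rcases (show q = 0 ∨ q = 1 ∨ 1 < q by omega) with h | h | h
  · rw [h, mul_zero] at hq; omega
  · rw [h, mul_one] at hq; exact Or.inr (Or.inr hq.symm)
  · rcases div_one hp huv hu hpv hqm h ⟨D, by rw [hq, mul_comm]⟩ with e | e
    · right; left
      rw [e, ← ab_eq hpv, mul_comm D] at hq
      exact (Nat.eq_of_mul_eq_mul_left (by omega) hq).symm
    · left
      rw [e, mul_comm (p - 1), mul_comm D] at hq
      exact (Nat.eq_of_mul_eq_mul_left (by omega) hq).symm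

end Cfsg.Agent.H78.BR.Arith
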