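import Cfsg.Agent.H78.BR.Psi

/-!
# The principal block: degrees and the relation
-/

set_option linter.unusedSectionVars false
set_option linter.style.haveILetI false

open scoped Classical ComplexConjugate

namespace Cfsg.Agent.H78.BR

open Subgroup CharBasic BlockBasic

universe u

variable {G : Type u} [Group G] [Fintype G] {p : ℕ} [hp : Fact p.Prime]

theorem Ctx.charDegree_triv (_X : Ctx G p) :
    charDegree ((trivialIrr : IrrCharacter G) : G → ℂ) = 1 := by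
  have h' := apply_one_eq_charDegree (trivialIrr : IrrCharacter G)
  exact_mod_cast (h'.symm.trans rfl :
    (charDegree ((trivialIrr : IrrCharacter G) : G → ℂ) : ℂ) = 1)

theorem Ctx.one_lt_degree (X : Ctx G p) {χ : IrrCharacter G} (hχ : χ ≠ trivialIrr) :
    1 < charDegree (χ : G → ℂ) := by
  refine lt_of_le_of_ne (charDegree_pos χ) fun h => hχ (Subtype.ext (funext fun x => ?_))
  obtain ⟨l, hl⟩ := CharInduce.IsChar.exists_hom_of_degree_one (IsIrr.isCharacter χ.2)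
    (by rw [apply_one_eq_charDegree, ← h, Nat.cast_one])
  rw [hl x, H86.FewSylow.hom_eq_one_of_perfect X.perf l (fun _ _ => mul_comm _ _) x, Units.val_one]
  rfl

theorem Ctx.centralChar_P (X : Ctx G p) (χ : IrrCharacter G) {x : G}
    (hx : x ∈ (X.P : Subgroup G)) (hx1 : x ≠ 1) :
    centralChar (χ : G → ℂ) x =
      ((X.e * X.g : ℕ) : ℂ) * (χ : G → ℂ) x / (charDegree (χ : G → ℂ) : ℂ) := by
  rw [centralChar, X.cen_singleton hx hx1, X.index_cen, apply_one_eq_charDegree]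

/-- The principal block. -/
structure Blk (X : Ctx G p) where
  M : Ideal AlgInt
  hM : IsPModular p M
  Xs : Finset (IrrCharacter G)
  Ys : Finset (IrrCharacter G)
  sgn : IrrCharacter G → ℤ
  ε : ℤ
  mem_iff : ∀ χ, χ ∈ principalBlock M G ↔ χ ∈ Xs ∨ χ ∈ Ys
  disj : Disjoint Xs Ys
  cardX : Xs.card = X.e
  cardY : Ys.card = X.t
  signX : ∀ χ ∈ Xs, sgn χ = 1 ∨ sgn χ = -1
  degX : ∀ χ ∈ Xs, (charDegree (χ : G → ℂ) : ℤ) ≡ sgn χ [ZMOD p]
  valX : ∀ χ ∈ Xs, ∀ x : G, x ∈ (X.P : Subgroup G) → x ≠ 1 → ∀ y ∈ X.C0,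
    (χ : G → ℂ) (x * y) = (sgn χ : ℂ)
  hε : ε = 1 ∨ ε = -1
  degY : ∀ θ ∈ Ys, (charDegree (θ : G → ℂ) : ℤ) ≡ ε * (X.e : ℤ) [ZMOD p]
  agree : ∀ θ ∈ Ys, ∀ θ' ∈ Ys, ∀ g : G, ¬ p ∣ orderOf g → (θ : G → ℂ) g = (θ' : G → ℂ) g
  rel : ∀ θ ∈ Ys, ∀ g : G, ¬ p ∣ orderOf g →
    (ε : ℂ) * (θ : G → ℂ) g = ∑ χ ∈ Xs, (sgn χ : ℂ) * (χ : G → ℂ) g
  trivX : trivialIrr ∈ Xs
  sumY : ∀ θ ∈ Ys, ∀ [Fintype (X.P : Subgroup G)], ∑ y : (X.P : Subgroup G), (θ : G → ℂ) y =
    (θ : G → ℂ) 1 - (ε : ℂ) * (X.e : ℂ)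

theorem Ctx.exists_blk (X : Ctx G p) : Nonempty (Blk X) := by
  obtain ⟨M, hM⟩ := exists_isPModular hp.out
  obtain ⟨Xs, Ys, s, ε, hB, hd, hX, hY, hXp, hε, hYd, hag, hrel, ht, hsum⟩ :=
    H86.Abelian.exists_structure_full X.P X.card_P hM
  exact ⟨⟨M, hM, Xs, Ys, s, ε, hB, hd, hX, hY, fun χ h => (hXp χ h).1, fun χ h => (hXp χ h).2.1,
    fun χ h x hx hx1 y hy => (hXp χ h).2.2 x hx hx1 y (X.C0_le hy) ((X.mem_C0.1 hy).2),
    hε, hYd, hag, hrel, ht, hsum⟩⟩

namespace Blk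

variable {X : Ctx G p} (B : Blk X)

include B

theorem not_dvd_one : ¬ p ∣ orderOf (1 : G) := by
  rw [orderOf_one, Nat.dvd_one]; exact hp.out.ne_one

theorem val_P {χ : IrrCharacter G} (hχ : χ ∈ B.Xs) {x : G} (hx : x ∈ (X.P : Subgroup G))
    (hx1 : x ≠ 1) : (χ : G → ℂ) x = (B.sgn χ : ℂ) := by
  have h := B.valX χ hχ x hx hx1 1 (one_mem _)
  rwa [mul_one] at h

theorem val_mul {χ : IrrCharacter G} (hχ : χ ∈ principalBlock B.M G) {x : G}
    (hx : x ∈ (X.P : Subgroup G)) (hx1 : x ≠ 1) {y : G} (hy : y ∈ X.C0) :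
    (χ : G → ℂ) (x * y) = (χ : G → ℂ) x := by
  haveI := H86.Abelian.isMulCommutative_sylow X.P X.card_P
  exact H86.Abelian.apply_mul_eq X.P X.card_P B.hM hχ hx hx1 (X.C0_le hy) ((X.mem_C0.1 hy).2)

theorem sgn_triv : B.sgn trivialIrr = 1 := by
  obtain ⟨x, hx, hx1⟩ := X.exists_gen X.P
  have h := B.val_P B.trivX hx hx1
  have h' : ((B.sgn trivialIrr : ℤ) : ℂ) = ((1 : ℤ) : ℂ) := by rw [← h, Int.cast_one]; rfl
  exact Int.cast_injective h'

theorem Y_nonempty : B.Ys.Nonempty := Finset.card_pos.1 (B.cardY.symm ▸ X.t_pos)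

/-- An exceptional character. -/
noncomputable def θ : IrrCharacter G := B.Y_nonempty.choose

theorem θ_mem : B.θ ∈ B.Ys := B.Y_nonempty.choose_spec

theorem θ_ne : B.θ ≠ trivialIrr := fun h =>
  Finset.disjoint_left.1 B.disj B.trivX (h ▸ B.θ_mem)

theorem mem_block_θ : B.θ ∈ principalBlock B.M G := (B.mem_iff _).2 (Or.inr B.θ_mem)

/-- The exceptional degree. -/
noncomputable abbrev d : ℕ := charDegree (B.θ : G → ℂ)

theorem deg_Y {θ : IrrCharacter G} (hθ : θ ∈ B.Ys) : charDegree (θ : G → ℂ) = B.d := by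
  have h := B.agree θ hθ B.θ B.θ_mem 1 B.not_dvd_one
  rw [apply_one_eq_charDegree, apply_one_eq_charDegree] at h
  exact_mod_cast h

theorem rel_one : (B.ε : ℂ) * (B.d : ℂ) =
    ∑ χ ∈ B.Xs, (B.sgn χ : ℂ) * (charDegree (χ : G → ℂ) : ℂ) := by
  have h := B.rel B.θ B.θ_mem 1 B.not_dvd_one
  simpa only [apply_one_eq_charDegree] using h

theorem rel_one_int : B.ε * (B.d : ℤ) =
    ∑ χ ∈ B.Xs, B.sgn χ * (charDegree (χ : G → ℂ) : ℤ) := by
  apply Int.cast_injective (α := ℂ)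
  push_cast
  exact B.rel_one

/-- The column of `1` against the column of an element of order `p`. -/
theorem sum_Y_apply {x : G} (hx : x ∈ (X.P : Subgroup G)) (hx1 : x ≠ 1) :
    ∑ θ ∈ B.Ys, (θ : G → ℂ) x = -(B.ε : ℂ) := by
  have h := blockKernel_eq_zero_of_regular_of_singular B.hM
    (B := principalBlock B.M G) ⟨trivialIrr, rfl⟩ B.not_dvd_one
    (show p ∣ orderOf x by rw [X.orderOf_mem hx hx1])
  rw [blockKernel, finsum_mem_eq_finite_toFinset_sum _ (Set.toFinite _)] at h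
  have hset : (Set.toFinite (principalBlock B.M G)).toFinset = B.Xs ∪ B.Ys := by
    ext χ
    rw [Set.Finite.mem_toFinset, Finset.mem_union, B.mem_iff]
  rw [hset, Finset.sum_union B.disj] at h
  have hX : ∑ χ ∈ B.Xs, (χ : G → ℂ) 1 * conj ((χ : G → ℂ) x) = (B.ε : ℂ) * B.d := by
    rw [B.rel_one]
    refine Finset.sum_congr rfl fun χ hχ => ?_
    rw [apply_one_eq_charDegree, B.val_P hχ hx hx1, map_intCast, mul_comm]
  have hY : ∑ χ ∈ B.Ys, (χ : G → ℂ) 1 * conj ((χ : G → ℂ) x) =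
      (B.d : ℂ) * conj (∑ θ ∈ B.Ys, (θ : G → ℂ) x) := by
    rw [map_sum, Finset.mul_sum]
    refine Finset.sum_congr rfl fun χ hχ => ?_
    rw [apply_one_eq_charDegree, B.deg_Y hχ]
  rw [hX, hY, mul_comm (B.ε : ℂ), ← mul_add] at h
  have h2 := (mul_eq_zero.1 h).resolve_left (Nat.cast_ne_zero.2 (charDegree_pos B.θ).ne')
  have h3 := congrArg conj h2
  rw [map_add, map_intCast, Complex.conj_conj, map_zero] at h3
  linear_combination h3

theorem dvd_X {χ : IrrCharacter G} (hχ : χ ∈ B.Xs) : charDegree (χ : G → ℂ) ∣ X.e * X.g := by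
  obtain ⟨x, hx, hx1⟩ := X.exists_gen X.P
  have h := isIntegral_centralChar χ.2 x
  rw [X.centralChar_P χ hx hx1, B.val_P hχ hx hx1] at h
  exact H86.FewSylowReduce.dvd_of_isIntegral (charDegree_pos χ) (B.signX χ hχ) h

theorem dvd_X' {χ : IrrCharacter G} (hχ : χ ∈ B.Xs) :
    charDegree (χ : G → ℂ) ∣ (p - 1) * X.g :=
  (B.dvd_X hχ).trans (mul_dvd_mul_right X.e_dvd _)

theorem sum_centralChar_Y {x : G} (hx : x ∈ (X.P : Subgroup G)) (hx1 : x ≠ 1) :
    ∑ θ ∈ B.Ys, centralChar (θ : G → ℂ) x =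
      ((X.e * X.g : ℕ) : ℂ) * ((-B.ε : ℤ) : ℂ) / (B.d : ℂ) := by
  rw [Finset.sum_congr rfl fun θ hθ => by rw [X.centralChar_P θ hx hx1, B.deg_Y hθ],
    ← Finset.sum_div, ← Finset.mul_sum, B.sum_Y_apply hx hx1, Int.cast_neg]

theorem dvd_Y : B.d ∣ X.e * X.g := by
  obtain ⟨x, hx, hx1⟩ := X.exists_gen X.P
  have h : IsIntegral ℤ (∑ θ ∈ B.Ys, centralChar (θ : G → ℂ) x) :=
    IsIntegral.sum _ fun θ _ => isIntegral_centralChar θ.2 _
  rw [B.sum_centralChar_Y hx hx1] at h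
  exact H86.FewSylowReduce.dvd_of_isIntegral (charDegree_pos B.θ)
    (by rcases B.hε with e | e <;> simp [e]) h

theorem td_dvd : X.t * B.d ∣ (p - 1) * X.g := by
  rw [← X.e_mul_t, mul_comm X.e, mul_assoc]
  exact mul_dvd_mul_left _ B.dvd_Y

theorem td_modEq : ((X.t * B.d : ℕ) : ℤ) ≡ -B.ε [ZMOD p] := by
  have h := (B.degY B.θ B.θ_mem).mul_left (X.t : ℤ)
  push_cast
  refine h.trans (Int.modEq_iff_dvd.2 ⟨-B.ε, ?_⟩)
  have het : (X.e : ℤ) * X.t = (p : ℤ) - 1 := by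
    rw [show (p : ℤ) - 1 = ((p - 1 : ℕ) : ℤ) by have := hp.out.two_le; omega]
    exact_mod_cast X.e_mul_t
  linear_combination -B.ε * het

theorem one_lt_td : 1 < X.t * B.d :=
  lt_of_lt_of_le (X.one_lt_degree B.θ_ne) (Nat.le_mul_of_pos_left _ X.t_pos)

theorem td_neg (h : B.ε = -1) : X.t * B.d = X.u * p + 1 ∨ X.t * B.d = X.g := by
  have hm := B.td_modEq
  rw [h, neg_neg] at hm
  exact Arith.div_one hp.out X.huv X.hu X.hpv hm B.one_lt_td B.td_dvd

theorem deg_plus {χ : IrrCharacter G} (hχ : χ ∈ B.Xs) (hne : χ ≠ trivialIrr) (h : B.sgn χ = 1) :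
    charDegree (χ : G → ℂ) = X.u * p + 1 ∨ charDegree (χ : G → ℂ) = X.g :=
  Arith.div_one hp.out X.huv X.hu X.hpv (h ▸ B.degX χ hχ) (X.one_lt_degree hne) (B.dvd_X' hχ)

theorem a_lt_g : X.u * p + 1 < X.g := by
  rw [Ctx.g, add_comm 1]
  exact Nat.add_lt_add_right (Nat.mul_lt_mul_of_pos_right (by rw [Ctx.n]; omega) hp.out.pos) 1

theorem term_le {χ : IrrCharacter G} (hχ : χ ∈ B.Xs) :
    B.sgn χ * (charDegree (χ : G → ℂ) : ℤ) ≤ X.g := by
  rcases B.signX χ hχ with h | h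
  · rw [h, one_mul]
    rcases eq_or_ne χ trivialIrr with rfl | hne
    · rw [X.charDegree_triv]; exact_mod_cast X.g_pos
    · rcases B.deg_plus hχ hne h with e | e <;> rw [e]
      exact_mod_cast B.a_lt_g.le
  · rw [h]; omega

theorem deg_minus {χ : IrrCharacter G} (hχ : χ ∈ B.Xs) (h : B.sgn χ = -1) :
    charDegree (χ : G → ℂ) = p - 1 ∨ charDegree (χ : G → ℂ) = X.v * (p + X.u + 1) := by
  rcases Arith.div_neg_one hp.out X.huv X.hu X.hpv (h ▸ B.degX χ hχ) (B.dvd_X' hχ) with e | e | e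
  · exact Or.inl e
  · exact Or.inr e
  · exfalso
    have hgpos := X.g_pos
    have he : X.e = p - 1 := le_antisymm X.e_le (Nat.le_of_mul_le_mul_right
      (e ▸ Nat.le_of_dvd (Nat.mul_pos (by have := X.two_le_e; omega) hgpos) (B.dvd_X hχ)) hgpos)
    have hne : χ ≠ trivialIrr := fun e' => by rw [e', B.sgn_triv] at h; omega
    have hr := B.rel_one_int
    rw [← Finset.add_sum_erase _ _ B.trivX, ← Finset.add_sum_erase _ _
      (Finset.mem_erase.2 ⟨hne, hχ⟩ : χ ∈ B.Xs.erase trivialIrr), B.sgn_triv, X.charDegree_triv,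
      h, e] at hr
    have hle := Finset.sum_le_card_nsmul ((B.Xs.erase trivialIrr).erase χ) _ (X.g : ℤ)
      fun ψ hψ => B.term_le (Finset.mem_of_mem_erase (Finset.mem_of_mem_erase hψ))
    rw [Finset.card_erase_of_mem (Finset.mem_erase.2 ⟨hne, hχ⟩),
      Finset.card_erase_of_mem B.trivX, B.cardX, nsmul_eq_mul] at hle
    have hp5 := X.five_le_p
    have hg2 : (2 : ℤ) ≤ X.g := by
      have := B.a_lt_g
      exact_mod_cast (show 2 ≤ X.g by omega)
    push_cast [Nat.cast_sub (show 1 ≤ p by omega), he,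
      show p - 1 - 1 - 1 = p - 3 by omega, Nat.cast_sub (show 3 ≤ p by omega)] at hr hle
    rcases B.hε with e' | e' <;> rw [e'] at hr
    · have : (0 : ℤ) ≤ B.d := Int.natCast_nonneg _
      linarith
    · have h1 : B.d ≤ X.t * B.d := Nat.le_mul_of_pos_left _ X.t_pos
      have h2 : X.t * B.d ≤ X.g := by
        rcases B.td_neg e' with e'' | e''
        · exact e'' ▸ B.a_lt_g.le
        · exact e''.le
      have h3 : (B.d : ℤ) ≤ X.g := by exact_mod_cast h1.trans h2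
      push_cast at h3 hg2
      linarith

theorem td_pos (h : B.ε = 1) :
    B.d = X.e ∨ X.t * B.d = X.v * (p + X.u + 1) := by
  have hm := B.td_modEq
  rw [h] at hm
  rcases Arith.div_neg_one hp.out X.huv X.hu X.hpv hm B.td_dvd with e | e | e
  · left
    rw [← X.e_mul_t, mul_comm X.e] at e
    exact Nat.eq_of_mul_eq_mul_left X.t_pos e
  · exact Or.inr e
  · exfalso
    change X.t * B.d = (p - 1) * X.g at e
    rw [← X.e_mul_t, mul_comm X.e, mul_assoc] at e
    have hd : B.d = X.e * X.g := Nat.eq_of_mul_eq_mul_left X.t_pos e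
    have hr := B.rel_one_int
    rw [h, one_mul, ← Finset.add_sum_erase _ _ B.trivX, B.sgn_triv, X.charDegree_triv, hd] at hr
    have hle := Finset.sum_le_card_nsmul (B.Xs.erase trivialIrr) _ (X.g : ℤ)
      fun ψ hψ => B.term_le (Finset.mem_of_mem_erase hψ)
    rw [Finset.card_erase_of_mem B.trivX, B.cardX, nsmul_eq_mul] at hle
    have hg2 : (2 : ℤ) ≤ X.g := by
      have := B.a_lt_g
      have := hp.out.two_le
      exact_mod_cast (show 2 ≤ X.g by omega)
    push_cast [Nat.cast_sub (show 1 ≤ X.e by have := X.two_le_e; omega)] at hr hle hg2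
    linarith

/-- Characters of degree `u p + 1`. -/
noncomputable def Xa : Finset (IrrCharacter G) :=
  B.Xs.filter fun χ => B.sgn χ = 1 ∧ charDegree (χ : G → ℂ) = X.u * p + 1

/-- Characters of degree `g`. -/
noncomputable def Xg : Finset (IrrCharacter G) :=
  B.Xs.filter fun χ => B.sgn χ = 1 ∧ charDegree (χ : G → ℂ) = X.g

/-- Characters of degree `p - 1`. -/
noncomputable def Xc : Finset (IrrCharacter G) :=
  B.Xs.filter fun χ => B.sgn χ = -1 ∧ charDegree (χ : G → ℂ) = p - 1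

/-- Characters of degree `v (p + u + 1)`. -/
noncomputable def Xb : Finset (IrrCharacter G) :=
  B.Xs.filter fun χ => B.sgn χ = -1 ∧ charDegree (χ : G → ℂ) = X.v * (p + X.u + 1)

theorem one_lt_v : 1 < X.v := by have := X.hu; have := X.huv; omega

theorem p_sub_one_lt_b : p - 1 < X.v * (p + X.u + 1) :=
  lt_of_lt_of_le (show p - 1 < 1 * (p + X.u + 1) by omega)
    (Nat.mul_le_mul_right _ B.one_lt_v.le)

theorem sum_X {β : Type*} [AddCommMonoid β] (f : IrrCharacter G → β) :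
    ∑ χ ∈ B.Xs, f χ = f trivialIrr + ∑ χ ∈ B.Xa, f χ + ∑ χ ∈ B.Xg, f χ + ∑ χ ∈ B.Xc, f χ +
      ∑ χ ∈ B.Xb, f χ := by
  have ha := B.a_lt_g
  have hb := B.p_sub_one_lt_b
  have hsplit : B.Xs.erase trivialIrr = ((B.Xa ∪ B.Xg) ∪ B.Xc) ∪ B.Xb := by
    ext χ
    simp only [Xa, Xg, Xc, Xb, Finset.mem_erase, Finset.mem_union, Finset.mem_filter]
    constructor
    · rintro ⟨hne, hχ⟩
      rcases B.signX χ hχ with h | h
      · rcases B.deg_plus hχ hne h with e | e <;> tauto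
      · rcases B.deg_minus hχ h with e | e <;> tauto
    · intro h
      have hne : ∀ {s : ℤ} {D : ℕ}, B.sgn χ = s → charDegree (χ : G → ℂ) = D → 1 < D →
          χ ≠ trivialIrr := fun _ hD h1 e => by rw [e, X.charDegree_triv] at hD; omega
      have hp5 := X.five_le_p
      have hup : 0 < X.u * p := Nat.mul_pos X.hu hp.out.pos
      rcases h with ((⟨h, h1, h2⟩ | ⟨h, h1, h2⟩) | ⟨h, h1, h2⟩) | ⟨h, h1, h2⟩ <;>
        exact ⟨hne h1 h2 (by omega), h⟩
  rw [← Finset.add_sum_erase _ _ B.trivX, hsplit, Finset.sum_union, Finset.sum_union,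
    Finset.sum_union, ← add_assoc, ← add_assoc, ← add_assoc]
  all_goals
    simp only [Finset.disjoint_left, Finset.mem_union, Xa, Xg, Xc, Xb, Finset.mem_filter]
    intro χ h1 h2
    omega

theorem card_eq : X.e = 1 + B.Xa.card + B.Xg.card + B.Xc.card + B.Xb.card := by
  rw [← B.cardX]
  simpa using B.sum_X (fun _ => (1 : ℕ))

theorem relation : B.ε * (B.d : ℤ) = 1 + (B.Xa.card : ℤ) * (X.u * p + 1) +
    (B.Xg.card : ℤ) * X.g - (B.Xc.card : ℤ) * ((p : ℤ) - 1) -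
    (B.Xb.card : ℤ) * (((X.v : ℤ) + 1) * p - 1) := by
  have hb : ((X.v * (p + X.u + 1) : ℕ) : ℤ) = ((X.v : ℤ) + 1) * p - 1 := by
    have h := congrArg (Nat.cast (R := ℤ)) (Arith.b_eq X.hpv)
    push_cast at h ⊢
    linarith
  rw [B.rel_one_int, B.sum_X, B.sgn_triv, X.charDegree_triv,
    Finset.sum_congr rfl (g := fun _ => ((X.u * p + 1 : ℕ) : ℤ)) (fun χ hχ => by
      obtain ⟨-, h1, h2⟩ := Finset.mem_filter.1 hχ; rw [h1, h2, one_mul]),
    Finset.sum_congr (s₁ := B.Xg) rfl (g := fun _ => (X.g : ℤ)) (fun χ hχ => by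
      obtain ⟨-, h1, h2⟩ := Finset.mem_filter.1 hχ; rw [h1, h2, one_mul]),
    Finset.sum_congr (s₁ := B.Xc) rfl (g := fun _ => -((p : ℤ) - 1)) (fun χ hχ => by
      obtain ⟨-, h1, h2⟩ := Finset.mem_filter.1 hχ
      rw [h1, h2, Nat.cast_sub hp.out.one_le]; push_cast; ring),
    Finset.sum_congr (s₁ := B.Xb) rfl (g := fun _ => -(((X.v : ℤ) + 1) * p - 1)) (fun χ hχ => by
      obtain ⟨-, h1, h2⟩ := Finset.mem_filter.1 hχ
      rw [h1, h2, hb]; ring),
    Finset.sum_const, Finset.sum_const, Finset.sum_const, Finset.sum_const, nsmul_eq_mul,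
    nsmul_eq_mul, nsmul_eq_mul, nsmul_eq_mul]
  push_cast
  ring

/-- The relation between the counts. -/
theorem star {k : ℤ} (h : (B.d : ℤ) = B.ε * X.e + p * k) :
    B.ε * k = (B.Xa.card : ℤ) * X.u + (B.Xg.card : ℤ) * X.n - B.Xc.card -
      (B.Xb.card : ℤ) * ((X.v : ℤ) + 1) := by
  have hr := B.relation
  have he : (X.e : ℤ) = 1 + B.Xa.card + B.Xg.card + B.Xc.card + B.Xb.card := by
    exact_mod_cast B.card_eq
  have hg : (X.g : ℤ) = 1 + (X.n : ℤ) * p := by rw [Ctx.g]; push_cast; ring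
  have hε2 : B.ε * B.ε = 1 := by rcases B.hε with e | e <;> rw [e] <;> norm_num
  refine mul_left_cancel₀ (show (p : ℤ) ≠ 0 by exact_mod_cast hp.out.ne_zero) ?_
  rw [h, hg] at hr
  linear_combination hr - he - (X.e : ℤ) * hε2

/-- The four shapes of the exceptional degree. -/
theorem shape : (B.ε = 1 ∧ B.d = X.e) ∨
    (B.ε = 1 ∧ ∃ k, X.t * k = X.v ∧ B.d = X.e + p * k) ∨
    (B.ε = -1 ∧ ∃ k, X.t * k = X.u + 1 ∧ B.d + X.e = p * k) ∨
    (B.ε = -1 ∧ ∃ k, X.t * k = X.n + 1 ∧ B.d + X.e = p * k) := by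
  have hp2 := hp.out.two_le
  have het := X.e_mul_t
  rcases B.hε with h | h
  · rcases B.td_pos h with e | e
    · exact Or.inl ⟨h, e⟩
    · refine Or.inr (Or.inl ⟨h, ?_⟩)
      have hd := (B.degY B.θ B.θ_mem).symm.dvd
      rw [h, one_mul] at hd
      obtain ⟨k, hk⟩ := hd
      have e' : (X.t : ℤ) * B.d = ((X.v : ℤ) + 1) * p - 1 := by
        have h1 := congrArg (Nat.cast (R := ℤ)) e
        have h2 := congrArg (Nat.cast (R := ℤ)) (Arith.b_eq X.hpv)
        push_cast at h1 h2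
        linarith
      have het' : (X.e : ℤ) * X.t = (p : ℤ) - 1 := by
        rw [show (p : ℤ) - 1 = ((p - 1 : ℕ) : ℤ) by omega]; exact_mod_cast het
      have hk' : (X.t : ℤ) * k = X.v := mul_left_cancel₀ (show (p : ℤ) ≠ 0 by omega) (by
        linear_combination e' - (X.t : ℤ) * hk - het')
      have hk0 : 0 ≤ k := by
        by_contra hk0
        have : (X.t : ℤ) * k ≤ 0 :=
          mul_nonpos_of_nonneg_of_nonpos (by positivity) (by omega)
        have := B.one_lt_v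
        omega
      lift k to ℕ using hk0
      refine ⟨k, by exact_mod_cast hk', ?_⟩
      have : (B.d : ℤ) = ((X.e + p * k : ℕ) : ℤ) := by push_cast; linarith
      exact_mod_cast this
  · have hd := (B.degY B.θ B.θ_mem).symm.dvd
    rw [h, neg_one_mul, sub_neg_eq_add] at hd
    have hd' : p ∣ B.d + X.e := by exact_mod_cast hd
    obtain ⟨k, hk⟩ := hd'
    have key : ∀ m, X.t * B.d = m * p + 1 → X.t * k = m + 1 := fun m hm => by
      refine Nat.eq_of_mul_eq_mul_left hp.out.pos ?_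
      rw [mul_left_comm, ← hk, mul_add, hm, mul_comm X.t X.e, het, mul_add, mul_one, mul_comm m]
      omega
    rcases B.td_neg h with e | e
    · exact Or.inr (Or.inr (Or.inl ⟨h, k, key _ e, hk⟩))
    · exact Or.inr (Or.inr (Or.inr ⟨h, k, key _ (by rw [e, Ctx.g, add_comm]), hk⟩))

theorem dvd_e_of_a {χ : IrrCharacter G} (h : χ ∈ B.Xa) : X.u + 1 ∣ X.e := by
  obtain ⟨h1, -, h2⟩ := Finset.mem_filter.1 h
  have hd := B.dvd_X h1
  rw [h2, Arith.a_eq X.hpv, X.g_eq, ← mul_assoc, mul_comm X.e, mul_assoc, mul_comm (X.u + 1)] at hd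
  exact (Arith.coprime_succ X.hpv).dvd_of_dvd_mul_right
    (Nat.dvd_of_mul_dvd_mul_left (by positivity) hd)

theorem dvd_e_of_b {χ : IrrCharacter G} (h : χ ∈ B.Xb) : X.v ∣ X.e := by
  obtain ⟨h1, -, h2⟩ := Finset.mem_filter.1 h
  have hd := B.dvd_X h1
  rw [h2, X.g_eq, ← mul_assoc] at hd
  exact (Arith.coprime_v X.u X.v).dvd_of_dvd_mul_right
    (Nat.dvd_of_mul_dvd_mul_right (by omega) hd)

theorem t_dvd_g_of_c {χ : IrrCharacter G} (h : χ ∈ B.Xc) : X.t ∣ X.g := by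
  obtain ⟨h1, -, h2⟩ := Finset.mem_filter.1 h
  have hd := B.dvd_X h1
  rw [h2, ← X.e_mul_t] at hd
  exact Nat.dvd_of_mul_dvd_mul_left (by have := X.two_le_e; omega) hd

/-- A principal character without fixed points of `P` kills `C₀`. -/
theorem C0_eq_bot {χ : IrrCharacter G} (hχ : χ ∈ principalBlock B.M G) (hne : χ ≠ trivialIrr)
    (hsum : ∑ u : (X.P : Subgroup G), (χ : G → ℂ) (u : G) = 0) : X.C0 = ⊥ := by
  refine (Subgroup.eq_bot_iff_forall _).2 fun v hv => ?_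
  obtain ⟨n, ρ, hρ, he⟩ := χ.2
  let ρP : Representation ℂ (X.P : Subgroup G) (Fin n → ℂ) := ρ.comp (X.P : Subgroup G).subtype
  haveI : Invertible (Fintype.card (X.P : Subgroup G) : ℂ) :=
    invertibleOfNonzero (Nat.cast_ne_zero.2 Fintype.card_pos.ne')
  have hproj := Representation.isProj_averageMap ρP
  have htr : LinearMap.trace ℂ _ ρP.averageMap = 0 := by
    rw [Representation.averageMap, GroupAlgebra.average, map_smul, map_sum]
    simp only [MonoidAlgebra.of_apply, Representation.asAlgebraHom_single_one, map_smul, map_sum]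
    rw [← smul_zero (⅟(Fintype.card (X.P : Subgroup G) : ℂ))]
    congr 1
    rw [← hsum]
    exact Finset.sum_congr (by ext; simp) fun u _ => by rw [← he]; rfl
  rw [hproj.trace, Nat.cast_eq_zero, Submodule.finrank_eq_zero] at htr
  have hzero : ρP.averageMap = 0 := by
    refine LinearMap.ext fun w => ?_
    have := Representation.averageMap_invariant ρP w
    rw [htr, Submodule.mem_bot] at this
    exact this
  have hsum0 : ∑ u : (X.P : Subgroup G), ρ (u : G) = 0 := by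
    rw [Representation.averageMap, GroupAlgebra.average, map_smul, map_sum] at hzero
    simp only [MonoidAlgebra.of_apply, Representation.asAlgebraHom_single_one] at hzero
    exact (smul_eq_zero.1 hzero).resolve_left (Invertible.ne_zero _)
  have hsv : ∑ u : (X.P : Subgroup G), (χ : G → ℂ) ((u : G) * v) = 0 := by
    simp only [← he, Representation.character, map_mul]
    rw [← map_sum, ← Finset.sum_mul, hsum0, zero_mul, map_zero]
  rw [← Finset.add_sum_erase _ _ (Finset.mem_univ (1 : (X.P : Subgroup G))), Subgroup.coe_one,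
    one_mul, Finset.sum_congr rfl fun (u : (X.P : Subgroup G)) hu => B.val_mul hχ u.2
      (fun e => Finset.ne_of_mem_erase hu (Subtype.ext e)) hv] at hsv
  have hs2 : (χ : G → ℂ) 1 + ∑ u ∈ Finset.univ.erase (1 : (X.P : Subgroup G)),
      (χ : G → ℂ) (u : G) = 0 := by
    rw [← hsum, ← Finset.add_sum_erase _ _ (Finset.mem_univ (1 : (X.P : Subgroup G))),
      Subgroup.coe_one]
  have hval : (χ : G → ℂ) v = (χ : G → ℂ) 1 := by linear_combination hsv - hs2
  have hker : v ∈ ρ.ker := by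
    refine MonoidHom.mem_ker.2 ?_
    have h2 : ρ.character v = ρ.character 1 := by rw [he, hval]
    rw [Representation.char_one] at h2
    rw [Module.End.one_eq_id, ← CharBasic.character_eq_finrank_iff ρ]
    exact h2
  haveI := X.simple
  rcases (MonoidHom.normal_ker ρ).eq_bot_or_eq_top with e | e
  · rwa [e, mem_bot] at hker
  · exfalso
    have h1 := X.one_lt_degree hne
    obtain ⟨x, hx, hx1⟩ := X.exists_gen X.P
    have hall : ∀ u : G, (χ : G → ℂ) u = (χ : G → ℂ) 1 := fun u => by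
      rw [← he]
      show LinearMap.trace ℂ _ (ρ u) = LinearMap.trace ℂ _ (ρ 1)
      rw [MonoidHom.mem_ker.1 (e ▸ mem_top u : u ∈ ρ.ker), map_one ρ]
    simp only [hall, Finset.sum_const, nsmul_eq_mul, apply_one_eq_charDegree, mul_eq_zero,
      Nat.cast_eq_zero, Finset.card_univ] at hsum
    rcases hsum with h | h
    · exact Fintype.card_ne_zero h
    · omega

theorem sum_P_X {χ : IrrCharacter G} (hχ : χ ∈ B.Xs) [Fintype (X.P : Subgroup G)] :
    ∑ u : (X.P : Subgroup G), (χ : G → ℂ) (u : G) =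
      (charDegree (χ : G → ℂ) : ℂ) + ((p : ℂ) - 1) * (B.sgn χ : ℂ) := by
  rw [← Finset.add_sum_erase _ _ (Finset.mem_univ (1 : (X.P : Subgroup G))), Subgroup.coe_one,
    apply_one_eq_charDegree, Finset.sum_congr rfl fun (u : (X.P : Subgroup G)) hu =>
      B.val_P hχ u.2 fun e => Finset.ne_of_mem_erase hu (Subtype.ext e), Finset.sum_const,
    Finset.card_erase_of_mem (Finset.mem_univ _), Finset.card_univ, ← Nat.card_eq_fintype_card,
    X.card_P, nsmul_eq_mul, Nat.cast_sub hp.out.one_le, Nat.cast_one]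

theorem C0_bot_of_c {χ : IrrCharacter G} (h : χ ∈ B.Xc) : X.C0 = ⊥ := by
  obtain ⟨h1, h2, h3⟩ := Finset.mem_filter.1 h
  refine B.C0_eq_bot ((B.mem_iff χ).2 (Or.inl h1))
    (fun e => by rw [e, B.sgn_triv] at h2; omega) ?_
  rw [B.sum_P_X h1, h2, h3, Nat.cast_sub hp.out.one_le]
  push_cast
  ring

theorem C0_bot_of_zero (h : B.ε = 1) (hd : B.d = X.e) : X.C0 = ⊥ := by
  refine B.C0_eq_bot B.mem_block_θ B.θ_ne ?_
  have h1 := B.sumY B.θ B.θ_mem
  rw [apply_one_eq_charDegree, h, show charDegree (B.θ : G → ℂ) = X.e from hd, Int.cast_one,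
    one_mul, sub_self] at h1
  convert h1

end Blk

end Cfsg.Agent.H78.BR
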