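import Mathlib.Data.Nat.Prime.Basic
import Mathlib.Tactic.NormNum.Prime
import Mathlib.Tactic.Linarith
import Mathlib.Tactic.Ring
import Mathlib.Tactic.IntervalCases
import Mathlib.Data.Int.ModEq
import Mathlib.Algebra.Order.BigOperators.Group.Finset
import Mathlib.Algebra.BigOperators.Ring.Finset

/-!
# The arithmetic of monomial characters of degree `g`
-/

namespace Cfsg.Agent.H78.BR.MonoArith

variable {p n e A K Z : ℕ}

theorem top_p {A : ℕ} (hp : 5 ≤ p) (hn : n < p) (hA : 2 ≤ A)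
    (h : A * ((p - 1) * (p - 1)) ≤ 2 * (n * p)) : n + 1 = p ∧ A ≤ 2 := by
  obtain ⟨q, rfl⟩ : ∃ q, p = q + 1 := ⟨p - 1, by omega⟩
  simp only [Nat.add_sub_cancel] at h
  have h1 : 2 * (q * q) ≤ A * (q * q) := Nat.mul_le_mul_right _ hA
  refine ⟨?_, ?_⟩
  · by_contra hne
    have h2 : n * (q + 1) ≤ (q - 1) * (q + 1) := Nat.mul_le_mul_right _ (by omega)
    obtain ⟨r, rfl⟩ : ∃ r, q = r + 1 := ⟨q - 1, by omega⟩
    simp only [Nat.add_sub_cancel] at h2
    nlinarith
  · by_contra hne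
    have h3 : 3 * (q * q) ≤ A * (q * q) := Nat.mul_le_mul_right _ (by omega)
    have h2 : n * (q + 1) ≤ q * (q + 1) := Nat.mul_le_mul_right _ (by omega)
    nlinarith

theorem arith_split (hp : p.Prime) (hp5 : 5 ≤ p) (hn : n < p) (hep : e ∣ p - 1)
    (hK : 1 ≤ K) (hK3 : 3 * K + 1 ≤ e) (hA : e ≤ K + A + 1)
    (hcol : A * ((p - 1) * (p - 1)) ≤ Z) (hZ : 2 * Z ≤ e * (n * p)) :
    e = 4 ∧ K = 1 ∧ A ≤ 2 ∧ n + 1 = p := by
  obtain ⟨q, rfl⟩ : ∃ q, p = q + 1 := ⟨p - 1, by omega⟩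
  simp only [Nat.add_sub_cancel] at hep hcol
  have hn' : n * (q + 1) ≤ q * (q + 1) := Nat.mul_le_mul_right _ (by omega)
  have h1 : e * (n * (q + 1)) ≤ e * (q * (q + 1)) := Nat.mul_le_mul_left _ hn'
  have h2 : 2 * (e - 1) * (q * q) ≤ 3 * A * (q * q) := Nat.mul_le_mul_right _ (by omega)
  have h3 : 4 * (e - 1) * q ≤ 3 * e * (q + 1) := by
    refine Nat.le_of_mul_le_mul_right ?_ (show 0 < q by omega)
    nlinarith
  have hqe : e ≤ q := Nat.le_of_dvd (by omega) hep
  obtain ⟨j, rfl⟩ : ∃ j, e = j + 4 := ⟨e - 4, by omega⟩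
  rw [show j + 4 - 1 = j + 3 by omega] at h2 h3
  rcases Nat.eq_zero_or_pos j with rfl | hj
  · have hK1 : K = 1 := by omega
    have h4 : A * (q * q) ≤ 2 * (n * (q + 1)) := by omega
    obtain ⟨h5, h6⟩ := top_p (A := A) (p := q + 1) hp5 hn (by omega) (by simpa using h4)
    exact ⟨rfl, hK1, h6, h5⟩
  exfalso
  have hj3 : j ≤ 3 := by
    by_contra hc
    have : 4 * q ≤ j * q := Nat.mul_le_mul_right _ (by omega)
    nlinarith
  have hq : q ≤ 15 := by
    have : 1 * q ≤ j * q := Nat.mul_le_mul_right _ hj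
    nlinarith
  interval_cases j <;> interval_cases q <;> first | omega | norm_num at hp

theorem arith_single {a : ℕ} (hp : p.Prime) (hp5 : 5 ≤ p) (hn : n < p) (hep : e ∣ p - 1)
    (ha : a ∣ e) (hK : 1 ≤ K) (hK2 : 2 * K + a ≤ e) (hA : e ≤ K + A + 1)
    (hcol : A * ((p - 1) * (p - 1)) ≤ Z) (hZ : Z ≤ a * (n * p)) :
    n + 1 = p ∧ 1 ≤ A ∧ (e = 3 ∨ (e = 4 ∧ K = 1 ∧ A ≤ 2)) := by
  obtain ⟨q, rfl⟩ : ∃ q, p = q + 1 := ⟨p - 1, by omega⟩
  simp only [Nat.add_sub_cancel] at hep hcol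
  have hqe : e ≤ q := Nat.le_of_dvd (by omega) hep
  have ha0 : 0 < a := Nat.pos_of_dvd_of_pos ha (by omega)
  have hn' : n * (q + 1) ≤ q * (q + 1) := Nat.mul_le_mul_right _ (by omega)
  have h1 : a * (n * (q + 1)) ≤ a * (q * (q + 1)) := Nat.mul_le_mul_left _ hn'
  have h2 : (e + a - 2) * (q * q) ≤ 2 * A * (q * q) := Nat.mul_le_mul_right _ (by omega)
  have h3 : (e + a - 2) * q ≤ 2 * a * (q + 1) := by
    refine Nat.le_of_mul_le_mul_right ?_ (show 0 < q by omega)
    nlinarith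
  obtain ⟨j, rfl⟩ : ∃ j, e = a + 2 + j := ⟨e - a - 2, by omega⟩
  rw [show a + 2 + j + a - 2 = 2 * a + j by omega] at h2 h3
  have hj : j * q ≤ 2 * a := by nlinarith
  have hja : j ≤ 1 := by
    by_contra hc
    have : 2 * q ≤ j * q := Nat.mul_le_mul_right _ (by omega)
    omega
  rcases Nat.le_one_iff_eq_zero_or_eq_one.1 hja with rfl | rfl
  · -- `e = a + 2`
    have ha2 : a ∣ 2 := by
      rw [add_zero] at ha
      exact (Nat.dvd_add_right dvd_rfl).1 ha
    have := Nat.le_of_dvd (by omega) ha2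
    interval_cases a
    · refine ⟨?_, by omega, Or.inl rfl⟩
      by_contra hne
      have h4 : n * (q + 1) ≤ (q - 1) * (q + 1) := Nat.mul_le_mul_right _ (by omega)
      have h5 : 1 * (q * q) ≤ A * (q * q) := Nat.mul_le_mul_right _ (by omega)
      obtain ⟨r, rfl⟩ : ∃ r, q = r + 1 := ⟨q - 1, by omega⟩
      simp only [Nat.add_sub_cancel] at h4
      nlinarith
    · obtain ⟨h5, h6⟩ := top_p (p := q + 1) hp5 hn (show 2 ≤ A by omega)
        (by simpa using hcol.trans hZ)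
      exact ⟨h5, by omega, Or.inr ⟨rfl, by omega, h6⟩⟩
  · -- `e = a + 3`
    have ha3 : a ∣ 3 := by
      rw [show a + 2 + 1 = a + 3 by omega] at ha
      exact (Nat.dvd_add_right dvd_rfl).1 ha
    have := Nat.le_of_dvd (by omega) ha3
    exfalso
    have : q ≤ 6 := by omega
    interval_cases a <;> interval_cases q <;> omega

/-- The residues moved and killed at the same time are at most `e - a`. -/
theorem count_moved {a : ℕ} (ha : a ∣ e) (he : 0 < e) (k : ℤ) (S : Finset ℕ)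
    (hS : ∀ j ∈ S, j < e ∧ (a : ℤ) ∣ k * j ∧ ¬ (e : ℤ) ∣ k * j) : S.card + a ≤ e := by
  rcases eq_or_ne a e with rfl | hne
  · rw [Finset.eq_empty_of_forall_notMem fun j hj => (hS j hj).2.2 (hS j hj).2.1]
    simp
  have ha0 : 0 < a := Nat.pos_of_dvd_of_pos ha he
  obtain ⟨m, rfl⟩ := ha
  by_cases hk : (a : ℤ) ∣ k
  · obtain ⟨c, rfl⟩ := hk
    have hm0 : 0 < m := Nat.pos_of_mul_pos_left he
    have hinj : ((Finset.range a).image fun i => m * i).card = a := by
      rw [Finset.card_image_of_injective _ fun x y h => Nat.eq_of_mul_eq_mul_left hm0 h,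
        Finset.card_range]
    have hdis : Disjoint S ((Finset.range a).image fun i => m * i) := by
      refine Finset.disjoint_left.2 fun j hj hj' => ?_
      obtain ⟨i, -, rfl⟩ := Finset.mem_image.1 hj'
      exact (hS _ hj).2.2 ⟨c * i, by push_cast; ring⟩
    have hsub : S ∪ (Finset.range a).image (fun i => m * i) ⊆ Finset.range (a * m) := by
      refine Finset.union_subset (fun j hj => Finset.mem_range.2 (hS j hj).1) fun j hj => ?_
      obtain ⟨i, hi, rfl⟩ := Finset.mem_image.1 hj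
      rw [Finset.mem_range] at hi ⊢
      rw [mul_comm a]
      exact Nat.mul_lt_mul_of_pos_left hi hm0
    have := Finset.card_le_card hsub
    rw [Finset.card_union_of_disjoint hdis, hinj, Finset.card_range] at this
    exact this
  · have hm2 : 2 ≤ m := by
      rcases (show m = 0 ∨ m = 1 ∨ 2 ≤ m by omega) with h | h | h
      · rw [h, mul_zero] at he; omega
      · rw [h, mul_one] at hne; exact absurd rfl hne
      · exact h
    have hmaps : ∀ j ∈ S, (j + 1) % (a * m) ∈ Finset.range (a * m) \ S := by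
      intro j hj
      refine Finset.mem_sdiff.2 ⟨Finset.mem_range.2 (Nat.mod_lt _ he), fun h => hk ?_⟩
      have h1 := (hS _ h).2.1
      have h2 := (hS j hj).2.1
      have h3 : (((j + 1) % (a * m) : ℕ) : ℤ) = (j : ℤ) + 1 -
          ((a : ℤ) * m) * (((j + 1) / (a * m) : ℕ) : ℤ) := by
        have := congrArg (Nat.cast (R := ℤ)) (Nat.mod_add_div (j + 1) (a * m))
        push_cast at this ⊢
        linarith
      rw [h3] at h1
      have h4 : k = k * ((j : ℤ) + 1 - (a : ℤ) * m * (((j + 1) / (a * m) : ℕ) : ℤ)) - k * j +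
          (a : ℤ) * (k * m * (((j + 1) / (a * m) : ℕ) : ℤ)) := by ring
      rw [h4]
      exact dvd_add (dvd_sub h1 h2) (dvd_mul_right _ _)
    have hinj : Set.InjOn (fun j => (j + 1) % (a * m)) (S : Set ℕ) := by
      intro x hx y hy h
      have h1 : x + 1 ≡ y + 1 [MOD a * m] := h
      exact (Nat.ModEq.add_right_cancel' 1 h1).eq_of_lt_of_lt (hS x hx).1 (hS y hy).1
    have h2 := Finset.card_le_card_of_injOn _ hmaps hinj
    rw [Finset.card_sdiff_of_subset (fun j hj => Finset.mem_range.2 (hS j hj).1),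
      Finset.card_range] at h2
    have h3 : a * 2 ≤ a * m := Nat.mul_le_mul_left _ hm2
    omega

/-- Differences between residues in different classes. -/
theorem spread {ι : Type*} [Fintype ι] [DecidableEq ι] {p : ℤ} (hp : 1 ≤ p) (w δ m : ι → ℤ)
    (hδ : ∀ i j, |δ i - δ j| ≤ 1) (hm : ∀ i, m i = p * w i + δ i) (h : ∃ i j, w i ≠ w j) :
    2 * (((Fintype.card ι : ℤ) - 1) * (p - 1) ^ 2) ≤ ∑ i, ∑ j, (m i - m j) ^ 2 := by
  obtain ⟨a, b, hab⟩ := h
  have hne : a ≠ b := fun e => hab (e ▸ rfl)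
  set c := (p - 1) ^ 2 with hc
  have hc0 : 0 ≤ c := sq_nonneg _
  have key : ∀ i j, w i ≠ w j → c ≤ (m i - m j) ^ 2 := by
    intro i j hij
    rw [hm i, hm j, show p * w i + δ i - (p * w j + δ j) = p * (w i - w j) + (δ i - δ j) by ring]
    obtain ⟨l, r⟩ := abs_le.1 (hδ i j)
    rcases lt_or_gt_of_ne hij with h | h
    · have h1 : p * (w i - w j) ≤ p * (-1) := mul_le_mul_of_nonneg_left (by omega) (by omega)
      have h2 : 0 ≤ (p - 1) := by omega
      nlinarith
    · have h1 : p * 1 ≤ p * (w i - w j) := mul_le_mul_of_nonneg_left (by omega) (by omega)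
      have h2 : 0 ≤ (p - 1) := by omega
      nlinarith
  have hrow : ∀ i, c ≤ (m i - m a) ^ 2 + (m i - m b) ^ 2 := fun i => by
    rcases eq_or_ne (w i) (w a) with e | e
    · exact le_add_of_nonneg_of_le (sq_nonneg _) (key i b (e ▸ hab))
    · exact le_add_of_le_of_nonneg (key i a e) (sq_nonneg _)
  have hnn : ∀ i j, 0 ≤ (m i - m j) ^ 2 := fun i j => sq_nonneg _
  set R := ((Finset.univ : Finset ι).erase a).erase b with hR
  have hsplit : ∀ F : ι → ℤ, ∑ i, F i = F a + (F b + ∑ i ∈ R, F i) := fun F => by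
    rw [hR, ← Finset.add_sum_erase _ _ (Finset.mem_univ a),
      ← Finset.add_sum_erase _ _ (Finset.mem_erase.2 ⟨hne.symm, Finset.mem_univ b⟩)]
  have hcard : (R.card : ℤ) = (Fintype.card ι : ℤ) - 2 := by
    have := hsplit fun _ => 1
    simp at this
    linarith
  have e1 : ∑ i ∈ R, ((m i - m a) ^ 2 + (m i - m b) ^ 2) ≥ R.card * c := by
    have := Finset.card_nsmul_le_sum R _ c fun i _ => hrow i
    simpa [nsmul_eq_mul] using this
  have e2 : ∀ i ∈ R, (m i - m a) ^ 2 + (m i - m b) ^ 2 ≤ ∑ j, (m i - m j) ^ 2 := fun i _ => by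
    rw [hsplit]
    have : 0 ≤ ∑ j ∈ R, (m i - m j) ^ 2 := Finset.sum_nonneg fun j _ => hnn i j
    linarith
  have e3 := Finset.sum_le_sum e2
  rw [hsplit, hsplit (fun j => (m a - m j) ^ 2), hsplit (fun j => (m b - m j) ^ 2)]
  have e4 : ∑ i ∈ R, ((m i - m a) ^ 2 + (m i - m b) ^ 2) =
      ∑ i ∈ R, (m a - m i) ^ 2 + ∑ i ∈ R, (m b - m i) ^ 2 := by
    rw [← Finset.sum_add_distrib]
    exact Finset.sum_congr rfl fun i _ => by ring
  have h5 : c ≤ (m a - m b) ^ 2 := key a b hab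
  have h6 : c ≤ (m b - m a) ^ 2 := key b a hab.symm
  have h7 : (m a - m a) ^ 2 = 0 := by ring
  have h8 : (m b - m b) ^ 2 = 0 := by ring
  rw [hcard] at e1
  linarith

end Cfsg.Agent.H78.BR.MonoArith
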