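import Cfsg.Agent.H78.BR.Psi
import Cfsg.Agent.H78.BR.MonoArith
import Cfsg.Agent.CharInduce.Induce

/-!
# The column of an element of prime order of `C₀`
-/

set_option linter.unusedSectionVars false
set_option linter.style.haveILetI false

open scoped Classical ComplexConjugate

namespace Cfsg.Agent.H78.BR

open Subgroup CharBasic CharInduce BlockBasic

universe u

variable {G : Type u} [Group G] [Fintype G] {p : ℕ} [hp : Fact p.Prime]

namespace Ctx

variable (X : Ctx G p)

include X

/-- A character of degree `u p + 1` or `(v + 1) p - 1` with constant sign. -/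
def ABChar (χ : IrrCharacter G) : Prop :=
  ∃ (w : ℕ) (s : ℤ), (s = 1 ∨ s = -1) ∧ (w = X.u ∨ w = X.v + 1) ∧
    (charDegree (χ : G → ℂ) : ℤ) = p * w + s ∧
    ∀ u ∈ (X.P : Subgroup G), u ≠ 1 → ∀ y ∈ X.C0, (χ : G → ℂ) (u * y) = (s : ℂ)

/-- The multiplicities on a cyclic subgroup of `C₀`, congruent to those of the sign. -/
theorem eig_decomp {χ : IrrCharacter G} {s : ℤ}
    (hval : ∀ u ∈ (X.P : Subgroup G), u ≠ 1 → ∀ y ∈ X.C0, (χ : G → ℂ) (u * y) = (s : ℂ))
    (H : Subgroup G) (hHC : H ≤ X.C0) [IsMulCommutative H] [Fintype H] :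
    ∃ (m : IrrCharacter H → ℕ) (W : IrrCharacter H → ℤ),
      (∀ l : IrrCharacter H, classInner (fun y : H => (χ : G → ℂ) y) (l : H → ℂ) = m l) ∧
      (∀ l : IrrCharacter H, (m l : ℤ) = p * W l + s * if l = trivialIrr then 1 else 0) ∧
      ∑ l : IrrCharacter H, (m l : ℤ) = charDegree (χ : G → ℂ) := by
  have hlin : ∀ l : IrrCharacter H, (l : H → ℂ) 1 = 1 := H85.apply_one_eq_one_of_comm
  -- the restriction to `P × H`
  let f : ↥(X.P : Subgroup G) × H →* G :=
    { toFun := fun a => (a.1 : G) * a.2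
      map_one' := by simp
      map_mul' := fun a b => by
        have h := mem_centralizer_iff.1 (X.C0_le (hHC a.2.2)) b.1 b.1.2
        simp only [Prod.fst_mul, Prod.snd_mul, Subgroup.coe_mul]
        rw [mul_assoc (a.1 : G), ← mul_assoc (b.1 : G) (a.2 : G), h]
        simp only [mul_assoc] }
  have hcl : IsClassFunction H fun y : H => (χ : G → ℂ) y := fun a b => by
    rw [mul_comm' b a, mul_inv_cancel_right]
  have hm : ∀ l : IrrCharacter H, ∃ m : ℕ,
      classInner (fun y : H => (χ : G → ℂ) y) (l : H → ℂ) = m := fun l =>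
    classInner_isChar_nat (IsChar.res (IsIrr.isCharacter χ.2) H) (IsIrr.isCharacter l.2)
  choose m hm using hm
  have hsumy : ∀ y : H, ∑ u : (X.P : Subgroup G), (χ : G → ℂ) ((u : G) * y) =
      (χ : G → ℂ) y + ((p - 1 : ℕ) : ℂ) * s := fun y => by
    rw [← Finset.add_sum_erase _ _ (Finset.mem_univ (1 : (X.P : Subgroup G))), Subgroup.coe_one,
      one_mul, Finset.sum_congr rfl fun (u : (X.P : Subgroup G)) hu => hval u u.2
        (fun e => Finset.ne_of_mem_erase hu (Subtype.ext e)) y (hHC y.2), Finset.sum_const,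
      Finset.card_erase_of_mem (Finset.mem_univ _), Finset.card_univ, ← Nat.card_eq_fintype_card,
      X.card_P, nsmul_eq_mul]
  have hM : ∀ l : IrrCharacter H, ∃ M : ℕ,
      (m l : ℂ) + ((p - 1 : ℕ) : ℂ) * s * (if l = trivialIrr then 1 else 0) = (p : ℂ) * M := by
    intro l
    obtain ⟨M, hM⟩ := classInner_isChar_nat (IsChar.comp (IsIrr.isCharacter χ.2) f)
      (IsChar.comp (IsIrr.isCharacter l.2) (MonoidHom.snd ↥(X.P : Subgroup G) H))
    refine ⟨M, ?_⟩
    have htriv : classInner ((trivialIrr : IrrCharacter H) : H → ℂ) (l : H → ℂ) =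
        if l = trivialIrr then 1 else 0 := by
      rw [classInner_irrCharacter]
      exact if_congr ⟨Eq.symm, Eq.symm⟩ rfl rfl
    rw [← hM, ← hm, ← htriv, classInner_def, classInner_def, classInner_def, Nat.card_prod, X.card_P,
      Fintype.sum_prod_type_right]
    simp only [f, MonoidHom.coe_mk, OneHom.coe_mk, MonoidHom.coe_snd, ← Finset.sum_mul, hsumy,
      add_mul, Finset.sum_add_distrib, mul_assoc]
    have htv : ∀ y : H, ((trivialIrr : IrrCharacter H) : H → ℂ) y = 1 := fun _ => rfl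
    simp only [htv, one_mul, ← Finset.mul_sum]
    have hp0 : (p : ℂ) ≠ 0 := Nat.cast_ne_zero.2 hp.out.ne_zero
    push_cast
    field_simp
  choose M hM using hM
  let δ : IrrCharacter H → ℤ := fun l => s * if l = trivialIrr then 1 else 0
  let W : IrrCharacter H → ℤ := fun l => M l - δ l
  have hmW : ∀ l, (m l : ℤ) = p * W l + δ l := fun l => by
    apply Int.cast_injective (α := ℂ)
    have h := hM l
    rw [Nat.cast_sub hp.out.one_le] at h
    simp only [W, δ]
    push_cast at h ⊢
    linear_combination h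
  have hdeg : ∑ l : IrrCharacter H, (m l : ℤ) = charDegree (χ : G → ℂ) := by
    have h := congrFun (classFunction_expansion hcl) 1
    simp only [Finset.sum_apply, Pi.smul_apply, smul_eq_mul, hlin, mul_one, hm, Subgroup.coe_one,
      apply_one_eq_charDegree] at h
    exact_mod_cast h.symm
  exact ⟨m, W, hm, fun l => hmW l, hdeg⟩

theorem eig_bound {χ : IrrCharacter G} {w : ℕ} {s : ℤ} (hs : s = 1 ∨ s = -1)
    (hd : (charDegree (χ : G → ℂ) : ℤ) = p * w + s)
    (hval : ∀ u ∈ (X.P : Subgroup G), u ≠ 1 → ∀ y ∈ X.C0, (χ : G → ℂ) (u * y) = (s : ℂ))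
    {z : G} (hz : z ∈ X.C0) (hw : ¬ orderOf z ∣ w) :
    ((orderOf z : ℝ) - 1) * ((p : ℝ) - 1) ^ 2 ≤
      ∑ y ∈ (Finset.univ : Finset (zpowers z)).erase 1, Complex.normSq ((χ : G → ℂ) (y : G)) := by
  set H := zpowers z with hH
  have hHC : H ≤ X.C0 := zpowers_le.2 hz
  haveI : IsCyclic H := isCyclic_iff_exists_zpowers_eq_top.2 ⟨⟨z, mem_zpowers z⟩, by
    refine eq_top_iff.2 fun y _ => ?_
    obtain ⟨i, hi⟩ := y.2
    exact ⟨i, Subtype.ext (by simpa using hi)⟩⟩
  haveI : IsMulCommutative H := IsCyclic.isMulCommutative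
  set r := orderOf z with hrdef
  have hcH : Nat.card H = r := Nat.card_zpowers z
  have hlin : ∀ l : IrrCharacter H, (l : H → ℂ) 1 = 1 := H85.apply_one_eq_one_of_comm
  have hcard : Fintype.card (IrrCharacter H) = r := by
    have h := sum_sq_degree (G := H)
    simp only [hlin, one_pow, Finset.sum_const, Finset.card_univ, nsmul_eq_mul, mul_one,
      Nat.cast_inj] at h
    rw [h, hcH]
  obtain ⟨m, W, hm, hmW', hdeg⟩ := X.eig_decomp hval H hHC
  let δ : IrrCharacter H → ℤ := fun l => s * if l = trivialIrr then 1 else 0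
  have hmW : ∀ l, (m l : ℤ) = p * W l + δ l := hmW'
  have hcl : IsClassFunction H fun y : H => (χ : G → ℂ) y := fun a b => by
    rw [mul_comm' b a, mul_inv_cancel_right]
  have hne : ∃ i j, W i ≠ W j := by
    by_contra hall
    push Not at hall
    refine hw ?_
    have h1 : ∑ l : IrrCharacter H, (m l : ℤ) = p * ((r : ℤ) * W trivialIrr) + s := by
      simp only [hmW, Finset.sum_add_distrib, ← Finset.mul_sum, hall _ trivialIrr,
        Finset.sum_const, Finset.card_univ, hcard, nsmul_eq_mul, δ,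
        Finset.sum_ite_eq', Finset.mem_univ, if_true, mul_one]
    rw [hdeg, hd, add_left_inj, mul_right_inj' (Nat.cast_ne_zero.2 hp.out.ne_zero)] at h1
    exact Int.natCast_dvd_natCast.1 ⟨_, h1⟩
  have hδ : ∀ i j, |δ i - δ j| ≤ 1 := fun i j => by
    simp only [δ]
    rcases hs with e | e <;> rw [e] <;> split_ifs <;> norm_num
  have hspread := MonoArith.spread (p := (p : ℤ)) (by exact_mod_cast hp.out.one_le) W δ
    (fun l => (m l : ℤ)) hδ hmW hne
  -- Parseval
  have hpars : ∑ y : H, Complex.normSq ((χ : G → ℂ) (y : G)) =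
      (r : ℝ) * ∑ l, ((m l : ℝ)) ^ 2 := by
    apply Complex.ofReal_injective
    have h := classInner_eq_sum (ψ := fun y : H => (χ : G → ℂ) y) hcl
    simp only [hm, Complex.conj_natCast] at h
    rw [classInner_def, inv_mul_eq_iff_eq_mul₀ (Nat.cast_ne_zero.2 Nat.card_pos.ne'), hcH] at h
    push_cast
    simp only [← Complex.mul_conj, sq]
    exact h
  have hsq : ∑ i, ∑ j, ((m i : ℤ) - m j) ^ 2 =
      2 * ((r : ℤ) * ∑ l, ((m l : ℤ)) ^ 2) - 2 * (∑ l, (m l : ℤ)) ^ 2 := by
    simp only [sub_sq, Finset.sum_add_distrib, Finset.sum_sub_distrib, Finset.sum_const,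
      Finset.card_univ, hcard, nsmul_eq_mul, ← Finset.mul_sum, ← Finset.sum_mul]
    ring
  rw [hsq, hdeg, hcard] at hspread
  have hle : ((r : ℤ) - 1) * ((p : ℤ) - 1) ^ 2 ≤
      (r : ℤ) * ∑ l, ((m l : ℤ)) ^ 2 - (charDegree (χ : G → ℂ) : ℤ) ^ 2 := by linarith
  have hle' := (Int.cast_le (R := ℝ)).2 hle
  push_cast at hle'
  rw [← hpars, ← Finset.add_sum_erase _ _ (Finset.mem_univ (1 : H)), Subgroup.coe_one,
    apply_one_eq_charDegree, Complex.normSq_natCast] at hle'
  linarith

theorem column_bound {z : G} (hz : z ∈ X.C0) (hr : (orderOf z).Prime)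
    (hu : ¬ orderOf z ∣ X.u) (hv : ¬ orderOf z ∣ X.v + 1) (AB : Finset (IrrCharacter G))
    (hAB : ∀ χ ∈ AB, X.ABChar χ) :
    AB.card * ((p - 1) * (p - 1)) ≤ Nat.card (centralizer ({z} : Set G)) := by
  set H := zpowers z with hH
  haveI := Fact.mk hr
  have hcH : Nat.card H = orderOf z := Nat.card_zpowers z
  have hcol : ∀ y ∈ (Finset.univ : Finset H).erase 1,
      ∑ χ ∈ AB, Complex.normSq ((χ : G → ℂ) (y : G)) ≤
        (Nat.card (centralizer ({z} : Set G)) : ℝ) := by
    intro y hy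
    have hy1 : (y : G) ≠ 1 := fun e => Finset.ne_of_mem_erase hy (Subtype.ext e)
    have hgen : zpowers (y : G) = H := by
      refine eq_of_le_of_card_ge (zpowers_le.2 y.2) ?_
      rw [hcH, Nat.card_zpowers]
      have hd : orderOf (y : G) ∣ orderOf z := by
        rw [← hcH, Subgroup.orderOf_coe]; exact orderOf_dvd_natCard y
      rcases (Nat.dvd_prime hr).1 hd with e | e
      · exact absurd (orderOf_eq_one_iff.1 e) hy1
      · exact e.ge
    have hcc : centralizer ({(y : G)} : Set G) = centralizer ({z} : Set G) := by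
      rw [← centralizer_closure, ← zpowers_eq_closure, hgen, hH, zpowers_eq_closure,
        centralizer_closure]
    refine (Finset.sum_le_sum_of_subset_of_nonneg (Finset.subset_univ AB)
      fun χ _ _ => Complex.normSq_nonneg _).trans (le_of_eq ?_)
    apply Complex.ofReal_injective
    rw [← hcc]
    push_cast
    simp only [← Complex.mul_conj]
    exact second_orthogonality_self _
  have h1 := Finset.sum_le_sum hcol
  rw [Finset.sum_comm, Finset.sum_const, Finset.card_erase_of_mem (Finset.mem_univ _),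
    Finset.card_univ, ← Nat.card_eq_fintype_card, hcH, nsmul_eq_mul] at h1
  have h2 : ∀ χ ∈ AB, ((orderOf z : ℝ) - 1) * ((p : ℝ) - 1) ^ 2 ≤
      ∑ y ∈ (Finset.univ : Finset H).erase 1, Complex.normSq ((χ : G → ℂ) (y : G)) := by
    intro χ hχ
    obtain ⟨w, s, hs, hw, hd, hval⟩ := hAB χ hχ
    exact X.eig_bound hs hd hval hz (by rcases hw with rfl | rfl <;> assumption)
  have h3 := (Finset.sum_le_sum h2).trans h1
  rw [Finset.sum_const, nsmul_eq_mul, Nat.cast_sub hr.one_le, Nat.cast_one, mul_left_comm] at h3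
  have hr1 : (0 : ℝ) < (orderOf z : ℝ) - 1 := by
    have : (1 : ℝ) < orderOf z := by exact_mod_cast hr.one_lt
    linarith
  have h4 := le_of_mul_le_mul_left h3 hr1
  have h5 : ((AB.card * ((p - 1) * (p - 1)) : ℕ) : ℝ) ≤
      (Nat.card (centralizer ({z} : Set G)) : ℝ) := by
    push_cast [Nat.cast_sub hp.out.one_le]
    rw [← sq]
    exact h4
  exact_mod_cast h5

end Ctx

end Cfsg.Agent.H78.BR
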