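import Cfsg.Agent.H78.BR.Block
import Cfsg.Agent.H78.BR.Column
import Cfsg.Agent.H86.SelfCentralPoints
import Cfsg.Agent.CharInduce.Det
import Cfsg.Agent.H2.RelGraph.Linear

/-!
# A self-centralizing Sylow subgroup: characters of degree `g` and determinants
-/

set_option linter.unusedSectionVars false
set_option linter.style.haveILetI false

open scoped Classical ComplexConjugate

namespace Cfsg.Agent.H78.BR

open Subgroup CharBasic BlockBasic H86.FewSylow

universe u

variable {G : Type u} [Group G] [Fintype G] {p : ℕ} [hp : Fact p.Prime]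

/-- A finite cyclic group has one subgroup of each order. -/
theorem cyclic_eq_of_card_eq {A : Type*} [Group A] [Finite A] [IsCyclic A] (H K : Subgroup A)
    (h : Nat.card H = Nat.card K) : H = K := by
  classical
  have := Fintype.ofFinite A
  have hmem : ∀ (L : Subgroup A), Nat.card L = Nat.card H →
      (Finset.univ.filter fun x : A => x ∈ L) =
        (Finset.univ.filter fun x : A => x ^ Nat.card H = 1) := by
    intro L hL
    refine Finset.eq_of_subset_of_card_le (fun x hx => ?_) ?_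
    · simp only [Finset.mem_filter, Finset.mem_univ, true_and] at hx ⊢
      rw [← hL]
      exact orderOf_dvd_iff_pow_eq_one.mp (L.orderOf_dvd_natCard hx)
    · refine (IsCyclic.card_pow_eq_one_le Nat.card_pos).trans (le_of_eq ?_)
      rw [← hL, Nat.card_eq_fintype_card, Fintype.card_subtype]
  have h1 := (hmem H rfl).trans (hmem K h.symm).symm
  ext x
  simpa using Finset.ext_iff.mp h1 x

namespace Ctx

variable (X : Ctx G p)

include X

theorem exists_sc (h : X.C0 = ⊥) : ∃ S : SC G p, S.P = X.P ∧ nn S = X.n ∧ Nat.card S.E = X.e := by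
  obtain ⟨S, hS⟩ := H86.FewSylow.exists_sc X.P X.card_P (X.cen_eq_of_bot h)
  refine ⟨S, hS, ?_, ?_⟩
  · have h1 := H86.FewSylow.card_sylow_eq S
    rw [X.card_sylow_eq] at h1
    exact (Nat.eq_of_mul_eq_mul_right hp.out.pos (by omega)).symm
  · rw [← relIndex_eq S]; show _ = (centralizer _).relIndex _; rw [← hS]

theorem eq_one_of_apply_eq {χ : IrrCharacter G} (hne : χ ≠ trivialIrr) {v : G}
    (hv : (χ : G → ℂ) v = (χ : G → ℂ) 1) : v = 1 := by
  obtain ⟨n, ρ, hρ, he⟩ := χ.2
  have hker : v ∈ ρ.ker := by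
    refine MonoidHom.mem_ker.2 ?_
    have h2 : ρ.character v = ρ.character 1 := by rw [he, hv]
    rw [Representation.char_one] at h2
    rw [Module.End.one_eq_id, ← CharBasic.character_eq_finrank_iff ρ]
    exact h2
  haveI := X.simple
  rcases (MonoidHom.normal_ker ρ).eq_bot_or_eq_top with e | e
  · rwa [e, mem_bot] at hker
  · exfalso
    have hall : ∀ u : G, (χ : G → ℂ) u = (χ : G → ℂ) 1 := fun u => by
      rw [← he]
      show LinearMap.trace ℂ _ (ρ u) = LinearMap.trace ℂ _ (ρ 1)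
      rw [MonoidHom.mem_ker.1 (e ▸ mem_top u : u ∈ ρ.ker), map_one ρ]
    have h := classInner_irrCharacter χ (trivialIrr : IrrCharacter G)
    rw [if_neg hne, classInner_def] at h
    have h1 : ∀ u : G, ((trivialIrr : IrrCharacter G) : G → ℂ) u = 1 := fun _ => rfl
    simp only [hall, h1, map_one, mul_one, Finset.sum_const, nsmul_eq_mul, Finset.card_univ,
      mul_eq_zero, inv_eq_zero, Nat.cast_eq_zero] at h
    rcases h with h | h | h
    · exact Nat.card_pos.ne' h
    · exact Fintype.card_ne_zero h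
    · exact irr_one_ne_zero χ.2 h

theorem ne_triv_of_degree {χ : IrrCharacter G} (h : 1 < charDegree (χ : G → ℂ)) :
    χ ≠ trivialIrr := fun e => by rw [e, X.charDegree_triv] at h; exact lt_irrefl 1 h

/-- The sum over the `p`-singular elements. -/
theorem sum_singular (h : X.C0 = ⊥) {A : Type*} [AddCommMonoid A] (F : G → A)
    (hF : ∀ a c : G, F (c * a * c⁻¹) = F a) :
    ∑ w ∈ Finset.univ.filter (fun w : G => p ∣ orderOf w), F w =
      X.g • ∑ u ∈ Finset.univ.filter (fun u : G => u ∈ (X.P : Subgroup G) ∧ u ≠ 1), F u := by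
  have hset : Finset.univ.filter (fun w : G => p ∣ orderOf w) =
      (Finset.univ : Finset (Sylow p G)).biUnion fun Q =>
        Finset.univ.filter fun w : G => w ∈ (Q : Subgroup G) ∧ w ≠ 1 := by
    ext w
    simp only [Finset.mem_filter, Finset.mem_univ, true_and, Finset.mem_biUnion]
    constructor
    · intro hw
      set u := w ^ (orderOf w / p) with hu
      have huo : orderOf u = p := orderOf_pow_orderOf_div (orderOf_pos w).ne' hw
      obtain ⟨Q, hQ⟩ := (IsPGroup.of_card (n := 1)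
        (by rw [Nat.card_zpowers, huo, pow_one] : Nat.card (zpowers u) = p ^ 1)).exists_le_sylow
      have hu1 : u ≠ 1 := fun e => by rw [e, orderOf_one] at huo; exact hp.out.ne_one huo.symm
      have hwc : w ∈ cen Q := X.mem_cen_of_commute (hQ (mem_zpowers u)) hu1 (Commute.self_pow w _)
      obtain ⟨c, hc⟩ := MulAction.exists_smul_eq G X.P Q
      rw [← hc, mem_cen_smul, X.cen_eq_of_bot h] at hwc
      exact ⟨Q, hc ▸ mem_smul_iff.2 hwc, fun e => by
        rw [e, orderOf_one, Nat.dvd_one] at hw; exact hp.out.ne_one hw⟩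
    · rintro ⟨Q, hwQ, hw1⟩
      rw [X.orderOf_mem hwQ hw1]
  rw [hset, Finset.sum_biUnion]
  · rw [Finset.sum_congr rfl (g := fun _ =>
      ∑ u ∈ Finset.univ.filter (fun u : G => u ∈ (X.P : Subgroup G) ∧ u ≠ 1), F u) fun Q _ => ?_,
      Finset.sum_const, Finset.card_univ, ← Nat.card_eq_fintype_card, X.card_sylow_eq]
    obtain ⟨c, rfl⟩ := MulAction.exists_smul_eq G X.P Q
    refine Finset.sum_bij' (fun w _ => c⁻¹ * w * c) (fun u _ => c * u * c⁻¹) ?_ ?_ ?_ ?_ ?_
    · intro w hw
      obtain ⟨h1, h2⟩ := (Finset.mem_filter.1 hw).2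
      refine Finset.mem_filter.2 ⟨Finset.mem_univ _, mem_smul_iff.1 h1, fun e => h2 ?_⟩
      rw [show w = c * (c⁻¹ * w * c) * c⁻¹ by group, e]; group
    · intro u hu
      obtain ⟨h1, h2⟩ := (Finset.mem_filter.1 hu).2
      refine Finset.mem_filter.2 ⟨Finset.mem_univ _, mem_smul_iff.2 (by simpa [mul_assoc] using h1),
        by rwa [Ne, conj_eq_one_iff]⟩
    · intros; group
    · intros; group
    · intro w _
      conv_lhs => rw [show w = c * (c⁻¹ * w * c) * c⁻¹ by group, hF]
  · intro a _ b _ hab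
    refine Finset.disjoint_left.2 fun w h1 h2 => hab ?_
    obtain ⟨h1, h1'⟩ := (Finset.mem_filter.1 h1).2
    exact X.eq_of_mem h1 (Finset.mem_filter.1 h2).2.1 h1'

/-- A character of degree `u p + 1 = p + 1` with value `1` on singular elements kills `C₀`. -/
theorem C0_bot_of_succ {χ : IrrCharacter G} (hd : charDegree (χ : G → ℂ) = p + 1)
    (hval : ∀ u ∈ (X.P : Subgroup G), u ≠ 1 → ∀ y ∈ X.C0, (χ : G → ℂ) (u * y) = ((1 : ℤ) : ℂ)) :
    X.C0 = ⊥ := by
  refine (Subgroup.eq_bot_iff_forall _).2 fun z hz => ?_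
  obtain ⟨H, hH⟩ : ∃ H : Subgroup G, H = zpowers z := ⟨_, rfl⟩
  have hzH : z ∈ H := hH ▸ mem_zpowers z
  have hHC : H ≤ X.C0 := hH ▸ zpowers_le.2 hz
  haveI : IsCyclic H := isCyclic_iff_exists_zpowers_eq_top.2 ⟨⟨z, hzH⟩, by
    refine eq_top_iff.2 fun y _ => ?_
    obtain ⟨i, hi⟩ : (y : G) ∈ zpowers z := hH ▸ y.2
    exact ⟨i, Subtype.ext (by simpa using hi)⟩⟩
  haveI : IsMulCommutative H := IsCyclic.isMulCommutative
  obtain ⟨m, W, hm, hmW, hdeg⟩ := X.eig_decomp hval H hHC
  have hp2 := hp.out.two_le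
  have hW0 : ∀ l, 0 ≤ W l := fun l => by
    by_contra h
    have h2 := hmW l
    have h3 : (p : ℤ) * W l ≤ p * (-1) := mul_le_mul_of_nonneg_left (by omega) (by positivity)
    split_ifs at h2 <;> omega
  have hW : ∑ l, W l = 1 := by
    simp only [hmW, Finset.sum_add_distrib, ← Finset.mul_sum, hd] at hdeg
    rw [Finset.sum_eq_single trivialIrr (fun b _ hb => if_neg hb)
      (fun h => absurd (Finset.mem_univ _) h), if_pos rfl] at hdeg
    push_cast at hdeg
    exact mul_left_cancel₀ (show (p : ℤ) ≠ 0 by omega) (by linarith)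
  obtain ⟨l₀, hl₀⟩ : ∃ l₀, W l₀ ≠ 0 := by
    by_contra hno
    push Not at hno
    rw [Finset.sum_eq_zero fun l _ => hno l] at hW
    exact zero_ne_one hW
  have hsplit := Finset.add_sum_erase Finset.univ W (Finset.mem_univ l₀)
  have hrest := Finset.sum_nonneg (s := Finset.univ.erase l₀) fun l _ => hW0 l
  have hone : W l₀ = 1 := by have := hW0 l₀; omega
  have hzero : ∀ l, l ≠ l₀ → W l = 0 := fun l hl => by
    have := Finset.single_le_sum (fun i _ => hW0 i) (Finset.mem_erase.2 ⟨hl, Finset.mem_univ l⟩)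
    have := hW0 l
    omega
  obtain ⟨f, hf⟩ := CharInduce.IsChar.exists_hom_of_degree_one (IsIrr.isCharacter l₀.2)
    (H85.apply_one_eq_one_of_comm l₀)
  have hcl : IsClassFunction H fun y : H => (χ : G → ℂ) y := fun a b => by
    rw [mul_comm' b a, mul_inv_cancel_right]
  have hres : ∀ y : H, (χ : G → ℂ) y = 1 + (p : ℂ) * (f y : ℂ) := by
    intro y
    have h := congrFun (classFunction_expansion hcl) y
    simp only [Finset.sum_apply, Pi.smul_apply, smul_eq_mul, hm] at h
    rw [h, Finset.sum_congr rfl (g := fun l => (p : ℂ) * (if l = l₀ then (l : H → ℂ) y else 0) +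
      (if l = trivialIrr then (l : H → ℂ) y else 0)) fun l _ => ?_, Finset.sum_add_distrib,
      ← Finset.mul_sum, Finset.sum_ite_eq', Finset.sum_ite_eq', if_pos (Finset.mem_univ _),
      if_pos (Finset.mem_univ _), hf y, add_comm]
    · rfl
    · have h2 := congrArg (fun k : ℤ => (k : ℂ)) (hmW l)
      push_cast [apply_ite (fun k : ℤ => (k : ℂ))] at h2
      rw [h2]
      rcases eq_or_ne l l₀ with e | e
      · rw [if_pos e, e, hone]
        split_ifs <;> push_cast <;> ring
      · rw [if_neg e, hzero l e]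
        split_ifs <;> push_cast <;> ring
  -- the determinant
  obtain ⟨D, hD⟩ := CharInduce.exists_detChar_eq_hom (IsIrr.isCharacter χ.2)
  have h1 : detChar (χ : G → ℂ) ((⟨z, hzH⟩ : H) : G) = 1 := by
    rw [hD]
    show ((D _ : ℂˣ) : ℂ) = 1
    rw [hom_eq_one_of_perfect X.perf D (fun _ _ => mul_comm _ _), Units.val_one]
  have hl : IsCharacter H fun y : H => (f y : ℂ) :=
    IsIrr.isCharacter (H82.isIrrCharacter_hom ((Units.coeHom ℂ).comp f))
  have htr : IsCharacter H fun _ : H => (1 : ℂ) := CharInduce.IsChar.one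
  rw [CharInduce.detChar_res H (IsIrr.isCharacter χ.2)
    (ϑ := (fun _ : H => (1 : ℂ)) + p • (fun y : H => (f y : ℂ))) (fun y => by
      rw [hres y]; simp) ⟨z, hzH⟩,
    H2.RelGraph.detChar_add htr (CharBasic.IsChar.nsmul hl p), H2.RelGraph.detChar_nsmul hl,
    show (fun _ : H => (1 : ℂ)) = fun y : H => (((1 : H →* ℂˣ) y : ℂˣ) : ℂ) by funext y; simp,
    CharInduce.detChar_hom, CharInduce.detChar_hom] at h1
  simp only [MonoidHom.one_apply, Units.val_one, Pi.mul_apply, Pi.pow_apply, one_mul] at h1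
  have h2 : f ⟨z, hzH⟩ ^ p = 1 := Units.ext (by simpa using h1)
  have h3 : f ⟨z, hzH⟩ = 1 := by
    rw [← orderOf_dvd_iff_pow_eq_one] at h2
    rcases (Nat.dvd_prime hp.out).1 h2 with e | e
    · exact orderOf_eq_one_iff.1 e
    · exfalso
      have h4 := orderOf_map_dvd f ⟨z, hzH⟩
      rw [e, Subgroup.orderOf_mk] at h4
      exact (X.mem_C0.1 hz).2 h4
  refine X.eq_one_of_apply_eq (X.ne_triv_of_degree (χ := χ) (by omega)) ?_
  rw [hres ⟨z, hzH⟩, h3, apply_one_eq_charDegree, hd]
  push_cast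
  ring

/-- A character of degree `e = p - 1` with no fixed points of `P` is impossible. -/
theorem false_of_regular (S : SC G p) (hS : S.P = X.P) (he : X.e = p - 1)
    {χ : IrrCharacter G} (hd : charDegree (χ : G → ℂ) = p - 1) (hfd : fixDim S χ = 0) : False := by
  have hC := S.hC
  have hE : S.E ≤ nor X.P := fun y hy => hS ▸ S.E_le hy
  let f : S.E →* ℂˣ := X.psi.comp (Subgroup.inclusion hE)
  have hiff : ∀ y : S.E, (y : G) ∈ cen X.P ↔ y = 1 := fun y => by
    constructor
    · intro h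
      have h' : (y : G) ∈ (S.P : Subgroup G) := by
        have : (y : G) ∈ cen S.P := hS.symm ▸ h
        rwa [cen, hC] at this
      exact Subtype.ext (eq_one_of_mem S h' y.2)
    · rintro rfl; exact one_mem _
  have hreg : ∀ y : S.E, (χ : G → ℂ) y = ∑ j ∈ Finset.range X.e, (f y : ℂ) ^ j := by
    intro y
    have h1 := X.sum_psi (Subgroup.inclusion hE y)
    rw [show ((Subgroup.inclusion hE y : nor X.P) : G) = (y : G) from rfl] at h1
    refine Eq.trans ?_ h1.symm
    rcases eq_or_ne y 1 with rfl | hy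
    · rw [Subgroup.coe_one, if_pos (one_mem _), apply_one_eq_charDegree, hd, he]
    · rw [if_neg (fun h => hy ((hiff y).1 h)),
        ← fixFun_ne S (IsIrr.isClassFunction χ.2) hy, fixFun_expand]
      refine Finset.sum_eq_zero fun l _ => ?_
      have := mlt_le_fixDim S χ l
      rw [show mlt S χ l = 0 by omega, Nat.cast_zero, zero_mul]
  obtain ⟨w, hw⟩ := X.exists_psi_gen
  obtain ⟨u, hu, y, hy, hwy⟩ := S.dec w (hS.symm ▸ w.2)
  have hfy : (f ⟨y, hy⟩ : ℂ) = (X.psi w : ℂ) := by
    have huN : u ∈ nor X.P := hS ▸ P_le S hu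
    have hw' : w = (⟨u, huN⟩ : nor X.P) * ⟨y, hE hy⟩ := Subtype.ext hwy
    rw [hw', map_mul, X.psi_eq_one.2 (show u ∈ cen X.P from X.le_cen _ (hS ▸ hu)), one_mul]
    rfl
  rw [← hfy] at hw
  obtain ⟨D, hD⟩ := CharInduce.exists_detChar_eq_hom (IsIrr.isCharacter χ.2)
  have h1 : detChar (χ : G → ℂ) (((⟨y, hy⟩ : S.E)) : G) = 1 := by
    rw [hD]
    show ((D _ : ℂˣ) : ℂ) = 1
    rw [hom_eq_one_of_perfect X.perf D (fun _ _ => mul_comm _ _), Units.val_one]
  have hj : ∀ j ∈ Finset.range X.e, IsCharacter S.E fun y : S.E => (((f ^ j) y : ℂˣ) : ℂ) :=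
    fun j _ => IsIrr.isCharacter (H82.isIrrCharacter_hom ((Units.coeHom ℂ).comp (f ^ j)))
  rw [CharInduce.detChar_res S.E (IsIrr.isCharacter χ.2)
    (ϑ := ∑ j ∈ Finset.range X.e, fun y : S.E => (((f ^ j) y : ℂˣ) : ℂ)) (fun y => by
      rw [hreg y]; simp) ⟨y, hy⟩, H2.RelGraph.detChar_sum _ _ hj, Finset.prod_apply,
    Finset.prod_congr rfl (g := fun j => (f ⟨y, hy⟩ : ℂ) ^ j) (fun j _ => by
      rw [CharInduce.detChar_hom]; simp), Finset.prod_pow_eq_pow_sum] at h1
  obtain ⟨h, hh⟩ : Even X.e := by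
    rw [he]
    exact hp.out.odd_of_ne_two (by have := X.five_le_p; omega) |>.tsub_odd odd_one
  have hsum : ∑ j ∈ Finset.range X.e, j = h * (X.e - 1) := by
    rw [Finset.sum_range_id, show X.e = 2 * h by omega, mul_assoc,
      Nat.mul_div_cancel_left _ (by norm_num)]
  rw [hsum, pow_mul] at h1
  have he2 := X.two_le_e
  have hneg : (f ⟨y, hy⟩ : ℂ) ^ h = -1 := by
    have h2 : ((f ⟨y, hy⟩ : ℂ) ^ h) * ((f ⟨y, hy⟩ : ℂ) ^ h) = 1 := by
      rw [← pow_add, ← hh, hw.pow_eq_one]
    exact (mul_self_eq_one_iff.1 h2).resolve_left (hw.pow_ne_one_of_pos_of_lt (by omega) (by omega))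
  rw [hneg, Odd.neg_one_pow (Nat.odd_iff.2 (by omega))] at h1
  norm_num at h1

/-- Characters of degree `g / t` sharing `k` nontrivial multiplicities, `t k = n + 1`: impossible. -/
theorem false_of_top (S : SC G p) (hn : nn S = X.n) (he : Nat.card S.E = X.e)
    (F : Finset (IrrCharacter G)) {D k : ℕ} (χ₀ : IrrCharacter G) (hχ₀ : χ₀ ∈ F)
    (hD1 : 1 < D) (hD : ∀ χ ∈ F, charDegree (χ : G → ℂ) = D)
    (hmlt : ∀ χ ∈ F, ∀ l, mlt S χ l = mlt S χ₀ l) (hk : fixDim S χ₀ = k)
    (hFD : F.card * D = X.g) (hFk : F.card * k = X.n + 1) (hFe : F.card * X.e ≤ p - 1) : False := by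
  set e := X.e with hedef
  set t := F.card with ht
  have ht0 : 0 < t := Finset.card_pos.2 ⟨χ₀, hχ₀⟩
  haveI := comm_E S
  have hlin : ∀ l : IrrCharacter S.E, (l : S.E → ℂ) 1 = 1 := H85.apply_one_eq_one_of_comm
  have hirr : Fintype.card (IrrCharacter S.E) = e := by
    have h := sum_sq_degree (G := S.E)
    simp only [hlin, one_pow, Finset.sum_const, Finset.card_univ, nsmul_eq_mul, mul_one,
      Nat.cast_inj] at h
    rw [h, he]
  -- the multiplicities
  have hsumdeg : ∀ l, ∑ χ : IrrCharacter G, charDegree (χ : G → ℂ) * mlt S χ l = X.g := fun l => by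
    rw [sum_degree_mul_mlt, X.card_sylow_eq]
  have hFsum : ∀ l, ∑ χ ∈ F, charDegree (χ : G → ℂ) * mlt S χ l = X.g * mlt S χ₀ l := fun l => by
    rw [Finset.sum_congr rfl fun χ hχ => by rw [hD χ hχ, hmlt χ hχ], Finset.sum_const, smul_eq_mul,
      ← mul_assoc, hFD]
  have hle1 : ∀ l, mlt S χ₀ l ≤ 1 := fun l => by
    have h := Finset.sum_le_sum_of_subset (f := fun χ : IrrCharacter G =>
      charDegree (χ : G → ℂ) * mlt S χ l) (Finset.subset_univ F)
    rw [hFsum, hsumdeg] at h
    exact Nat.le_of_mul_le_mul_left (by rwa [mul_one]) X.g_pos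
  have hout : ∀ l, mlt S χ₀ l ≠ 0 → ∀ χ ∉ F, mlt S χ l = 0 := fun l hl χ hχ => by
    have h := Finset.sum_le_sum_of_subset (f := fun χ : IrrCharacter G =>
      charDegree (χ : G → ℂ) * mlt S χ l) (Finset.subset_univ (insert χ F))
    rw [Finset.sum_insert hχ, hFsum, hsumdeg, show mlt S χ₀ l = 1 by have := hle1 l; omega,
      mul_one] at h
    have h2 : charDegree (χ : G → ℂ) * mlt S χ l = 0 := by omega
    exact (mul_eq_zero.1 h2).resolve_left (charDegree_pos χ).ne'
  have htriv : mlt S χ₀ trivialIrr = 0 := by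
    by_contra h0
    have h1 := hout _ h0 trivialIrr fun h => by
      have := hD _ h
      rw [X.charDegree_triv] at this
      omega
    have h2 := mlt_trivialIrr S (trivialIrr : IrrCharacter G)
    rw [h1, Nat.cast_zero, mul_zero] at h2
    have h3 : ∀ y : S.E, fixFun S ((trivialIrr : IrrCharacter G) : G → ℂ) y = 1 := fun y => by
      show (p : ℂ)⁻¹ * ∑ _u : (S.P : Subgroup G), (1 : ℂ) = 1
      rw [Finset.sum_const, Finset.card_univ, ← Nat.card_eq_fintype_card, S.card_P, nsmul_eq_mul,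
        mul_one, inv_mul_cancel₀ (Nat.cast_ne_zero.2 hp.out.ne_zero)]
    simp only [h3, Finset.sum_const, Finset.card_univ, nsmul_eq_mul, mul_one] at h2
    exact Fintype.card_ne_zero (by exact_mod_cast h2.symm)
  have hke : k < e := by
    have h := Finset.sum_le_sum (s := Finset.univ.erase (trivialIrr : IrrCharacter S.E))
      (fun l _ => hle1 l)
    rw [Finset.sum_erase _ htriv, Finset.sum_const, Finset.card_erase_of_mem (Finset.mem_univ _),
      Finset.card_univ, hirr, smul_eq_mul, mul_one] at h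
    have : 2 ≤ e := X.two_le_e
    change fixDim S χ₀ ≤ e - 1 at h
    omega
  have hk0 : 0 < k := Nat.pos_of_ne_zero fun h => by
    rw [h, mul_zero] at hFk
    omega
  -- the inner products
  set φ : S.E → ℂ := fun y => (χ₀ : G → ℂ) y with hφ
  set E1 := (Finset.univ : Finset S.E).erase 1 with hE1
  have hff : ∀ (χ : IrrCharacter G), ∀ y ∈ E1, fixFun S (χ : G → ℂ) y = (χ : G → ℂ) y :=
    fun χ y hy => fixFun_ne S (IsIrr.isClassFunction χ.2) (Finset.ne_of_mem_erase hy)
  have hclE : ∀ ψ : S.E → ℂ, IsClassFunction S.E ψ := fun ψ a b => by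
    rw [mul_comm' b a, mul_inv_cancel_right]
  have hV : ∀ χ : IrrCharacter G, ∑ y ∈ E1, (χ : G → ℂ) y * conj (φ y) =
      (k : ℂ) * ((if χ ∈ F then (e : ℂ) else 0) - (fixDim S χ : ℂ)) := by
    intro χ
    have h := classInner_eq_sum (φ := fixFun S (χ : G → ℂ)) (ψ := fixFun S (χ₀ : G → ℂ)) (hclE _)
    simp only [← mlt_spec, Complex.conj_natCast] at h
    rw [classInner_def, inv_mul_eq_iff_eq_mul₀ (Nat.cast_ne_zero.2 Nat.card_pos.ne'), he,
      ← Finset.add_sum_erase _ _ (Finset.mem_univ (1 : S.E)), ← fixDim_spec, ← fixDim_spec, hk,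
      Complex.conj_natCast, Finset.sum_congr rfl fun y hy => by rw [hff χ y hy, hff χ₀ y hy]] at h
    have hsum : ∑ l : IrrCharacter S.E, (mlt S χ l : ℂ) * (mlt S χ₀ l : ℂ) =
        if χ ∈ F then (k : ℂ) else 0 := by
      rw [← hk, fixDim]
      split_ifs with hχ
      · push_cast
        refine Finset.sum_congr rfl fun l _ => ?_
        rw [hmlt χ hχ]
        have := hle1 l
        rcases (show mlt S χ₀ l = 0 ∨ mlt S χ₀ l = 1 by omega) with e' | e' <;> simp [e']
      · refine Finset.sum_eq_zero fun l _ => ?_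
        rcases eq_or_ne (mlt S χ₀ l) 0 with e' | e'
        · rw [e', Nat.cast_zero, mul_zero]
        · rw [hout l e' χ hχ, Nat.cast_zero, zero_mul]
    rw [hsum] at h
    show ∑ y ∈ E1, (χ : G → ℂ) y * conj ((χ₀ : G → ℂ) y) = _
    split_ifs at h ⊢ <;> linear_combination h
  have hfF : ∀ χ ∈ F, fixDim S χ = k := fun χ hχ => by
    rw [← hk, fixDim, fixDim]
    exact Finset.sum_congr rfl fun l _ => hmlt χ hχ l
  have hL : ∑ χ : IrrCharacter G, Complex.normSq (∑ y ∈ E1, (χ : G → ℂ) y * conj (φ y)) =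
      (k : ℝ) ^ 2 * ((t : ℝ) * (e * e - 2 * e * k) + e * (X.n + 1)) := by
    have hVr : ∀ χ : IrrCharacter G, ∑ y ∈ E1, (χ : G → ℂ) y * conj (φ y) =
        (((k : ℝ) * ((if χ ∈ F then (e : ℝ) else 0) - (fixDim S χ : ℝ)) : ℝ) : ℂ) := fun χ => by
      rw [hV χ]
      split_ifs <;> push_cast <;> ring
    have hsq := sum_fixDim_sq S
    rw [he, hn] at hsq
    have hsq' : ∑ χ : IrrCharacter G, (fixDim S χ : ℝ) ^ 2 = (e : ℝ) * ((X.n : ℝ) + 1) := by
      exact_mod_cast hsq
    simp only [hVr, Complex.normSq_ofReal]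
    rw [Finset.sum_congr rfl (g := fun χ : IrrCharacter G => (k : ℝ) ^ 2 *
        ((if χ ∈ F then (e : ℝ) * e - 2 * e * k else 0) + (fixDim S χ : ℝ) ^ 2)) fun χ _ => by
      split_ifs with hχ
      · rw [hfF χ hχ]; ring
      · ring,
      ← Finset.mul_sum, Finset.sum_add_distrib, hsq', Finset.sum_ite_mem, Finset.univ_inter,
      Finset.sum_const, nsmul_eq_mul]
  have hpars : ∑ y ∈ E1, Complex.normSq (φ y) = (k : ℝ) * ((e : ℝ) - k) := by
    apply Complex.ofReal_injective
    push_cast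
    simp only [← Complex.mul_conj]
    have h := hV χ₀
    rw [if_pos hχ₀, hk] at h
    exact h
  let M : S.E → S.E → ℕ := fun y y' =>
    (Finset.univ.filter fun x : G => x * (y' : G) * x⁻¹ = (y : G)).card
  have hM : ∀ y y' : S.E, M y y' = M y' y := fun y y' => Finset.card_bij' (fun x _ => x⁻¹)
    (fun x _ => x⁻¹)
    (fun x hx => Finset.mem_filter.2 ⟨Finset.mem_univ _, by
      rw [← (Finset.mem_filter.1 hx).2]; group⟩)
    (fun x hx => Finset.mem_filter.2 ⟨Finset.mem_univ _, by
      rw [← (Finset.mem_filter.1 hx).2]; group⟩) (by intros; group) (by intros; group)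
  have hrow : ∀ y ∈ E1, ∑ y' ∈ E1, M y y' ≤ e * (fixPts p (y : G)).card := by
    intro y hy
    rw [← he, ← card_conj_into S y.2 fun e' => Finset.ne_of_mem_erase hy (Subtype.ext e'),
      ← Finset.card_biUnion]
    · refine Finset.card_le_card fun x hx => ?_
      obtain ⟨y', -, hx⟩ := Finset.mem_biUnion.1 hx
      refine Finset.mem_filter.2 ⟨Finset.mem_univ _, ?_⟩
      rw [← (Finset.mem_filter.1 hx).2]
      simp [mul_assoc]
    · intro a _ b _ hab
      refine Finset.disjoint_filter.2 fun x _ ha hb => hab (Subtype.ext ?_)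
      rw [← hb] at ha
      exact mul_left_cancel (mul_right_cancel ha)
  have hR : ∑ χ : IrrCharacter G, Complex.normSq (∑ y ∈ E1, (χ : G → ℂ) y * conj (φ y)) ≤
      ∑ y ∈ E1, Complex.normSq (φ y) * ((e * (fixPts p (y : G)).card : ℕ) : ℝ) := by
    have h1 : ((∑ χ : IrrCharacter G,
        Complex.normSq (∑ y ∈ E1, (χ : G → ℂ) y * conj (φ y)) : ℝ) : ℂ) =
        ∑ y ∈ E1, ∑ y' ∈ E1, conj (φ y) * φ y' * (M y y' : ℂ) := by
      rw [Complex.ofReal_sum]
      simp only [← Complex.mul_conj, map_sum, Finset.sum_mul_sum, map_mul, Complex.conj_conj]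
      rw [Finset.sum_comm]
      refine Finset.sum_congr rfl fun y _ => ?_
      rw [Finset.sum_comm]
      refine Finset.sum_congr rfl fun y' _ => ?_
      rw [show (M y y' : ℂ) = (Nat.card {x : G // x * (y' : G) * x⁻¹ = (y : G)} : ℂ) by
        rw [Nat.card_eq_fintype_card, Fintype.card_subtype], ← second_orthogonality_count,
        Finset.mul_sum]
      exact Finset.sum_congr rfl fun χ _ => by ring
    have h2 := congrArg Complex.re h1
    rw [Complex.ofReal_re, Complex.re_sum] at h2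
    simp only [Complex.re_sum] at h2
    rw [h2]
    have hb : ∀ y y' : S.E, (conj (φ y) * φ y' * (M y y' : ℂ)).re ≤
        (Complex.normSq (φ y) + Complex.normSq (φ y')) / 2 * (M y y' : ℝ) := fun y y' => by
      rw [Complex.mul_re, Complex.natCast_re, Complex.natCast_im, mul_zero, sub_zero]
      refine mul_le_mul_of_nonneg_right ?_ (Nat.cast_nonneg _)
      rw [Complex.mul_re, Complex.conj_re, Complex.conj_im, Complex.normSq_apply,
        Complex.normSq_apply]
      nlinarith [sq_nonneg ((φ y).re - (φ y').re), sq_nonneg ((φ y).im - (φ y').im)]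
    refine (Finset.sum_le_sum fun y _ => Finset.sum_le_sum fun y' _ => hb y y').trans ?_
    rw [Finset.sum_congr rfl (g := fun y => ∑ y' ∈ E1, (Complex.normSq (φ y) / 2 * (M y y' : ℝ) +
      Complex.normSq (φ y') / 2 * (M y' y : ℝ))) fun y _ => Finset.sum_congr rfl fun y' _ => by
        rw [hM y' y]; ring]
    simp only [Finset.sum_add_distrib]
    rw [Finset.sum_comm (s := E1) (t := E1) (f := fun y y' =>
      Complex.normSq (φ y') / 2 * (M y' y : ℝ)), ← two_mul, Finset.mul_sum]
    refine Finset.sum_le_sum fun y hy => ?_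
    rw [← Finset.mul_sum, ← mul_assoc, mul_div_cancel₀ _ two_ne_zero]
    refine mul_le_mul_of_nonneg_left ?_ (Complex.normSq_nonneg _)
    exact_mod_cast hrow y hy
  -- some element fixes `n + 1` points
  obtain ⟨y, hy, hF⟩ : ∃ y ∈ E1, X.n < (fixPts p (y : G)).card := by
    by_contra hno
    push Not at hno
    have h := (hL ▸ hR).trans (Finset.sum_le_sum fun y hy => mul_le_mul_of_nonneg_left
      (Nat.cast_le.2 (Nat.mul_le_mul_left e (hno y hy))) (Complex.normSq_nonneg _))
    rw [← Finset.sum_mul, hpars, Nat.cast_mul] at h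
    have hk' : (0 : ℝ) < k := by exact_mod_cast hk0
    have he' : (k : ℝ) + 1 ≤ e := by exact_mod_cast hke
    have htk : (t : ℝ) * k = X.n + 1 := by exact_mod_cast hFk
    have he0 : (0 : ℝ) < e := by linarith
    have h3 : (k : ℝ) * e * ((t * k - X.n) * (e - k)) ≤ 0 := by
      have : (k : ℝ) ^ 2 * ((t : ℝ) * (e * e - 2 * e * k) + e * (t * k)) ≤
          (k : ℝ) * (e - k) * (e * X.n) := by rw [htk]; exact h
      nlinarith
    rw [show (t : ℝ) * k - X.n = 1 by linarith, one_mul] at h3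
    have : 0 < (k : ℝ) * e * (e - k) := by have : (0 : ℝ) < e - k := by linarith
                                           positivity
    linarith
  have hyne : (y : G) ≠ 1 := fun e' => Finset.ne_of_mem_erase hy (Subtype.ext e')
  have hF' := card_fixPts_le S y.2 hyne
  rw [hn] at hF'
  have hnorm : e * (X.n + 1) = Nat.card (normalizer ((zpowers (y : G) : Subgroup G) : Set G)) := by
    rw [show X.n + 1 = (fixPts p (y : G)).card by omega, ← he, ← card_conj_into S y.2 hyne,
      Nat.card_eq_fintype_card, Fintype.card_subtype]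
    refine congrArg Finset.card (Finset.filter_congr fun x _ => ?_)
    constructor
    · intro hx
      haveI := isCyclic_E S
      set y' : S.E := ⟨x⁻¹ * (y : G) * x, hx⟩ with hy'
      have ho : orderOf y' = orderOf y := by
        rw [hy', Subgroup.orderOf_mk]
        simpa using MulEquiv.orderOf_eq (MulAut.conj x⁻¹) (y : G)
      have heq : zpowers y' = zpowers y :=
        (cyclic_eq_of_card_eq _ _ (by rw [Nat.card_zpowers, Nat.card_zpowers, ho]))
      have heq' : zpowers (y' : G) = zpowers (y : G) := by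
        have := congrArg (Subgroup.map S.E.subtype) heq
        rwa [MonoidHom.map_zpowers, MonoidHom.map_zpowers] at this
      have hmap : (zpowers (y : G)).map (MulAut.conj x⁻¹).toMonoidHom = zpowers (y : G) := by
        rw [MonoidHom.map_zpowers]
        refine Eq.trans ?_ heq'
        congr 1
        simp [hy']
      refine inv_mem_iff.1 (mem_normalizer_iff.2 fun w => ?_)
      conv_rhs => rw [← hmap]
      constructor
      · intro hw; exact ⟨w, hw, rfl⟩
      · rintro ⟨w', hw', hwe⟩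
        rwa [← (MulAut.conj x⁻¹).injective hwe]
    · intro hx
      have := (mem_normalizer_iff''.1 hx (y : G)).1 (mem_zpowers _)
      exact zpowers_le.2 y.2 this
  have hdvd : X.n + 1 ∣ p * X.g := by
    have h := Subgroup.card_subgroup_dvd_card (normalizer ((zpowers (y : G) : Subgroup G) : Set G))
    rw [← hnorm, _root_.Cfsg.Agent.H86.FewSylow.card_G S, X.card_sylow_eq, he, show p * e * (1 + X.n * p) = e * (p * X.g) by
      rw [Ctx.g]; ring] at h
    exact Nat.dvd_of_mul_dvd_mul_left (by omega) h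
  have hlt : X.n + 1 < p - 1 := by
    have : t * (k + 1) ≤ t * e := Nat.mul_le_mul_left _ hke
    rw [mul_add, mul_one, hFk] at this
    omega
  have hco : Nat.Coprime (X.n + 1) p := (hp.out.coprime_iff_not_dvd.2 fun h =>
    absurd (Nat.le_of_dvd (Nat.succ_pos _) h) (by omega)).symm
  have hg := hco.dvd_of_dvd_mul_left hdvd
  have hp1 : X.n + 1 ∣ p - 1 := by
    have h3 : (X.n + 1) * p = X.g + (p - 1) := by
      rw [Ctx.g, add_mul, one_mul]; omega
    exact (Nat.dvd_add_right hg).1 (h3 ▸ dvd_mul_right _ _)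
  obtain ⟨c, hc⟩ := hp1
  have hc2 : 2 ≤ c := by
    rcases (show c = 0 ∨ c = 1 ∨ 2 ≤ c by omega) with e' | e' | e'
    · rw [e', mul_zero] at hc; omega
    · rw [e', mul_one] at hc; omega
    · exact e'
  have h4 : (X.n + 1) * 2 ≤ p - 1 := hc ▸ Nat.mul_le_mul_left _ hc2
  have h5 := X.p_sub_one
  have h6 : X.v * 1 ≤ X.v * X.u := Nat.mul_le_mul_left _ X.hu
  rw [mul_add, mul_one] at h5
  rw [mul_comm X.v X.u] at h5 h6
  simp only [Ctx.n] at h4
  omega

end Ctx

namespace Blk

variable {X : Ctx G p} (B : Blk X)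

include B

/-- Outside the principal block characters vanish on singular elements. -/
theorem vanish_out (h : X.C0 = ⊥) {χ : IrrCharacter G} (h1 : χ ∉ B.Xs) (h2 : χ ∉ B.Ys) {x : G}
    (hx : x ∈ (X.P : Subgroup G)) (hx1 : x ≠ 1) : (χ : G → ℂ) x = 0 := by
  haveI := H86.Abelian.isMulCommutative_sylow X.P X.card_P
  have hpn := H86.Abelian.pNilAt_of_mem X.P (H86.Abelian.freeFusion X.P X.card_P) hx hx1
  have hcx : centralizer ({x} : Set G) = (X.P : Subgroup G) :=
    (X.cen_singleton hx hx1).trans (X.cen_eq_of_bot h)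
  have hk := H86.sum_sq_principal B.hM ⟨1, by rw [pow_one, X.orderOf_mem hx hx1]⟩ hpn
  rw [blockKernel, hcx, X.card_P, hp.out.factorization_self, pow_one,
    finsum_mem_eq_finite_toFinset_sum _ (Set.toFinite _)] at hk
  have htot := second_orthogonality_self (G := G) x
  rw [hcx, X.card_P] at htot
  have hz : ∑ ψ ∈ Finset.univ \ (Set.toFinite (principalBlock B.M G)).toFinset,
      Complex.normSq ((ψ : G → ℂ) x) = 0 := by
    have h' : ∑ ψ ∈ Finset.univ \ (Set.toFinite (principalBlock B.M G)).toFinset,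
        (ψ : G → ℂ) x * conj ((ψ : G → ℂ) x) = 0 := by
      rw [Finset.sum_sdiff_eq_sub (Finset.subset_univ _), htot, hk, sub_self]
    simp only [Complex.mul_conj] at h'
    exact_mod_cast h'
  have := (Finset.sum_eq_zero_iff_of_nonneg fun ψ _ => Complex.normSq_nonneg _).1 hz χ
    (Finset.mem_sdiff.2 ⟨Finset.mem_univ _, fun h' => by
      rw [Set.Finite.mem_toFinset] at h'; rcases (B.mem_iff χ).1 h' with h' | h' <;> contradiction⟩)
  exact Complex.normSq_eq_zero.1 this

variable (S : SC G p) (hS : S.P = X.P)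

include hS

theorem fixDim_eq {χ : IrrCharacter G} (hχ : χ ∈ B.Xs) {f : ℕ}
    (hf : (charDegree (χ : G → ℂ) : ℤ) + ((p : ℤ) - 1) * B.sgn χ = p * f) : fixDim S χ = f := by
  have h := mul_fixDim S χ
  rw [show ∑ u : (S.P : Subgroup G), (χ : G → ℂ) (u : G) =
      ∑ u : (X.P : Subgroup G), (χ : G → ℂ) (u : G) by rw [hS]] at h
  rw [B.sum_P_X hχ] at h
  have hf' := congrArg (fun k : ℤ => (k : ℂ)) hf
  push_cast at hf'
  have h2 : ((fixDim S χ : ℕ) : ℂ) = (f : ℂ) :=
    mul_left_cancel₀ (Nat.cast_ne_zero.2 hp.out.ne_zero) (by linear_combination h + hf')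
  exact_mod_cast h2

theorem fixDim_eq_Y {θ : IrrCharacter G} (hθ : θ ∈ B.Ys) {f : ℕ}
    (hf : (B.d : ℤ) - B.ε * X.e = p * f) : fixDim S θ = f := by
  have h := mul_fixDim S θ
  rw [show ∑ u : (S.P : Subgroup G), (θ : G → ℂ) (u : G) =
      ∑ u : (X.P : Subgroup G), (θ : G → ℂ) (u : G) by rw [hS]] at h
  rw [B.sumY θ hθ, apply_one_eq_charDegree, B.deg_Y hθ] at h
  have hf' := congrArg (fun k : ℤ => (k : ℂ)) hf
  push_cast at hf'
  have h2 : ((fixDim S θ : ℕ) : ℂ) = (f : ℂ) :=
    mul_left_cancel₀ (Nat.cast_ne_zero.2 hp.out.ne_zero) (by linear_combination h + hf')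
  exact_mod_cast h2

theorem mlt_Y_eq {θ θ' : IrrCharacter G} (hθ : θ ∈ B.Ys) (hθ' : θ' ∈ B.Ys)
    (l : IrrCharacter S.E) : mlt S θ l = mlt S θ' l := by
  apply Nat.cast_injective (R := ℂ)
  rw [mlt_spec, mlt_spec]
  congr 1
  funext y
  rcases eq_or_ne y 1 with rfl | hy
  · rw [fixFun_one, fixFun_one]
    congr 1
    rw [show ∑ u : (S.P : Subgroup G), (θ : G → ℂ) (u : G) =
        ∑ u : (X.P : Subgroup G), (θ : G → ℂ) (u : G) by rw [hS],
      show ∑ u : (S.P : Subgroup G), (θ' : G → ℂ) (u : G) =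
        ∑ u : (X.P : Subgroup G), (θ' : G → ℂ) (u : G) by rw [hS],
      B.sumY θ hθ, B.sumY θ' hθ', apply_one_eq_charDegree, apply_one_eq_charDegree,
      B.deg_Y hθ, B.deg_Y hθ']
  · rw [fixFun_ne S (IsIrr.isClassFunction θ.2) hy, fixFun_ne S (IsIrr.isClassFunction θ'.2) hy]
    exact B.agree θ hθ θ' hθ' y (not_dvd_orderOf S y.2)

end Blk

end Cfsg.Agent.H78.BR
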