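import Cfsg.Agent.H78.BR.Block
import Cfsg.Agent.H35.BlockInduction
import Cfsg.Agent.H35.Consequences
import Mathlib.GroupTheory.Transfer

/-!
# Vanishing at generators of the normalizer, and the transfer with an odd number of Sylow subgroups
-/

set_option linter.unusedSectionVars false
set_option linter.style.haveILetI false

open scoped Classical ComplexConjugate

namespace Cfsg.Agent.H78.BR

open Subgroup CharBasic BlockBasic

universe u

variable {G : Type u} [Group G] [Fintype G] {p : ℕ} [hp : Fact p.Prime]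

namespace Ctx

variable (X : Ctx G p)

include X

/-- A character with a unit central value at `x` vanishes where the `r`-part stays outside `C(P)`. -/
theorem vanish_of_unit {r : ℕ} [Fact r.Prime] {M : Ideal AlgInt} (hM : IsPModular r M)
    {χ : IrrCharacter G} {x : G} (hx : x ∈ (X.P : Subgroup G)) (hx1 : x ≠ 1)
    (hunit : ¬ MemLocalIdeal M (centralChar (χ : G → ℂ) x)) {y : G}
    (hy : ∀ c : G, c⁻¹ * pPart (p := r) y * c ∉ cen X.P) : (χ : G → ℂ) y = 0 := by
  refine H35.apply_eq_zero_of_no_defectGroup hM χ y fun D hD hmem => ?_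
  obtain ⟨x', hconj, hxD, -⟩ := H35.exists_conj_centralizing hM (isPBlock_blockOf M χ) hD
    (self_mem_blockOf hM χ) hunit
  obtain ⟨c, rfl⟩ := isConj_iff.1 hconj
  have h := mem_centralizer_iff.1 hxD _ hmem
  refine hy c (X.mem_cen_of_commute hx hx1 ?_)
  show c⁻¹ * pPart (p := r) y * c * x = x * (c⁻¹ * pPart (p := r) y * c)
  calc c⁻¹ * pPart (p := r) y * c * x = c⁻¹ * (pPart (p := r) y * (c * x * c⁻¹)) * c := by group
    _ = c⁻¹ * (c * x * c⁻¹ * pPart (p := r) y) * c := by rw [h]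
    _ = _ := by group

theorem pPart_not_conj {y : nor X.P} (hy : IsPrimitiveRoot ((X.psi y : ℂ)) X.e) {r : ℕ}
    [hr : Fact r.Prime] (hre : r ∣ X.e) (c : G) :
    c⁻¹ * pPart (p := r) (y : G) * c ∉ cen X.P := by
  set z := pPart (p := r) y with hz
  have hzval : (z : G) = pPart (p := r) (y : G) := by
    obtain ⟨w, h1, h2, ⟨k, hk⟩, h4⟩ := isPPart_pPart (p := r) y
    refine (pPart_eq_of_isPPart ⟨(w : G), ?_, ?_, ⟨k, ?_⟩, ?_⟩).symm
    · rw [← Subgroup.coe_mul, h1]
    · exact congrArg Subtype.val h2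
    · rw [Subgroup.orderOf_coe, hk]
    · rwa [Subgroup.orderOf_coe]
  intro hc
  rw [← hzval] at hc
  have h1 : X.psi z = 1 := X.psi_eq_one.2 (X.dich_conj z.2 hc)
  have h2 : X.psi y = X.psi (pReg (p := r) y) := by
    conv_lhs => rw [← pPart_mul_pReg (p := r) y]
    rw [map_mul, ← hz, h1, one_mul]
  apply not_dvd_orderOf_pReg (p := r) y
  refine hre.trans ?_
  rw [hy.eq_orderOf, orderOf_units, h2]
  exact orderOf_map_dvd _ _

/-- An odd number of Sylow subgroups forces an odd index of the centralizer. -/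
theorem not_even_of_odd (hg : Odd X.g) : ¬ Even X.e := by
  intro he
  obtain ⟨h, hh⟩ := he
  have he2 := X.two_le_e
  let φ : nor X.P →* ℂˣ := (powMonoidHom h).comp X.psi
  have hφ : ∀ w : nor X.P, φ w = 1 ↔ (w : G) ^ h ∈ cen X.P := fun w => by
    rw [MonoidHom.comp_apply, powMonoidHom_apply, ← map_pow, X.psi_eq_one, SubgroupClass.coe_pow]
  have hsq : ∀ w : nor X.P, φ w = 1 ∨ (φ w : ℂ) = -1 := fun w => by
    have h1 : (φ w : ℂ) * (φ w : ℂ) = 1 := by
      rw [← Units.val_mul, MonoidHom.comp_apply, powMonoidHom_apply, ← pow_add, ← hh, X.psi_pow_e,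
        Units.val_one]
    rcases mul_self_eq_one_iff.1 h1 with e | e
    · exact Or.inl (Units.ext e)
    · exact Or.inr e
  obtain ⟨w, hw⟩ := X.exists_psi_gen
  have hw1 : φ w ≠ 1 := by
    intro e
    have h1 : (X.psi w : ℂ) ^ h = 1 := by
      rw [← Units.val_pow_eq_pow_val, ← powMonoidHom_apply (n := h), ← MonoidHom.comp_apply]
      show ((φ w : ℂˣ) : ℂ) = 1
      rw [e, Units.val_one]
    exact hw.pow_ne_one_of_pos_of_lt (by omega) (by omega) h1
  haveI : (nor X.P).FiniteIndex := inferInstance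
  have hfus : ∀ (k : ℕ) (c : G) (hc : c⁻¹ * (w : G) ^ k * c ∈ nor X.P),
      φ ⟨_, hc⟩ = φ w ^ k := by
    intro k c hc
    have hiff : φ ⟨_, hc⟩ = 1 ↔ φ (w ^ k) = 1 := by
      rw [hφ, hφ, SubgroupClass.coe_pow]
      have e : (c⁻¹ * (w : G) ^ k * c) ^ h = c⁻¹ * ((w : G) ^ k) ^ h * c := by
        have := (conj_pow (i := h) (a := c⁻¹) (b := (w : G) ^ k))
        simpa using this
      show (c⁻¹ * (w : G) ^ k * c) ^ h ∈ cen X.P ↔ _
      constructor
      · intro h1
        rw [e] at h1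
        exact X.dich_conj (pow_mem (pow_mem w.2 k) h) h1
      · intro h1
        refine X.dich_conj (c := c⁻¹) (pow_mem hc h) ?_
        rw [e]
        simpa [mul_assoc] using h1
    rw [← map_pow]
    rcases hsq ⟨_, hc⟩ with e | e <;> rcases hsq (w ^ k) with e' | e'
    · rw [e, e']
    · rw [hiff.1 e, Units.val_one] at e'
      norm_num at e'
    · rw [hiff.2 e', Units.val_one] at e
      norm_num at e
    · exact Units.ext (e.trans e'.symm)
  have htr : MonoidHom.transfer φ (w : G) = φ w ^ (nor X.P).index := by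
    letI := fintypeOfIndexNeZero (Subgroup.index_ne_zero_of_finite (H := nor X.P))
    rw [MonoidHom.transfer_eq_prod_quotient_orbitRel_zpowers_quot φ (w : G),
      Finset.prod_congr rfl fun q _ => hfus _ _ _, Finset.prod_pow_eq_pow_sum,
      ← index_eq_sum_minimalPeriod (nor X.P) (w : G)]
  have h1 := H86.FewSylow.hom_eq_one_of_perfect X.perf (MonoidHom.transfer φ)
    (fun _ _ => mul_comm _ _) (w : G)
  rw [htr, show (nor X.P).index = X.g by
    rw [Ctx.g, ← X.card_sylow_eq, Sylow.card_eq_index_normalizer X.P]; rfl] at h1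
  rcases hsq w with e | e
  · exact hw1 e
  · have h2 : ((φ w : ℂˣ) : ℂ) ^ X.g = 1 := by
      rw [← Units.val_pow_eq_pow_val, h1, Units.val_one]
    rw [e, hg.neg_one_pow] at h2
    norm_num at h2

end Ctx

namespace Blk

variable {X : Ctx G p} (B : Blk X)

include B

theorem vanish_X {χ : IrrCharacter G} (hχ : χ ∈ B.Xs) {m : ℕ}
    (hm : charDegree (χ : G → ℂ) * m = X.e * X.g) {y : nor X.P}
    (hy : IsPrimitiveRoot ((X.psi y : ℂ)) X.e) {r : ℕ} [hr : Fact r.Prime] (hre : r ∣ X.e)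
    (hrm : ¬ r ∣ m) : (χ : G → ℂ) (y : G) = 0 := by
  obtain ⟨M, hM⟩ := exists_isPModular hr.out
  obtain ⟨x, hx, hx1⟩ := X.exists_gen X.P
  refine X.vanish_of_unit hM hx hx1 (fun hmem => hrm ((memLocalIdeal_natCast_iff hM m).1 ?_))
    (fun c => X.pPart_not_conj hy hre c)
  rw [X.centralChar_P χ hx hx1, B.val_P hχ hx hx1, ← hm, Nat.cast_mul, mul_assoc,
    mul_div_cancel_left₀ _ (Nat.cast_ne_zero.2 (charDegree_pos χ).ne')] at hmem
  · rcases B.signX χ hχ with e | e <;> rw [e] at hmem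
    · simpa using hmem
    · simpa using memLocalIdeal_neg hmem

theorem vanish_Y {m : ℕ} (hm : B.d * m = X.e * X.g) {y : nor X.P}
    (hy : IsPrimitiveRoot ((X.psi y : ℂ)) X.e) (hyp : ¬ p ∣ orderOf (y : G)) {r : ℕ}
    [hr : Fact r.Prime] (hre : r ∣ X.e) (hrm : ¬ r ∣ m) {θ : IrrCharacter G} (hθ : θ ∈ B.Ys) :
    (θ : G → ℂ) (y : G) = 0 := by
  obtain ⟨M, hM⟩ := exists_isPModular hr.out
  obtain ⟨x, hx, hx1⟩ := X.exists_gen X.P
  obtain ⟨θ', hθ', hunit⟩ : ∃ θ' ∈ B.Ys, ¬ MemLocalIdeal M (centralChar (θ' : G → ℂ) x) := by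
    by_contra hno
    push Not at hno
    have h := memLocalIdeal_sum hM B.Ys (fun θ => centralChar (θ : G → ℂ) x) hno
    rw [B.sum_centralChar_Y hx hx1, ← hm, Nat.cast_mul, mul_assoc,
      mul_div_cancel_left₀ _ (Nat.cast_ne_zero.2 (charDegree_pos B.θ).ne')] at h
    refine hrm ((memLocalIdeal_natCast_iff hM m).1 ?_)
    rcases B.hε with e | e <;> rw [e] at h
    · simpa using memLocalIdeal_neg h
    · simpa using h
  rw [B.agree θ hθ θ' hθ' _ hyp]
  exact X.vanish_of_unit hM hx hx1 hunit (fun c => X.pPart_not_conj hy hre c)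

end Blk

end Cfsg.Agent.H78.BR
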