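import Cfsg.Agent.H78.BR.Monomial
import Cfsg.Agent.H78.BR.Vanish
import Cfsg.Agent.H78.BR.SelfCentral

/-!
# The shapes of the principal block when there are fewer than `p ^ 2` Sylow subgroups
-/

set_option linter.unusedSectionVars false
set_option linter.style.haveILetI false

open scoped Classical ComplexConjugate

namespace Cfsg.Agent.H78.BR

open Subgroup CharBasic BlockBasic H86.FewSylow

universe u

variable {G : Type u} [Group G] [Fintype G] {p : ℕ} [hp : Fact p.Prime]

namespace Ctx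

variable (X : Ctx G p)

include X

theorem false_of_dvd_one {r A B : ℕ} (hr : r.Prime) (h : 1 + A = B) (hA : r ∣ A) (hB : r ∣ B) :
    False :=
  hr.not_dvd_one ((Nat.dvd_add_left hA).1 (h ▸ hB))

theorem t_eq_one_of_dvd (hv : X.t ∣ X.v) (hu : X.t ∣ X.u + 1) (hg : X.t ∣ X.g) : X.t = 1 := by
  have hn : X.t ∣ X.n := by
    rw [Ctx.n, add_assoc]
    exact dvd_add (dvd_mul_of_dvd_right hv _) hu
  exact Nat.eq_one_of_dvd_one ((Nat.dvd_add_left (dvd_mul_of_dvd_left hn p)).1 hg)

theorem t_eq_one_of_dvd_succ (hv : X.t ∣ X.v) (hu : X.t ∣ X.u + 1) (hn1 : X.t ∣ X.n + 1) :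
    X.t = 1 := by
  have hn : X.t ∣ X.n := by
    rw [Ctx.n, add_assoc]
    exact dvd_add (dvd_mul_of_dvd_right hv _) hu
  exact Nat.eq_one_of_dvd_one ((Nat.dvd_add_right hn).1 hn1)

theorem t_dvd_add_two (hv : X.t ∣ X.v) (hg : X.t ∣ X.g) : X.t ∣ X.u + 2 := by
  have h : X.g = X.u + 2 + X.v * (X.u * p + (X.u + 1) * (X.u + 1)) := by
    have := X.hpv
    simp only [Ctx.g, Ctx.n]
    generalize X.u = a at this ⊢
    generalize X.v = b at this ⊢
    subst this
    ring
  rw [h] at hg
  exact (Nat.dvd_add_left (dvd_mul_of_dvd_left hv _)).1 hg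

theorem t_dvd_v (h : X.u + 1 ∣ X.e) : X.t ∣ X.v := by
  obtain ⟨a, ha⟩ := h
  refine ⟨a, Nat.eq_of_mul_eq_mul_right (show 0 < X.u + 1 by omega) ?_⟩
  rw [← X.t_mul_e, ha]
  ring

theorem t_dvd_succ (h : X.v ∣ X.e) : X.t ∣ X.u + 1 := by
  obtain ⟨a, ha⟩ := h
  refine ⟨a, Nat.eq_of_mul_eq_mul_left (show 0 < X.v by have := X.huv; omega) ?_⟩
  rw [← X.t_mul_e, ha]
  ring

theorem not_dvd_sum {r : ℕ} (hr : r.Prime) (h : r ∣ X.u + 1) : ¬ r ∣ p + X.u + 1 := fun h2 =>
  hr.not_dvd_one ((Arith.coprime_succ X.hpv) ▸ Nat.dvd_gcd h h2)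

theorem not_dvd_uv {r : ℕ} (hr : r.Prime) (h : r ∣ X.v) : ¬ r ∣ X.u * X.v + 1 := fun h2 =>
  hr.not_dvd_one ((Arith.coprime_v X.u X.v) ▸ Nat.dvd_gcd h h2)

/-- An element of the complement with a primitive value. -/
theorem exists_E_gen (S : SC G p) (hS : S.P = X.P) :
    ∃ y : nor X.P, (y : G) ∈ S.E ∧ (y : G) ≠ 1 ∧ IsPrimitiveRoot ((X.psi y : ℂ)) X.e ∧
      ¬ p ∣ orderOf (y : G) := by
  obtain ⟨w, hw⟩ := X.exists_psi_gen
  obtain ⟨a, ha, y, hy, hwy⟩ := S.dec w (hS.symm ▸ w.2)
  have hyN : y ∈ nor X.P := hS ▸ S.E_le hy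
  have haN : a ∈ nor X.P := hS ▸ P_le S ha
  have hψ : X.psi w = X.psi ⟨y, hyN⟩ := by
    rw [show w = (⟨a, haN⟩ : nor X.P) * ⟨y, hyN⟩ from Subtype.ext hwy, map_mul,
      X.psi_eq_one.2 (show a ∈ cen X.P from X.le_cen _ (hS ▸ ha)), one_mul]
  rw [hψ] at hw
  refine ⟨⟨y, hyN⟩, hy, ?_, hw, not_dvd_orderOf S hy⟩
  intro h
  have h1 : (⟨y, hyN⟩ : nor X.P) = 1 := Subtype.ext h
  rw [h1, map_one, Units.val_one] at hw
  have := hw.unique IsPrimitiveRoot.one
  have := X.two_le_e
  omega

end Ctx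

namespace Blk

variable {X : Ctx G p} (B : Blk X)

include B

theorem mem_Xa {χ : IrrCharacter G} (h : χ ∈ B.Xa) :
    χ ∈ B.Xs ∧ B.sgn χ = 1 ∧ charDegree (χ : G → ℂ) = X.u * p + 1 := Finset.mem_filter.1 h

theorem mem_Xg {χ : IrrCharacter G} (h : χ ∈ B.Xg) :
    χ ∈ B.Xs ∧ B.sgn χ = 1 ∧ charDegree (χ : G → ℂ) = X.g := Finset.mem_filter.1 h

theorem mem_Xc {χ : IrrCharacter G} (h : χ ∈ B.Xc) :
    χ ∈ B.Xs ∧ B.sgn χ = -1 ∧ charDegree (χ : G → ℂ) = p - 1 := Finset.mem_filter.1 h

theorem mem_Xb {χ : IrrCharacter G} (h : χ ∈ B.Xb) :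
    χ ∈ B.Xs ∧ B.sgn χ = -1 ∧ charDegree (χ : G → ℂ) = X.v * (p + X.u + 1) :=
  Finset.mem_filter.1 h

theorem gChar_of_Xg {χ : IrrCharacter G} (h : χ ∈ B.Xg) : X.GChar χ := by
  obtain ⟨h1, h2, h3⟩ := B.mem_Xg h
  exact ⟨h3, fun x hx hx1 y hy => by rw [B.valX χ h1 x hx hx1 y hy, h2, Int.cast_one]⟩

theorem abChar {χ : IrrCharacter G} (h : χ ∈ B.Xa ∪ B.Xb) : X.ABChar χ := by
  rcases Finset.mem_union.1 h with h | h
  · obtain ⟨h1, h2, h3⟩ := B.mem_Xa h
    exact ⟨X.u, 1, Or.inl rfl, Or.inl rfl, by rw [h3]; push_cast; ring,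
      fun x hx hx1 y hy => by rw [B.valX χ h1 x hx hx1 y hy, h2]⟩
  · obtain ⟨h1, h2, h3⟩ := B.mem_Xb h
    refine ⟨X.v + 1, -1, Or.inr rfl, Or.inr rfl, ?_,
      fun x hx hx1 y hy => by rw [B.valX χ h1 x hx hx1 y hy, h2]⟩
    have hb : ((X.v * (p + X.u + 1) + 1 : ℕ) : ℤ) = (((X.v + 1) * p : ℕ) : ℤ) :=
      congrArg _ (Arith.b_eq X.hpv).symm
    push_cast at hb
    rw [h3]
    push_cast
    linarith

theorem card_ab : (B.Xa ∪ B.Xb).card = B.Xa.card + B.Xb.card :=
  Finset.card_union_of_disjoint (Finset.disjoint_left.2 fun χ h1 h2 => by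
    have := (B.mem_Xa h1).2.1
    have := (B.mem_Xb h2).2.1
    omega)

theorem dvd_of_ab (h : (B.Xa ∪ B.Xb).Nonempty) : X.u + 1 ∣ X.e ∨ X.v ∣ X.e := by
  obtain ⟨χ, hχ⟩ := h
  rcases Finset.mem_union.1 hχ with h | h
  · exact Or.inl (B.dvd_e_of_a h)
  · exact Or.inr (B.dvd_e_of_b h)

theorem θ_val (ht : X.t = 1) {x : G} (hx : x ∈ (X.P : Subgroup G)) (hx1 : x ≠ 1) {y : G}
    (hy : y ∈ X.C0) : (B.θ : G → ℂ) (x * y) = ((-B.ε : ℤ) : ℂ) := by
  rw [B.val_mul B.mem_block_θ hx hx1 hy]
  have h := B.sum_Y_apply hx hx1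
  obtain ⟨θ₀, hθ₀⟩ := Finset.card_eq_one.1 (B.cardY.trans ht)
  rw [hθ₀, Finset.sum_singleton, show θ₀ = B.θ from
    (Finset.mem_singleton.1 (hθ₀ ▸ B.θ_mem)).symm] at h
  rw [h, Int.cast_neg]

theorem θ_notMem : B.θ ∉ B.Xs := fun h => Finset.disjoint_left.1 B.disj h B.θ_mem

/-- Shape `G`: the exceptional degree times `t` is `g`. -/
theorem td_of_top {k : ℕ} (htk : X.t * k = X.n + 1) (hd : B.d + X.e = p * k) :
    X.t * B.d = X.g := by
  have h : X.t * B.d + X.t * X.e = p * (X.n + 1) := by rw [← mul_add, hd, mul_left_comm, htk]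
  rw [mul_comm X.t X.e, X.e_mul_t, mul_add p, mul_one, mul_comm p X.n] at h
  show X.t * B.d = 1 + X.n * p
  have := hp.out.two_le
  omega

theorem C0_bot_top (h : B.Xg.Nonempty ∨
    (B.ε = -1 ∧ ∃ k, X.t * k = X.n + 1 ∧ B.d + X.e = p * k)) : X.C0 = ⊥ := by
  rcases B.Xc.eq_empty_or_nonempty with hc | ⟨χ, hχ⟩
  swap
  · exact B.C0_bot_of_c hχ
  have hce := B.card_eq
  rw [hc, Finset.card_empty, add_zero] at hce
  have hab := B.card_ab
  by_cases hxg : B.Xg.Nonempty
  · rcases X.C0_eq_bot_of_gchar B.Xg (B.Xa ∪ B.Xb) (fun χ h => B.gChar_of_Xg h) hxg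
      (fun χ h => B.abChar h) (by omega) B.dvd_of_ab with h | ⟨he, hv, hp', hg1, hab2⟩
    · exact h
    have hsq : (X.u + 1) * (X.u + 1) + 1 = p := by
      have := X.hpv
      rw [hv] at this
      omega
    rcases hp' with h5 | h17
    · -- `p = 5`: the exceptional character joins
      have hu2 : X.u + 1 = 2 := Nat.mul_self_inj.1 (by omega)
      have ht : X.t = 1 := by
        have := X.e_mul_t
        rw [he] at this
        omega
      rcases B.shape with ⟨hε, hd⟩ | ⟨hε, k, hk, hd⟩ | ⟨hε, k, hk, hd⟩ | ⟨hε, k, hk, hd⟩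
      · exact B.C0_bot_of_zero hε hd
      all_goals rw [ht, one_mul] at hk
      · have hAB : X.ABChar B.θ := ⟨X.v + 1, -1, Or.inr rfl, Or.inr rfl, by
          have hpe : X.e + 1 = p := by omega
          rw [show charDegree (B.θ : G → ℂ) = X.e + p * k from hd, hk]
          have : (X.e : ℤ) + 1 = p := by exact_mod_cast hpe
          push_cast
          linarith, fun x hx hx1 y hy => by rw [B.θ_val ht hx hx1 hy, hε]⟩
        rcases X.C0_eq_bot_of_gchar B.Xg (insert B.θ (B.Xa ∪ B.Xb)) (fun χ h => B.gChar_of_Xg h) hxg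
          (Finset.forall_mem_insert _ _ _ |>.2 ⟨hAB, fun χ h => B.abChar h⟩)
          (by rw [Finset.card_insert_of_notMem (fun h => B.θ_notMem (by
                rcases Finset.mem_union.1 h with h | h
                · exact (B.mem_Xa h).1
                · exact (B.mem_Xb h).1))]; omega)
          (fun _ => Or.inl (by rw [he, hu2]; norm_num))
          with h | ⟨-, -, -, -, hab'⟩
        · exact h
        · rw [Finset.card_insert_of_notMem (fun h => B.θ_notMem (by
                rcases Finset.mem_union.1 h with h | h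
                · exact (B.mem_Xa h).1
                · exact (B.mem_Xb h).1))] at hab'
          omega
      · have hAB : X.ABChar B.θ := ⟨X.u, 1, Or.inl rfl, Or.inl rfl, by
          have hpe : X.e + 1 = p := by omega
          have h1 : (B.d : ℤ) + X.e = p * k := by exact_mod_cast hd
          have : (X.e : ℤ) + 1 = p := by exact_mod_cast hpe
          rw [hk] at h1
          push_cast at h1
          show (B.d : ℤ) = _
          linarith, fun x hx hx1 y hy => by rw [B.θ_val ht hx hx1 hy, hε]; norm_num⟩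
        rcases X.C0_eq_bot_of_gchar B.Xg (insert B.θ (B.Xa ∪ B.Xb)) (fun χ h => B.gChar_of_Xg h) hxg
          (Finset.forall_mem_insert _ _ _ |>.2 ⟨hAB, fun χ h => B.abChar h⟩)
          (by rw [Finset.card_insert_of_notMem (fun h => B.θ_notMem (by
                rcases Finset.mem_union.1 h with h | h
                · exact (B.mem_Xa h).1
                · exact (B.mem_Xb h).1))]; omega)
          (fun _ => Or.inl (by rw [he, hu2]; norm_num))
          with h | ⟨-, -, -, -, hab'⟩
        · exact h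
        · rw [Finset.card_insert_of_notMem (fun h => B.θ_notMem (by
                rcases Finset.mem_union.1 h with h | h
                · exact (B.mem_Xa h).1
                · exact (B.mem_Xb h).1))] at hab'
          omega
      · have hG : X.GChar B.θ := ⟨by
          have := B.td_of_top (by rw [ht, one_mul]; exact hk) hd
          rwa [ht, one_mul] at this,
          fun x hx hx1 y hy => by rw [B.θ_val ht hx hx1 hy, hε]; norm_num⟩
        have hnot : B.θ ∉ B.Xg := fun h => B.θ_notMem (B.mem_Xg h).1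
        rcases X.C0_eq_bot_of_gchar (insert B.θ B.Xg) (B.Xa ∪ B.Xb)
          (Finset.forall_mem_insert _ _ _ |>.2 ⟨hG, fun χ h => B.gChar_of_Xg h⟩)
          (Finset.insert_nonempty _ _) (fun χ h => B.abChar h)
          (by rw [Finset.card_insert_of_notMem hnot]; omega) B.dvd_of_ab
          with h | ⟨-, -, -, hg', -⟩
        · exact h
        · rw [Finset.card_insert_of_notMem hnot] at hg'
          omega
    · exfalso
      have hu3 : X.u = 3 := by
        have : (X.u + 1) * (X.u + 1) = 4 * 4 := by omega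
        have := Nat.mul_self_inj.1 this
        omega
      have ht : X.t = 4 := by
        have := X.e_mul_t
        rw [he] at this
        omega
      have hv4 : X.v = 4 := by omega
      have hn : X.n = 16 := by simp [Ctx.n, hu3, hv4]
      have hst : ∀ k : ℤ, (B.d : ℤ) = B.ε * X.e + p * k → 4 ≤ B.ε * k := fun k hk => by
        have h := B.star hk
        rw [hu3, hv4, hn, hg1, hc, Finset.card_empty] at h
        push_cast at h
        omega
      rcases B.shape with ⟨hε, hd⟩ | ⟨hε, k, hk, hd⟩ | ⟨hε, k, hk, hd⟩ | ⟨hε, k, hk, hd⟩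
      · have := hst 0 (by rw [hε, hd]; simp)
        omega
      · have := hst k (by rw [hε, hd]; push_cast; ring)
        rw [ht, hv4] at hk
        rw [hε] at this
        omega
      all_goals
        have := hst k (by
          have h1 : (B.d : ℤ) + X.e = p * k := by exact_mod_cast hd
          rw [hε]; linarith)
        rw [hε] at this
        omega
  · obtain ⟨hε, k, hk, hd⟩ := h.resolve_left hxg
    rw [Finset.not_nonempty_iff_eq_empty] at hxg
    rw [hxg, Finset.card_empty, add_zero] at hce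
    have hst := B.star (k := (k : ℤ)) (by
      have h1 : (B.d : ℤ) + X.e = p * k := by exact_mod_cast hd
      rw [hε]; linarith)
    rw [hε, hxg, hc, Finset.card_empty] at hst
    push_cast at hst
    have hk0 : 0 < k := Nat.pos_of_ne_zero fun e => by rw [e, mul_zero] at hk; omega
    rcases Nat.eq_zero_or_pos B.Xa.card with hx | hx
    · exfalso
      rw [hx] at hst hce
      push_cast at hst
      have h1 : (X.t : ℤ) * X.e = X.v * (X.u + 1) := by exact_mod_cast X.t_mul_e
      have h2 : (X.t : ℤ) * k = X.u * X.v + X.u + 1 + 1 := by exact_mod_cast hk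
      have h3 : (X.e : ℤ) = 1 + B.Xb.card := by exact_mod_cast (by omega : X.e = 1 + B.Xb.card)
      have h4 : ((X.v : ℤ) + 1) * ((X.v : ℤ) * (X.u + 1) - X.t - X.u) = 2 := by
        linear_combination h2 - ((X.v : ℤ) + 1) * h1 + ((X.v : ℤ) + 1) * (X.t : ℤ) * h3 +
          (X.t : ℤ) * hst
      have h5 := Int.le_of_dvd (by norm_num) (Dvd.intro _ h4)
      have := X.huv
      have := X.hu
      omega
    · obtain ⟨χ, hχ⟩ := Finset.card_pos.1 hx
      have hyb : 0 < B.Xb.card := Nat.pos_of_ne_zero fun e => by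
        rw [e] at hst
        push_cast at hst
        have : (0 : ℤ) ≤ (B.Xa.card : ℤ) * X.u := by positivity
        omega
      obtain ⟨ψ, hψ⟩ := Finset.card_pos.1 hyb
      have ht := X.t_eq_one_of_dvd_succ (X.t_dvd_v (B.dvd_e_of_a hχ))
        (X.t_dvd_succ (B.dvd_e_of_b hψ)) ⟨k, hk.symm⟩
      have hG : X.GChar B.θ := ⟨by
          have := B.td_of_top hk hd
          rwa [ht, one_mul] at this,
          fun x hx hx1 y hy => by rw [B.θ_val ht hx hx1 hy, hε]; norm_num⟩
      rcases X.C0_eq_bot_of_gchar {B.θ} (B.Xa ∪ B.Xb)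
        (fun χ h => by rw [Finset.mem_singleton.1 h]; exact hG) (Finset.singleton_nonempty _)
        (fun χ h => B.abChar h) (by rw [Finset.card_singleton]; omega) B.dvd_of_ab
        with h | ⟨he, hv, hp', -, hab2⟩
      · exact h
      · exfalso
        have h5 : p = 5 := by
          have := X.e_mul_t
          rw [he, ht] at this
          omega
        omega

theorem false_top (h : B.Xg.Nonempty ∨
    (B.ε = -1 ∧ ∃ k, X.t * k = X.n + 1 ∧ B.d + X.e = p * k)) : False := by
  obtain ⟨S, hS, hn, he⟩ := X.exists_sc (B.C0_bot_top h)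
  have hp2 := hp.out.two_le
  rcases h with ⟨χ, hχ⟩ | ⟨hε, k, hk, hd⟩
  · obtain ⟨h1, h2, h3⟩ := B.mem_Xg hχ
    refine X.false_of_top S hn he {χ} (D := X.g) (k := X.n + 1) χ (Finset.mem_singleton_self _)
      (by have := B.a_lt_g; omega) (fun ψ hψ => by rw [Finset.mem_singleton.1 hψ]; exact h3)
      (fun ψ hψ l => by rw [Finset.mem_singleton.1 hψ]) ?_ (by simp) (by simp) ?_
    · refine B.fixDim_eq S hS h1 ?_
      rw [h2, h3, Ctx.g]
      push_cast
      ring
    · rw [Finset.card_singleton, one_mul]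
      exact X.e_le
  · refine X.false_of_top S hn he B.Ys (D := B.d) (k := k) B.θ B.θ_mem
      (X.one_lt_degree B.θ_ne) (fun ψ hψ => B.deg_Y hψ)
      (fun ψ hψ l => B.mlt_Y_eq S hS hψ B.θ_mem l) ?_ ?_ ?_ ?_
    · refine B.fixDim_eq_Y S hS B.θ_mem ?_
      have h1 : (B.d : ℤ) + X.e = p * k := by exact_mod_cast hd
      rw [hε]; linarith
    · rw [B.cardY, B.td_of_top hk hd]
    · rw [B.cardY, hk]
    · rw [B.cardY, mul_comm, X.e_mul_t]

theorem xg_zero : B.Xg = ∅ :=
  Finset.not_nonempty_iff_eq_empty.1 fun h => B.false_top (Or.inl h)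

theorem card_eq' : X.e = 1 + B.Xa.card + B.Xc.card + B.Xb.card := by
  have h := B.card_eq
  rwa [B.xg_zero, Finset.card_empty, add_zero] at h

/-- A character of degree `p - 1` with `t = 1` is impossible. -/
theorem false_of_c_one (ht : X.t = 1) {χ : IrrCharacter G} (hχ : χ ∈ B.Xc) : False := by
  obtain ⟨h1, h2, h3⟩ := B.mem_Xc hχ
  obtain ⟨S, hS, -, -⟩ := X.exists_sc (B.C0_bot_of_c hχ)
  refine X.false_of_regular S hS ?_ h3 (B.fixDim_eq S hS h1 ?_)
  · have := X.e_mul_t
    rwa [ht, mul_one] at this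
  · rw [h2, h3, Nat.cast_sub hp.out.one_le]
    push_cast
    ring

theorem not_shape_zero : ¬ (B.ε = 1 ∧ B.d = X.e) := by
  rintro ⟨hε, hd⟩
  have hst := B.star (k := 0) (by rw [hε, hd]; ring)
  rw [mul_zero, B.xg_zero, Finset.card_empty] at hst
  push_cast at hst
  have hce := B.card_eq'
  have he2 := X.two_le_e
  have hu := X.hu
  rcases B.Xb.eq_empty_or_nonempty with hb | ⟨ψ, hψ⟩
  · rw [hb, Finset.card_empty] at hst hce
    rcases B.Xa.eq_empty_or_nonempty with ha | ⟨χ, hχ⟩
    · rw [ha, Finset.card_empty] at hst hce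
      push_cast at hst
      omega
    · obtain ⟨c, hc⟩ := B.dvd_e_of_a hχ
      have h1 : ((X.u : ℤ) + 1) ∣ 1 := ⟨(c : ℤ) - B.Xa.card, by
        have h3 : (X.e : ℤ) = 1 + B.Xa.card + B.Xc.card := by exact_mod_cast (by omega :
          X.e = 1 + B.Xa.card + B.Xc.card)
        have h4 : (X.e : ℤ) = (X.u + 1) * c := by exact_mod_cast hc
        push_cast at hst
        linear_combination h4 - h3 - hst⟩
      have := Int.le_of_dvd one_pos h1
      omega
  · have hx : 0 < B.Xa.card := Nat.pos_of_ne_zero fun e => by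
      rw [e] at hst
      push_cast at hst
      have : 0 < (B.Xb.card : ℤ) * ((X.v : ℤ) + 1) := by
        have : 0 < B.Xb.card := Finset.card_pos.2 ⟨ψ, hψ⟩
        positivity
      omega
    obtain ⟨χ, hχ⟩ := Finset.card_pos.1 hx
    have htv := X.t_dvd_v (B.dvd_e_of_a hχ)
    have htu := X.t_dvd_succ (B.dvd_e_of_b hψ)
    obtain ⟨c, hc⟩ := B.dvd_e_of_a hχ
    have h1 : (X.t : ℤ) ∣ 1 := by
      have h3 : (X.e : ℤ) = 1 + B.Xa.card + B.Xc.card + B.Xb.card := by exact_mod_cast hce
      have h4 : (X.e : ℤ) = (X.u + 1) * c := by exact_mod_cast hc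
      have e1 : (1 : ℤ) = ((c : ℤ) - B.Xa.card) * ((X.u + 1 : ℕ) : ℤ) +
          (B.Xb.card : ℤ) * (X.v : ℤ) := by
        push_cast; linear_combination h4 - h3 - hst
      rw [e1]
      exact dvd_add (dvd_mul_of_dvd_right (Int.natCast_dvd_natCast.2 htu) _)
        (dvd_mul_of_dvd_right (Int.natCast_dvd_natCast.2 htv) _)
    have ht : X.t = 1 := Nat.eq_one_of_dvd_one (Int.natCast_dvd_natCast.1 (by simpa using h1))
    obtain ⟨S, hS, -, -⟩ := X.exists_sc (B.C0_bot_of_zero hε hd)
    have he : X.e = p - 1 := by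
      have := X.e_mul_t
      rwa [ht, mul_one] at this
    refine X.false_of_regular S hS he (χ := B.θ) (hd.trans he) (B.fixDim_eq_Y S hS B.θ_mem ?_)
    rw [hε, hd]
    push_cast
    ring

/-- If everything vanishes at a regular element the relation fails. -/
theorem false_of_vanish {y : G} (hy : ¬ p ∣ orderOf y) (hθ : (B.θ : G → ℂ) y = 0)
    (ha : ∀ χ ∈ B.Xa, (χ : G → ℂ) y = 0) (hb : ∀ χ ∈ B.Xb, (χ : G → ℂ) y = 0)
    (hc : ∀ χ ∈ B.Xc, (χ : G → ℂ) y = 0) : False := by
  have h := B.rel B.θ B.θ_mem y hy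
  rw [hθ, mul_zero, B.sum_X, B.xg_zero, Finset.sum_empty, B.sgn_triv,
    Finset.sum_eq_zero (fun χ hχ => by rw [ha χ hχ, mul_zero]),
    Finset.sum_eq_zero (fun χ hχ => by rw [hc χ hχ, mul_zero]),
    Finset.sum_eq_zero (fun χ hχ => by rw [hb χ hχ, mul_zero]),
    show ((trivialIrr : IrrCharacter G) : G → ℂ) y = 1 from rfl] at h
  norm_num at h

theorem not_shape_A : ¬ (B.ε = -1 ∧ ∃ k, X.t * k = X.u + 1 ∧ B.d + X.e = p * k) := by
  rintro ⟨hε, k, hk, hd⟩
  have hst := B.star (k := (k : ℤ)) (by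
    have h1 : (B.d : ℤ) + X.e = p * k := by exact_mod_cast hd
    rw [hε]; linarith)
  rw [hε, B.xg_zero, Finset.card_empty] at hst
  push_cast at hst
  have hst' : B.Xc.card + B.Xb.card * (X.v + 1) = B.Xa.card * X.u + k := by
    have : ((B.Xc.card + B.Xb.card * (X.v + 1) : ℕ) : ℤ) = ((B.Xa.card * X.u + k : ℕ) : ℤ) := by
      push_cast; linarith
    exact_mod_cast this
  have hce := B.card_eq'
  have he2 := X.two_le_e
  have hu := X.hu
  have huv := X.huv
  have hte := X.t_mul_e
  have ht1 := X.t_pos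
  have hk0 : 0 < k := Nat.pos_of_ne_zero fun e => by rw [e, mul_zero] at hk; omega
  rcases B.Xa.eq_empty_or_nonempty with ha | ⟨χ, hχ⟩
  · rw [ha, Finset.card_empty] at hst' hce
    have hku : k ≤ X.u + 1 := hk ▸ Nat.le_mul_of_pos_left k ht1
    have hyb : B.Xb.card = 0 := Nat.eq_zero_of_not_pos fun h => by
      have : X.v + 1 ≤ B.Xb.card * (X.v + 1) := Nat.le_mul_of_pos_left _ h
      omega
    rw [hyb] at hst' hce
    have he : X.e = 1 + k := by omega
    rw [he, mul_add, mul_one, hk] at hte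
    have ht : X.t ≤ X.u + 1 := hk ▸ Nat.le_mul_of_pos_right _ hk0
    have hv2 : X.v = 2 := by
      by_contra h
      have : 3 * (X.u + 1) ≤ X.v * (X.u + 1) := Nat.mul_le_mul_right _ (by omega)
      omega
    have hu1 : X.u = 1 := by omega
    rw [hv2, hu1] at hte
    rw [hu1] at hk
    have hyc : 0 < B.Xc.card := by omega
    obtain ⟨ψ, hψ⟩ := Finset.card_pos.1 hyc
    have hg := B.t_dvd_g_of_c hψ
    have hpv := X.hpv
    rw [hu1, hv2] at hpv
    rw [show X.t = 2 by omega, Ctx.g, Ctx.n, hu1, hv2, show p = 5 by omega] at hg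
    norm_num at hg
  · have htu : X.t ∣ X.u + 1 := ⟨k, hk.symm⟩
    have htv := X.t_dvd_v (B.dvd_e_of_a hχ)
    rcases B.Xc.eq_empty_or_nonempty with hc | ⟨ψ, hψ⟩
    swap
    · exact B.false_of_c_one (X.t_eq_one_of_dvd htv htu (B.t_dvd_g_of_c hψ)) hψ
    rw [hc, Finset.card_empty] at hst' hce
    obtain ⟨α, hα⟩ := htv
    have he : X.e = X.t * α * k := by
      refine Nat.eq_of_mul_eq_mul_left ht1 ?_
      rw [hte, hα, ← hk]; ring
    set x := B.Xa.card with hx
    set yb := B.Xb.card with hyb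
    have key : 1 + (k + x * (X.t * k)) = X.t * α * k + yb * (X.t * α) := by
      rw [← he, hk, ← hα]
      linarith
    have hαk : ∀ r : ℕ, r.Prime → r ∣ α → r ∣ k → False := fun r hr h1 h2 =>
      Ctx.false_of_dvd_one X hr key (dvd_add h2 (dvd_mul_of_dvd_right (dvd_mul_of_dvd_right h2 _) _))
        (dvd_add (dvd_mul_of_dvd_right h2 _)
          (dvd_mul_of_dvd_right (dvd_mul_of_dvd_right h1 _) _))
    have htk' : ∀ r : ℕ, r.Prime → r ∣ X.t → r ∣ k → False := fun r hr h1 h2 =>
      Ctx.false_of_dvd_one X hr key (dvd_add h2 (dvd_mul_of_dvd_right (dvd_mul_of_dvd_left h1 _) _))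
        (dvd_add (dvd_mul_of_dvd_left (dvd_mul_of_dvd_left h1 _) _)
          (dvd_mul_of_dvd_right (dvd_mul_of_dvd_left h1 _) _))
    by_cases hk1 : k = 1
    · subst hk1
      rw [mul_one] at hk key
      have htd : X.t ∣ 2 := by
        have e : 2 + x * X.t = X.t * α * 1 + yb * (X.t * α) := by rw [← key]; ring
        refine (Nat.dvd_add_left (dvd_mul_left _ x)).1 ?_
        rw [e, mul_one]
        exact dvd_add (dvd_mul_right _ _) (dvd_mul_of_dvd_right (dvd_mul_right _ _) _)
      have ht2 : X.t = 2 := by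
        have := Nat.le_of_dvd two_pos htd
        omega
      have hu1 : X.u = 1 := by omega
      rw [hu1] at hst'
      rw [ht2] at hα he
      rw [hα] at hst'
      rw [he] at hce
      have hpos : 0 < yb := Nat.pos_of_ne_zero fun e => by
        rw [e] at hst'; omega
      have : 2 * α + 2 ≤ yb * (2 * α + 2) := Nat.le_mul_of_pos_left _ hpos
      have h2 : yb * (2 * α + 2) = yb * (2 * α + 1) + yb := by ring
      omega
    · have hα1 : α ≠ 1 := fun e => by
        rw [e, mul_one] at hα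
        have h2 : X.t * 2 ≤ X.t * k := Nat.mul_le_mul_left _ (by omega)
        omega
      obtain ⟨r, hr, hrα⟩ := Nat.exists_prime_and_dvd hα1
      obtain ⟨r', hr', hrk⟩ := Nat.exists_prime_and_dvd hk1
      haveI := Fact.mk hr
      haveI := Fact.mk hr'
      obtain ⟨y, hy, hyp⟩ := X.exists_regular_gen
      have hre : r ∣ X.e := he ▸ dvd_mul_of_dvd_left (dvd_mul_of_dvd_right hrα _) _
      have hre' : r' ∣ X.e := he ▸ dvd_mul_of_dvd_right hrk _
      have hru : r' ∣ X.u + 1 := hk ▸ dvd_mul_of_dvd_right hrk _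
      have hrv : r ∣ X.v := hα ▸ dvd_mul_of_dvd_right hrα _
      have hdeq : B.d = k * (X.u * X.v + 1) := by
        have h1 : X.t * (B.d + X.e) = X.t * (p * k) := congrArg _ hd
        rw [mul_add, hte, mul_left_comm, hk] at h1
        have h2 : X.t * B.d = X.t * (k * (X.u * X.v + 1)) := by
          rw [← mul_assoc, hk, ← Arith.a_eq X.hpv]
          have h3 := X.p_sub_one
          rw [mul_add p, mul_one, mul_comm p X.u] at h1
          have := hp.out.two_le
          omega
        exact Nat.eq_of_mul_eq_mul_left ht1 h2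
      refine B.false_of_vanish hyp ?_ (fun χ hχ => ?_) (fun χ hχ => ?_)
        (fun χ hχ => by rw [hc] at hχ; simp at hχ)
      · refine B.vanish_Y (m := X.v * (p + X.u + 1)) ?_ hy hyp hre' ?_ B.θ_mem
        · rw [hdeq, he, X.g_eq, hα]; ring
        · intro h
          rcases hr'.dvd_mul.1 h with h | h
          · rw [hα] at h
            rcases hr'.dvd_mul.1 h with h | h
            · exact htk' r' hr' h hrk
            · exact hαk r' hr' h hrk
          · exact X.not_dvd_sum hr' hru h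
      · obtain ⟨h1, -, h3⟩ := B.mem_Xa hχ
        refine B.vanish_X h1 (m := α * (p + X.u + 1)) ?_ hy hre' ?_
        · rw [h3, Arith.a_eq X.hpv, he, X.g_eq, ← hk]; ring
        · intro h
          rcases hr'.dvd_mul.1 h with h | h
          · exact hαk r' hr' h hrk
          · exact X.not_dvd_sum hr' hru h
      · obtain ⟨h1, -, h3⟩ := B.mem_Xb hχ
        refine B.vanish_X h1 (m := k * (X.u * X.v + 1)) ?_ hy hre ?_
        · rw [h3, he, X.g_eq, hα]; ring
        · intro h
          rcases hr.dvd_mul.1 h with h | h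
          · exact hαk r hr hrα h
          · exact X.not_dvd_uv hr hrv h

/-- The surviving shapes. -/
theorem shape_B : B.ε = 1 ∧ B.d = X.e + p ∧ X.t = X.v ∧ X.e = X.u + 1 ∧ B.Xa.card = 1 ∧
    B.Xb.card = 0 ∧
    ((X.u = 1 ∧ B.Xc.card = 0) ∨ (X.v = X.u + 2 ∧ B.Xc.card + 1 = X.u ∧ 0 < B.Xc.card)) := by
  obtain ⟨hε, k, hk, hd⟩ : B.ε = 1 ∧ ∃ k, X.t * k = X.v ∧ B.d = X.e + p * k := by
    rcases B.shape with h | h | h | h
    · exact absurd h B.not_shape_zero
    · exact h
    · exact absurd h B.not_shape_A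
    · exact (B.false_top (Or.inr h)).elim
  have hst := B.star (k := (k : ℤ)) (by rw [hε, hd]; push_cast; ring)
  rw [hε, one_mul, B.xg_zero, Finset.card_empty] at hst
  push_cast at hst
  have hst' : B.Xa.card * X.u = k + B.Xc.card + B.Xb.card * (X.v + 1) := by
    have : ((B.Xa.card * X.u : ℕ) : ℤ) = ((k + B.Xc.card + B.Xb.card * (X.v + 1) : ℕ) : ℤ) := by
      push_cast; linarith
    exact_mod_cast this
  have hce := B.card_eq'
  have he2 := X.two_le_e
  have hu := X.hu
  have huv := X.huv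
  have hte := X.t_mul_e
  have ht1 := X.t_pos
  have hk0 : 0 < k := Nat.pos_of_ne_zero fun e => by rw [e, mul_zero] at hk; omega
  have hxpos : 0 < B.Xa.card := Nat.pos_of_ne_zero fun e => by rw [e] at hst'; omega
  obtain ⟨χ₀, hχ₀⟩ := Finset.card_pos.1 hxpos
  have he : X.e = k * (X.u + 1) := by
    refine Nat.eq_of_mul_eq_mul_left ht1 ?_
    rw [hte, ← hk]; ring
  have hdeq : B.d = k * (p + X.u + 1) := by rw [hd, he]; ring
  have htv : X.t ∣ X.v := ⟨k, hk.symm⟩
  set x := B.Xa.card with hx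
  rcases B.Xb.eq_empty_or_nonempty with hb | ⟨ψb, hψb⟩
  · rw [hb, Finset.card_empty] at hst' hce ⊢
    have key : 1 + x * (X.u + 1) = k * (X.u + 2) := by
      have e1 : x * (X.u + 1) = x * X.u + x := by ring
      have e2 : k * (X.u + 2) = k * (X.u + 1) + k := by ring
      rw [e1, e2, ← he]; omega
    have hcop : ∀ r : ℕ, r.Prime → r ∣ k → r ∣ X.u + 1 → False := fun r hr h1 h2 =>
      Ctx.false_of_dvd_one X hr key (dvd_mul_of_dvd_right h2 _) (dvd_mul_of_dvd_left h1 _)
    rcases B.Xc.eq_empty_or_nonempty with hc | ⟨ψ, hψ⟩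
    · rw [hc, Finset.card_empty] at hst' hce ⊢
      have h1 : x * (X.u * (X.u + 2)) = x * (X.u + 1) + 1 := by
        rw [← mul_assoc, hst']; simp only [add_zero, zero_mul]; omega
      have hux : X.u = 1 := by
        by_contra h
        have h2 : X.u + 3 ≤ X.u * (X.u + 2) := by
          have : 2 * (X.u + 2) ≤ X.u * (X.u + 2) := Nat.mul_le_mul_right _ (by omega)
          omega
        have h3 := Nat.mul_le_mul_left x h2
        have h4 : x * (X.u + 3) = x * (X.u + 1) + 2 * x := by ring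
        omega
      rw [hux] at h1 hst'
      have hk1 : k = 1 := by omega
      rw [hk1, mul_one] at hk hd
      rw [hk1, one_mul] at he
      exact ⟨hε, hd, hk, he, by omega, rfl, Or.inl ⟨hux, rfl⟩⟩
    · by_cases hk1 : k = 1
      · subst hk1
        rw [mul_one] at hk hd
        rw [one_mul] at he key
        have hdv : X.v ∣ X.u + 2 := hk ▸ X.t_dvd_add_two htv (B.t_dvd_g_of_c hψ)
        have hv2 : X.v = X.u + 2 := by
          obtain ⟨c, hc⟩ := hdv
          rcases (show c = 0 ∨ c = 1 ∨ 2 ≤ c by omega) with e | e | e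
          · rw [e, mul_zero] at hc; omega
          · rw [e, mul_one] at hc; omega
          · have := Nat.mul_le_mul_left X.v e
            omega
        have hx1 : x = 1 := by
          rcases (show x = 1 ∨ 2 ≤ x by omega) with e | e
          · exact e
          · have := Nat.mul_le_mul_right (X.u + 1) e
            omega
        rw [hx1, one_mul] at hst'
        have := Finset.card_pos.2 ⟨ψ, hψ⟩
        exact ⟨hε, hd, hk, he, hx1, rfl, Or.inr ⟨hv2, by omega, this⟩⟩
      · exfalso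
        obtain ⟨r, hr, hrk⟩ := Nat.exists_prime_and_dvd hk1
        obtain ⟨r', hr', hru⟩ := Nat.exists_prime_and_dvd (show X.u + 1 ≠ 1 by omega)
        haveI := Fact.mk hr
        haveI := Fact.mk hr'
        obtain ⟨S, hS, -, -⟩ := X.exists_sc (B.C0_bot_of_c hψ)
        obtain ⟨y, hyE, hy1, hy, hyp⟩ := X.exists_E_gen S hS
        have hrv : r ∣ X.v := hk ▸ dvd_mul_of_dvd_right hrk _
        refine B.false_of_vanish hyp ?_ (fun χ hχ => ?_) (fun χ hχ => ?_) (fun χ hχ => ?_)
        · refine B.vanish_Y (m := (X.u + 1) * (X.u * X.v + 1)) ?_ hy hyp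
            (he ▸ dvd_mul_of_dvd_left hrk _) ?_ B.θ_mem
          · rw [hdeq, he, X.g_eq]; ring
          · intro h
            rcases hr.dvd_mul.1 h with h | h
            · exact hcop r hr hrk h
            · exact X.not_dvd_uv hr hrv h
        · obtain ⟨h1, -, h3⟩ := B.mem_Xa hχ
          refine B.vanish_X h1 (m := k * (p + X.u + 1)) ?_ hy (he ▸ dvd_mul_of_dvd_right hru _) ?_
          · rw [h3, Arith.a_eq X.hpv, he, X.g_eq]; ring
          · intro h
            rcases hr'.dvd_mul.1 h with h | h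
            · exact hcop r' hr' h hru
            · exact X.not_dvd_sum hr' hru h
        · rw [hb] at hχ; simp at hχ
        · obtain ⟨h1, h2, h3⟩ := B.mem_Xc hχ
          have hfd : fixDim S χ = 0 := B.fixDim_eq S hS h1 (by
            rw [h2, h3, Nat.cast_sub hp.out.one_le]; push_cast; ring)
          rw [← fixFun_ne S (IsIrr.isClassFunction χ.2) (y := (⟨(y : G), hyE⟩ : S.E))
            (fun e => hy1 (congrArg Subtype.val e)), fixFun_expand]
          refine Finset.sum_eq_zero fun l _ => ?_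
          rw [show mlt S χ l = 0 by have := mlt_le_fixDim S χ l; omega, Nat.cast_zero, zero_mul]
  · exfalso
    obtain ⟨β, hβ⟩ := X.t_dvd_succ (B.dvd_e_of_b hψb)
    rcases B.Xc.eq_empty_or_nonempty with hc | ⟨ψ, hψ⟩
    swap
    · exact B.false_of_c_one (X.t_eq_one_of_dvd htv ⟨β, hβ⟩ (B.t_dvd_g_of_c hψ)) hψ
    rw [hc, Finset.card_empty, add_zero] at hst' hce
    set yb := B.Xb.card with hyb
    have hyb0 : 0 < yb := Finset.card_pos.2 ⟨ψb, hψb⟩
    have key : 1 + x * (X.t * β) = k * (X.t * β) + (yb * (X.t * k) + k) := by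
      rw [← hβ, ← he, hk]
      linarith
    have hkβ : ∀ r : ℕ, r.Prime → r ∣ k → r ∣ β → False := fun r hr h1 h2 =>
      Ctx.false_of_dvd_one X hr key (dvd_mul_of_dvd_right (dvd_mul_of_dvd_right h2 _) _)
        (dvd_add (dvd_mul_of_dvd_left h1 _)
          (dvd_add (dvd_mul_of_dvd_right (dvd_mul_of_dvd_right h1 _) _) h1))
    have hkt : ∀ r : ℕ, r.Prime → r ∣ k → r ∣ X.t → False := fun r hr h1 h2 =>
      Ctx.false_of_dvd_one X hr key (dvd_mul_of_dvd_right (dvd_mul_of_dvd_left h2 _) _)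
        (dvd_add (dvd_mul_of_dvd_left h1 _)
          (dvd_add (dvd_mul_of_dvd_right (dvd_mul_of_dvd_left h2 _) _) h1))
    have hk_of_β : β = 1 → k = 1 := by
      intro e
      subst e
      rw [mul_one] at hβ key
      have h1 : (1 : ℤ) + x * X.t = k * X.t + (yb * (X.t * k) + k) := by exact_mod_cast key
      have h2 : (x : ℤ) * X.u = k + yb * (X.v + 1) := by exact_mod_cast hst'
      have h3 : (X.u : ℤ) + 1 = X.t := by exact_mod_cast hβ
      have h4 : (X.t : ℤ) * k = X.v := by exact_mod_cast hk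
      set m : ℤ := (X.t : ℤ) * X.t - X.t - 1 - X.t * yb with hm
      have hm2 : ((k : ℤ) + 1) * m = (X.t : ℤ) * X.t - 2 := by
        rw [hm]
        linear_combination ((X.t : ℤ)) * h2 - ((X.t : ℤ) - 1) * h1 - (X.t : ℤ) * (x : ℤ) * h3 -
          (X.t : ℤ) * (yb : ℤ) * h4
      have ht2 : (2 : ℤ) ≤ X.t := by omega
      have hmt : (X.t : ℤ) * X.t ≥ 4 := by nlinarith
      have hm0 : 0 < m := by
        by_contra hneg
        push Not at hneg
        have : ((k : ℤ) + 1) * m ≤ 0 := mul_nonpos_of_nonneg_of_nonpos (by positivity) hneg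
        omega
      have hmge : (X.t : ℤ) - 1 ≤ m := by
        have h5 : (X.t : ℤ) ∣ m + 1 := ⟨(X.t : ℤ) - 1 - yb, by rw [hm]; ring⟩
        have := Int.le_of_dvd (by omega) h5
        omega
      by_contra hk1
      have hdk : (X.t : ℤ) ∣ (k : ℤ) - 1 := ⟨(x : ℤ) - k - yb * k, by linear_combination -h1⟩
      have := Int.le_of_dvd (by omega) hdk
      nlinarith
    by_cases hkβ1 : k = 1
    · -- `p = v ^ 2 + 1`
      subst hkβ1
      rw [mul_one] at hk
      rw [one_mul] at he
      have hv : X.v = X.u + 1 := by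
        have h1 : X.t ≤ X.u + 1 := Nat.le_of_dvd (Nat.succ_pos _) ⟨β, hβ⟩
        omega
      have hp5 := X.five_le_p
      have hpodd := hp.out.odd_of_ne_two (by omega)
      have hev : Even X.v := by
        by_contra hodd
        rw [Nat.not_even_iff_odd] at hodd
        rw [X.hpv, ← hv] at hpodd
        exact (Nat.not_even_iff_odd.2 hpodd) (by
          obtain ⟨c, hc⟩ := hodd.mul hodd
          exact ⟨c + 1, by omega⟩)
      refine X.not_even_of_odd ?_ (he ▸ hv ▸ hev)
      rw [X.g_eq]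
      refine Odd.mul ?_ ?_
      · exact (Even.mul_left hev _).add_one
      · rw [add_assoc, ← hv]
        exact hpodd.add_even hev
    · have hβ1 : β ≠ 1 := fun e => hkβ1 (hk_of_β e)
      obtain ⟨r, hr, hrk⟩ := Nat.exists_prime_and_dvd hkβ1
      obtain ⟨r', hr', hrβ⟩ := Nat.exists_prime_and_dvd hβ1
      haveI := Fact.mk hr
      haveI := Fact.mk hr'
      obtain ⟨y, hy, hyp⟩ := X.exists_regular_gen
      have hru : r' ∣ X.u + 1 := hβ ▸ dvd_mul_of_dvd_right hrβ _
      have hrv : r ∣ X.v := hk ▸ dvd_mul_of_dvd_right hrk _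
      have hre : r ∣ X.e := he ▸ dvd_mul_of_dvd_left hrk _
      have hre' : r' ∣ X.e := he ▸ dvd_mul_of_dvd_right hru _
      refine B.false_of_vanish hyp ?_ (fun χ hχ => ?_) (fun χ hχ => ?_)
        (fun χ hχ => by rw [hc] at hχ; simp at hχ)
      · refine B.vanish_Y (m := (X.u + 1) * (X.u * X.v + 1)) ?_ hy hyp hre ?_ B.θ_mem
        · rw [hdeq, he, X.g_eq]; ring
        · intro h
          rcases hr.dvd_mul.1 h with h | h
          · rw [hβ] at h
            rcases hr.dvd_mul.1 h with h | h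
            · exact hkt r hr hrk h
            · exact hkβ r hr hrk h
          · exact X.not_dvd_uv hr hrv h
      · obtain ⟨h1, -, h3⟩ := B.mem_Xa hχ
        refine B.vanish_X h1 (m := k * (p + X.u + 1)) ?_ hy hre' ?_
        · rw [h3, Arith.a_eq X.hpv, he, X.g_eq]; ring
        · intro h
          rcases hr'.dvd_mul.1 h with h | h
          · exact hkβ r' hr' h hrβ
          · exact X.not_dvd_sum hr' hru h
      · obtain ⟨h1, -, h3⟩ := B.mem_Xb hχ
        refine B.vanish_X h1 (m := β * (X.u * X.v + 1)) ?_ hy hre ?_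
        · rw [h3, he, X.g_eq, ← hk, hβ]; ring
        · intro h
          rcases hr.dvd_mul.1 h with h | h
          · exact hkβ r hr hrk h
          · exact X.not_dvd_uv hr hrv h

end Blk

end Cfsg.Agent.H78.BR
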