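import Cfsg.Agent.H78.BR.Action
import Cfsg.Agent.H86.FewSylowExceptional
import Cfsg.Agent.H86.FewSylowReduce

/-!
# Elements of the centralizer fix at most one orbit of Sylow subgroups

If the two point stabilizers act differently on the two subgroups of order `p`, a nontrivial
subgroup of `C(P)` centralizes at most `p + 1` Sylow subgroups.
-/

set_option linter.unusedSectionVars false
set_option linter.style.haveILetI false

open scoped Classical Pointwise

namespace Cfsg.Agent.H78.BR

open Subgroup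

universe u

section Core

variable {G : Type u} [Group G] [Finite G]

/-- The derived series of a subgroup inside the ambient group. -/
def derSeq (M : Subgroup G) : ℕ → Subgroup G
  | 0 => M
  | i + 1 => ⁅derSeq M i, derSeq M i⁆

theorem derSeq_succ_le (M : Subgroup G) (i : ℕ) : derSeq M (i + 1) ≤ derSeq M i :=
  commutator_le_self _

theorem derSeq_le (M : Subgroup G) : ∀ i, derSeq M i ≤ M
  | 0 => le_rfl
  | i + 1 => (derSeq_succ_le M i).trans (derSeq_le M i)

theorem derSeq_mono {M M' : Subgroup G} (h : M ≤ M') : ∀ i, derSeq M i ≤ derSeq M' i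
  | 0 => h
  | i + 1 => commutator_mono (derSeq_mono h i) (derSeq_mono h i)

theorem derSeq_conj {M : Subgroup G} {c : G}
    (hc : ∀ x ∈ M, c * x * c⁻¹ ∈ M) : ∀ i, ∀ x ∈ derSeq M i, c * x * c⁻¹ ∈ derSeq M i
  | 0 => hc
  | i + 1 => by
    intro x hx
    have h : (⁅derSeq M i, derSeq M i⁆).map (MulAut.conj c).toMonoidHom ≤ derSeq M (i + 1) := by
      rw [map_commutator]
      refine commutator_mono ?_ ?_ <;>
      · rintro _ ⟨y, hy, rfl⟩
        exact derSeq_conj hc i y hy
    exact h ⟨x, hx, rfl⟩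

/-- The last term of the derived series. -/
noncomputable def perfCore (M : Subgroup G) : Subgroup G := derSeq M (Nat.card G)

theorem perfCore_le (M : Subgroup G) : perfCore M ≤ M := derSeq_le M _

theorem perfCore_mono {M M' : Subgroup G} (h : M ≤ M') : perfCore M ≤ perfCore M' :=
  derSeq_mono h _

theorem commutator_perfCore (M : Subgroup G) : commutator (perfCore M) = ⊤ := by
  have hstep : ∀ i, (∃ j < i, derSeq M (j + 1) = derSeq M j) ∨
      Nat.card (derSeq M i) + i ≤ Nat.card G := by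
    intro i
    induction i with
    | zero => exact Or.inr (by simpa using Subgroup.card_le_card_group _)
    | succ i ih =>
      rcases ih with ⟨j, hj, he⟩ | h
      · exact Or.inl ⟨j, hj.trans i.lt_succ_self, he⟩
      · by_cases he : derSeq M (i + 1) = derSeq M i
        · exact Or.inl ⟨i, i.lt_succ_self, he⟩
        · right
          have : Nat.card (derSeq M (i + 1)) < Nat.card (derSeq M i) := by
            by_contra hc
            exact he (eq_of_le_of_card_ge (derSeq_succ_le M i) (not_lt.1 hc))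
          omega
  obtain ⟨j, hj, he⟩ := (hstep (Nat.card G)).resolve_right (by
    have : 0 < Nat.card (derSeq M (Nat.card G)) := Nat.card_pos
    omega)
  have hst : ∀ d, derSeq M (j + d) = derSeq M j := by
    intro d
    induction d with
    | zero => rfl
    | succ d ih =>
      show ⁅derSeq M (j + d), derSeq M (j + d)⁆ = _
      rw [ih]
      exact he
  have hR : perfCore M = derSeq M j := by
    rw [perfCore, show Nat.card G = j + (Nat.card G - j) by omega, hst]
  apply Subgroup.map_injective (perfCore M).subtype_injective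
  rw [map_subtype_commutator, ← MonoidHom.range_eq_map, range_subtype, hR]
  exact he

end Core

theorem few_arith {p m n cj : ℕ} (hp : p.Prime) (hm : 2 ≤ m) (hmn : m < n) (hn : n < p)
    (hcj : 0 < cj) (hdvd : 1 + m * p ∣ cj * (1 + n * p))
    (hpairs : cj * (m * (m - 1)) ≤ n * (n - 1)) :
    ¬ H86.FewSylowArith.Rep p m ∧ ∀ a, p = 2 ^ a + 1 → 2 * (m + 1) ≠ p - 1 := by
  have hp2 := hp.two_le
  have hd : 1 + m * p ∣ cj * (n - m) := by
    have hco : Nat.Coprime (1 + m * p) p :=
      (Nat.coprime_add_mul_right_left 1 p m).2 (Nat.coprime_one_left p)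
    refine hco.dvd_of_dvd_mul_right (n := p) ?_
    have h : cj * (1 + n * p) = cj * (1 + m * p) + cj * (n - m) * p := by
      rw [mul_assoc, ← mul_add, Nat.sub_mul]
      have : m * p ≤ n * p := Nat.mul_le_mul_right p hmn.le
      congr 1
      omega
    rw [h] at hdvd
    exact (Nat.dvd_add_right (dvd_mul_left _ _)).1 hdvd
  have h1 := Nat.le_of_dvd (Nat.mul_pos hcj (by omega)) hd
  have hkey : (1 + m * p) * (m * (m - 1)) ≤ n * (n - 1) * (n - m) :=
    calc (1 + m * p) * (m * (m - 1)) ≤ cj * (n - m) * (m * (m - 1)) := Nat.mul_le_mul_right _ h1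
      _ = cj * (m * (m - 1)) * (n - m) := by ring
      _ ≤ _ := Nat.mul_le_mul_right _ hpairs
  obtain ⟨n', rfl⟩ : ∃ n', n = n' + 1 := ⟨n - 1, by omega⟩
  obtain ⟨m', rfl⟩ : ∃ m', m = m' + 1 := ⟨m - 1, by omega⟩
  simp only [Nat.add_sub_cancel] at hkey
  rw [show n' + 1 - (m' + 1) = n' - m' by omega] at hkey
  have hlt : (n' + 1) * n' * (n' - m') < p * p * (p - (m' + 1)) := by
    have : (n' + 1) * n' ≤ p * p := Nat.mul_le_mul hn.le (by omega)
    calc (n' + 1) * n' * (n' - m') ≤ p * p * (n' - m') := Nat.mul_le_mul_right _ this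
      _ < _ := Nat.mul_lt_mul_of_pos_left (by omega) (Nat.mul_pos (by omega) (by omega))
  obtain ⟨r, hr⟩ : ∃ r, p = m' + 1 + r := ⟨p - (m' + 1), by omega⟩
  rw [show p - (m' + 1) = r by omega] at hlt
  have hcube : (m' + 1) * (m' + 1) * m' < p * r := by
    refine Nat.lt_of_mul_lt_mul_left (a := p) ?_
    calc p * ((m' + 1) * (m' + 1) * m') = (m' + 1) * p * ((m' + 1) * m') := by ring
      _ ≤ (1 + (m' + 1) * p) * ((m' + 1) * m') := Nat.mul_le_mul_right _ (Nat.le_add_left _ _)
      _ < p * p * r := hkey.trans_lt hlt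
      _ = _ := by ring
  refine ⟨?_, fun a ha he => ?_⟩
  · rintro ⟨h, u, hh, hu, hrep⟩
    have h2 : p + 3 ≤ 2 * (m' + 1) := by
      by_contra hc
      push Not at hc
      have h3 : (2 * (m' + 1)) * (u + 1) ≤ (p + 2) * (u + 1) := Nat.mul_le_mul_right _ (by omega)
      have h4 : u * p ≤ h * u * p := by rw [mul_assoc]; exact Nat.le_mul_of_pos_left _ hh
      have h5 : p ≤ u * p := Nat.le_mul_of_pos_left _ hu
      have h6 : u ≤ u ^ 2 := Nat.le_self_pow two_ne_zero u
      have h7 : 1 ≤ u ^ 2 := Nat.one_le_pow _ _ hu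
      nlinarith
    have h8 : (p + 3) * (p + 3) * (p + 1) ≤ 2 * (m' + 1) * (2 * (m' + 1)) * (2 * m') :=
      Nat.mul_le_mul (Nat.mul_le_mul h2 h2) (by omega)
    have h9 : p * (2 * r + 3) ≤ p * p := Nat.mul_le_mul_left p (by omega)
    have h10 : 2 * 2 * p ≤ p * p * p := Nat.mul_le_mul_right p (Nat.mul_le_mul hp2 hp2)
    nlinarith [show 2 * (m' + 1) * (2 * (m' + 1)) * (2 * m') = 8 * ((m' + 1) * (m' + 1) * m')
      by ring, show (p + 3) * (p + 3) * (p + 1) = p * p * p + 7 * (p * p) + 15 * p + 9 by ring,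
      show p * (2 * r + 3) = 2 * (p * r) + 3 * p by ring]
  · have hp9 : 17 ≤ p := by
      rcases Nat.lt_or_ge a 4 with h4 | h4
      · exfalso
        interval_cases a <;> norm_num at ha <;> subst ha <;> first | omega | norm_num at hp
      · have : 2 ^ 4 ≤ 2 ^ a := Nat.pow_le_pow_right (by norm_num) h4
        omega
    obtain ⟨d, rfl⟩ : ∃ d, m' = 6 + d := ⟨m' - 6, by omega⟩
    have h3 : p = 2 * d + 17 := by omega
    have h4 : r = d + 10 := by omega
    subst h3 h4
    ring_nf at hcube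
    nlinarith [hcube]

variable {G : Type u} [Group G] [Fintype G] {p : ℕ} [hp : Fact p.Prime]

theorem card_sylow_subgroup {M : Subgroup G} (P : Sylow p G) (hP : (P : Subgroup G) ≤ M) :
    Nat.card (Sylow p M) =
      (Finset.univ.filter fun R : Sylow p G => (R : Subgroup G) ≤ M).card := by
  have hcard : ∀ R : Sylow p M,
      Nat.card ((R : Subgroup M).map M.subtype) = p ^ (Nat.card G).factorization p := by
    intro R
    rw [Subgroup.card_map_of_injective M.subtype_injective, R.card_eq_multiplicity,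
      ← (P.subtype hP).card_eq_multiplicity, ← P.card_eq_multiplicity]
    exact Nat.card_congr (subgroupOfEquivOfLe hP).toEquiv
  let e : Sylow p M ≃ {R : Sylow p G // (R : Subgroup G) ≤ M} :=
    { toFun := fun R => ⟨Sylow.ofCard _ (hcard R), by
        rw [Sylow.coe_ofCard]; exact map_subtype_le _⟩
      invFun := fun R => R.1.subtype R.2
      left_inv := fun R => Sylow.ext (by
        rw [Sylow.coe_subtype, Sylow.coe_ofCard]
        exact comap_map_eq_self_of_injective M.subtype_injective _)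
      right_inv := fun R => Subtype.ext (Sylow.ext (by
        rw [Sylow.coe_ofCard, Sylow.coe_subtype, subgroupOf_map_subtype, inf_eq_left]
        exact R.2)) }
  rw [Nat.card_congr e, Nat.card_eq_fintype_card, Fintype.card_subtype]

theorem exists_smul_of_le {M : Subgroup G} {P R : Sylow p G} (hP : (P : Subgroup G) ≤ M)
    (hR : (R : Subgroup G) ≤ M) : ∃ m ∈ M, m • P = R := by
  obtain ⟨⟨m, hm⟩, h⟩ := MulAction.exists_smul_eq M (P.subtype hP) (R.subtype hR)
  refine ⟨m, hm, ?_⟩
  rw [Sylow.smul_subtype] at h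
  exact Sylow.subtype_injective h

namespace Ctx

variable (X : Ctx G p)

include X

/-- The point stabilizer of two Sylow subgroups acts differently on them. -/
def Mono : Prop :=
  ∀ Q : Sylow p G, Q ≠ X.P → ∃ w ∈ nor X.P, w ∈ nor Q ∧
    ∀ m : G, m • X.P = Q → (m⁻¹ * w * m)⁻¹ * w ∉ cen X.P

/-- The Sylow subgroups centralizing a subgroup. -/
noncomputable def fixC (_Y : Ctx G p) (Z : Subgroup G) : Finset (Sylow p G) :=
  Finset.univ.filter fun R => Z ≤ cen R

theorem mem_fixC {Z : Subgroup G} {R : Sylow p G} :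
    R ∈ X.fixC Z ↔ (R : Subgroup G) ≤ centralizer (Z : Set G) := by
  simp only [fixC, Finset.mem_filter, Finset.mem_univ, true_and]
  exact Subgroup.le_centralizer_iff

theorem conj_cen {Q : Sylow p G} {w z : G} (hw : w ∈ nor Q) (hz : z ∈ cen Q) :
    w * z * w⁻¹ ∈ cen Q := by
  have h : w * z * w⁻¹ ∈ cen (w • Q) := mem_cen_smul.2 (by simpa [mul_assoc] using hz)
  rwa [smul_eq_iff.2 hw] at h

theorem P_le_perfCore (hm : X.Mono) {Q : Sylow p G} (hQ : Q ≠ X.P) :
    (X.P : Subgroup G) ≤
      perfCore (centralizer ((X.C0 ⊓ cen Q : Subgroup G) : Set G)) := by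
  set H := X.C0 ⊓ cen Q with hH
  set M := centralizer (H : Set G) with hM
  have hPM : (X.P : Subgroup G) ≤ M := Subgroup.le_centralizer_iff.1 (inf_le_left.trans X.C0_le)
  have hQM : (Q : Subgroup G) ≤ M := Subgroup.le_centralizer_iff.1 inf_le_right
  obtain ⟨w, hwP, hwQ, hw⟩ := hm Q hQ
  have hwH : ∀ z ∈ H, w⁻¹ * z * w ∈ H := fun z hz => by
    have h1 := X.conj_mem_C0 (inv_mem hwP) hz.1
    have h2 := X.conj_cen (inv_mem hwQ) hz.2
    rw [inv_inv] at h1 h2
    exact ⟨h1, h2⟩
  have hwM : ∀ x ∈ M, w * x * w⁻¹ ∈ M := fun x hx => mem_centralizer_iff.2 fun z hz => by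
    have h := mem_centralizer_iff.1 hx _ (hwH z hz)
    calc z * (w * x * w⁻¹) = w * (w⁻¹ * z * w * x) * w⁻¹ := by group
      _ = w * (x * (w⁻¹ * z * w)) * w⁻¹ := by rw [h]
      _ = _ := by group
  have hall : ∀ i, (X.P : Subgroup G) ≤ derSeq M i := by
    intro i
    induction i with
    | zero => exact hPM
    | succ i ih =>
      have hQi : (Q : Subgroup G) ≤ derSeq M i := by
        obtain ⟨m, hmM, hmQ⟩ := exists_smul_of_le hPM hQM
        intro x hx
        rw [← hmQ, mem_smul_iff] at hx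
        have := derSeq_conj (fun y hy => mul_mem (mul_mem hmM hy) (inv_mem hmM)) i _ (ih hx)
        simpa [mul_assoc] using this
      by_contra hno
      obtain ⟨m, hmi, hmQ⟩ := exists_smul_of_le ih hQi
      obtain ⟨x, hx, hx1⟩ := X.exists_gen X.P
      apply hw m hmQ
      set w' := m⁻¹ * w * m with hw'
      have hw'P : w' ∈ nor X.P := mem_nor_smul.1 (hmQ ▸ hwQ)
      have hpow : ∀ c ∈ nor X.P, ∃ a : ℤ, x ^ a = c * x * c⁻¹ := fun c hc => by
        have := (mem_normalizer_iff.1 hc x).1 hx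
        simp only [← X.zpowers_eq hx hx1, mem_zpowers_iff] at this
        exact this
      obtain ⟨a, ha⟩ := hpow w hwP
      obtain ⟨b, hb⟩ := hpow w' hw'P
      have hcomm : ∀ j : ℤ, (x ^ j)⁻¹ * (m * x ^ j * m⁻¹) ∈ derSeq M (i + 1) := fun j => by
        have h := commutator_mem_commutator (inv_mem (zpow_mem (ih hx) j)) hmi
        rw [commutatorElement_def, inv_inv] at h
        simpa [derSeq, mul_assoc] using h
      have h1 : (x ^ a)⁻¹ * (m * x ^ b * m⁻¹) ∈ derSeq M (i + 1) := by
        have h := derSeq_conj hwM (i + 1) _ (hcomm 1)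
        rw [zpow_one] at h
        rw [ha, hb, hw']
        convert h using 1
        group
      have h2 : (x ^ a)⁻¹ * x ^ b ∈ derSeq M (i + 1) := by
        have := mul_mem h1 (inv_mem (hcomm b))
        simpa [mul_assoc] using this
      have h3 : (x ^ a)⁻¹ * x ^ b = 1 := by
        by_contra h0
        refine hno ?_
        rw [← X.zpowers_eq (mul_mem (inv_mem (zpow_mem hx a)) (zpow_mem hx b)) h0, zpowers_le]
        exact h2
      have h4 : x ^ a = x ^ b := inv_mul_eq_one.1 h3
      rw [ha, hb] at h4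
      refine X.mem_cen_of_commute hx hx1 ?_
      show w'⁻¹ * w * x = x * (w'⁻¹ * w)
      calc w'⁻¹ * w * x = w'⁻¹ * (w * x * w⁻¹) * w := by group
        _ = w'⁻¹ * (w' * x * w'⁻¹) * w := by rw [h4]
        _ = _ := by group
  exact hall _

/-- The ordered pairs in different orbits inside a set of Sylow subgroups. -/
noncomputable def pairs (S : Finset (Sylow p G)) : Finset (Sylow p G × Sylow p G) :=
  (S ×ˢ S).filter fun a => ¬ ∃ x ∈ (X.P : Subgroup G), x • a.1 = a.2

theorem card_pairs {S : Finset (Sylow p G)} (hS : X.P ∉ S)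
    (hcl : ∀ Q ∈ S, ∀ x ∈ (X.P : Subgroup G), x • Q ∈ S) :
    (X.pairs S).card = S.card * (S.card - p) := by
  have key : ∀ Q ∈ S, (S.filter fun R => ¬ ∃ x ∈ (X.P : Subgroup G), x • Q = R).card =
      S.card - p := by
    intro Q hQ
    have hne : Q ≠ X.P := fun e => hS (e ▸ hQ)
    let U : Finset G := Finset.univ.filter fun x : G => x ∈ (X.P : Subgroup G)
    have hU : U.card = p := by
      rw [← X.card_P, Nat.card_eq_fintype_card, Fintype.card_subtype]
    have himg : S.filter (fun R => ∃ x ∈ (X.P : Subgroup G), x • Q = R) =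
        U.image fun x => x • Q := by
      ext R
      simp only [Finset.mem_filter, Finset.mem_image, U, Finset.mem_univ, true_and]
      exact ⟨fun h => h.2, fun ⟨x, hx, e⟩ => ⟨e ▸ hcl Q hQ x hx, x, hx, e⟩⟩
    have h := Finset.card_filter_add_card_filter_not (s := S)
      (fun R => ∃ x ∈ (X.P : Subgroup G), x • Q = R)
    rw [himg, Finset.card_image_of_injOn (fun a ha b hb e =>
      X.smul_injOn hne (Finset.mem_filter.1 ha).2 (Finset.mem_filter.1 hb).2 e), hU] at h
    omega
  have hb : X.pairs S = S.biUnion fun Q =>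
      (S.filter fun R => ¬ ∃ x ∈ (X.P : Subgroup G), x • Q = R).image fun R => (Q, R) := by
    ext ⟨Q, R⟩
    simp only [pairs, Finset.mem_filter, Finset.mem_product, Finset.mem_biUnion, Finset.mem_image,
      Prod.mk.injEq]
    exact ⟨fun ⟨⟨h1, h2⟩, h3⟩ => ⟨Q, h1, R, ⟨h2, h3⟩, rfl, rfl⟩,
      fun ⟨_, h1, _, ⟨h2, h3⟩, e1, e2⟩ => by subst e1 e2; exact ⟨⟨h1, h2⟩, h3⟩⟩
  rw [hb, Finset.card_biUnion]
  · rw [Finset.sum_congr rfl (fun Q hQ => by
      rw [Finset.card_image_of_injective _ (fun a b e => (Prod.mk.inj e).2), key Q hQ]),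
      Finset.sum_const, smul_eq_mul]
  · intro a _ b _ hab
    simp only [Function.onFun]
    refine Finset.disjoint_left.2 fun c hc hc' => hab ?_
    obtain ⟨_, -, rfl⟩ := Finset.mem_image.1 hc
    obtain ⟨_, -, e⟩ := Finset.mem_image.1 hc'
    exact (Prod.mk.inj e).1.symm

theorem smul_mem_fixC {Z : Subgroup G} (hZ : Z ≤ X.C0) {Q : Sylow p G} (hQ : Q ∈ X.fixC Z)
    {x : G} (hx : x ∈ (X.P : Subgroup G)) : x • Q ∈ X.fixC Z := by
  simp only [fixC, Finset.mem_filter, Finset.mem_univ, true_and] at hQ ⊢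
  intro z hz
  rw [mem_cen_smul]
  have h := mem_centralizer_iff.1 (X.C0_le (hZ hz)) x hx
  rw [show x⁻¹ * z * x = z by rw [mul_assoc, ← h, inv_mul_cancel_left]]
  exact hQ hz

theorem cen_ne_top : cen X.P ≠ ⊤ := by
  intro h
  have h1 : nor X.P = ⊤ := top_le_iff.1 (h ▸ cen_le_nor X.P)
  have h2 := X.card_sylow_eq
  rw [Sylow.card_eq_index_normalizer X.P] at h2
  change (nor X.P).index = _ at h2
  rw [h1, index_top] at h2
  have := Nat.mul_pos (show 0 < X.n by positivity) hp.out.pos
  omega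

/-- A nontrivial subgroup of `C₀` centralizes at most one orbit of further Sylow subgroups. -/
theorem fix_one (hm : X.Mono) {Z : Subgroup G} (hZ : Z ≤ X.C0) (hZ1 : Z ≠ ⊥) {Q R : Sylow p G}
    (hQ : Q ≠ X.P) (hR : R ≠ X.P) (hQZ : Z ≤ cen Q) (hRZ : Z ≤ cen R) :
    ∃ x ∈ (X.P : Subgroup G), x • Q = R := by
  by_contra hno
  let Bad : Subgroup G → Prop := fun W => W ≤ X.C0 ∧ W ≠ ⊥ ∧
    (X.pairs ((X.fixC W).erase X.P)).Nonempty
  have hmemP : ∀ {W}, W ≤ X.C0 → X.P ∈ X.fixC W := fun hW =>
    Finset.mem_filter.2 ⟨Finset.mem_univ _, hW.trans X.C0_le⟩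
  haveI : Fintype (Subgroup G) := Fintype.ofFinite _
  obtain ⟨W, hW, hmax⟩ := Finset.exists_max_image (Finset.univ.filter Bad)
    (fun W => Nat.card W) ⟨Z, Finset.mem_filter.2 ⟨Finset.mem_univ _, hZ, hZ1, (Q, R),
      Finset.mem_filter.2 ⟨Finset.mem_product.2
        ⟨Finset.mem_erase.2 ⟨hQ, Finset.mem_filter.2 ⟨Finset.mem_univ _, hQZ⟩⟩,
        Finset.mem_erase.2 ⟨hR, Finset.mem_filter.2 ⟨Finset.mem_univ _, hRZ⟩⟩⟩, hno⟩⟩⟩
  clear hno hQZ hRZ hQ hR hZ1 hZ Z Q R
  obtain ⟨-, hW0, hW1, ⟨Q₀, R₀⟩, hpair⟩ := Finset.mem_filter.1 hW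
  set CZ := centralizer (W : Set G) with hCZ
  have hPC : (X.P : Subgroup G) ≤ CZ := (X.mem_fixC).1 (hmemP hW0)
  -- `1 + m p` Sylow subgroups
  have hF : (X.fixC W).card = Nat.card (Sylow p CZ) := by
    rw [card_sylow_subgroup X.P hPC]
    exact congrArg Finset.card (Finset.ext fun T => by simp [X.mem_fixC, hCZ])
  obtain ⟨m, hm'⟩ : ∃ m, (X.fixC W).card = 1 + m * p := by
    refine ⟨(X.fixC W).card / p, ?_⟩
    have h1 : (X.fixC W).card % p = 1 := by
      rw [hF]
      have := card_sylow_modEq_one p CZ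
      rwa [Nat.ModEq, Nat.one_mod_eq_one.2 hp.out.ne_one] at this
    have := Nat.div_add_mod ((X.fixC W).card) p
    rw [mul_comm _ p]
    omega
  have hcl : ∀ T ∈ (X.fixC W).erase X.P, ∀ x ∈ (X.P : Subgroup G),
      x • T ∈ (X.fixC W).erase X.P := fun T hT x hx => by
    refine Finset.mem_erase.2 ⟨fun e => (Finset.mem_erase.1 hT).1 ?_,
      X.smul_mem_fixC hW0 (Finset.mem_erase.1 hT).2 hx⟩
    rw [← inv_smul_smul x T, e, smul_eq_iff.2 (le_normalizer (inv_mem hx))]
  have hpc := X.card_pairs (Finset.notMem_erase _ _) hcl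
  have her : ((X.fixC W).erase X.P).card = m * p := by
    rw [Finset.card_erase_of_mem (hmemP hW0), hm', Nat.add_sub_cancel_left]
  rw [her] at hpc
  have hm2 : 2 ≤ m := by
    by_contra hlt
    have h0 : 0 < (X.pairs ((X.fixC W).erase X.P)).card := Finset.card_pos.2 ⟨_, hpair⟩
    rw [hpc, show m * p - p = 0 by
      have : m * p ≤ 1 * p := Nat.mul_le_mul_right p (by omega)
      omega, mul_zero] at h0
    exact lt_irrefl 0 h0
  have hmn : m < X.n := by
    by_contra hle
    have huniv : X.fixC W = Finset.univ := Finset.eq_univ_of_card _ (le_antisymm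
      (Finset.card_le_univ _) (by
        rw [← Nat.card_eq_fintype_card, X.card_sylow_eq, hm']
        exact Nat.add_le_add_left (Nat.mul_le_mul_right p (not_lt.1 hle)) 1))
    set K := ⨅ T : Sylow p G, cen T with hK
    have hKn : K.Normal := ⟨fun z hz c => by
      simp only [hK, mem_iInf] at hz ⊢
      intro T
      have h := hz (c⁻¹ • T)
      rw [mem_cen_smul, inv_inv] at h
      exact h⟩
    have hWK : W ≤ K := le_iInf fun T => by
      have := huniv.symm ▸ Finset.mem_univ T
      exact (Finset.mem_filter.1 this).2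
    haveI := X.simple
    rcases hKn.eq_bot_or_eq_top with e | e
    · exact hW1 (le_bot_iff.1 (e ▸ hWK))
    · exact X.cen_ne_top (top_le_iff.1 (e ▸ iInf_le _ X.P))
  -- the conjugates under the normalizer of `P`
  set M := normalizer (W : Set G) with hM
  have hdvd : 1 + m * p ∣ M.relIndex (nor X.P) * (1 + X.n * p) := by
    have hst : MulAction.stabilizer M X.P = (nor X.P).subgroupOf M := by
      ext c
      rw [MulAction.mem_stabilizer_iff, mem_subgroupOf, Subgroup.smul_def, smul_eq_iff]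
    have horb : (MulAction.orbit M X.P) = (X.fixC W : Set (Sylow p G)) := by
      ext T
      rw [Finset.mem_coe]
      constructor
      · rintro ⟨⟨c, hc⟩, rfl⟩
        refine Finset.mem_filter.2 ⟨Finset.mem_univ _, fun z hz => mem_cen_smul.2 ?_⟩
        exact X.C0_le (hW0 ((mem_normalizer_iff''.1 hc z).1 hz))
      · intro hT
        obtain ⟨c, hc, hcT⟩ := exists_smul_of_le hPC ((X.mem_fixC).1 hT)
        exact ⟨⟨c, centralizer_le_normalizer _ hc⟩, hcT⟩
    have hF' : (nor X.P).relIndex M = 1 + m * p := by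
      rw [relIndex, ← hst, MulAction.index_stabilizer, horb, Set.ncard_coe_finset, hm']
    have hA : (1 + m * p) * Nat.card ((nor X.P).subgroupOf M) = Nat.card M := by
      rw [← hF', relIndex, Subgroup.index_mul_card]
    have hB : M.relIndex (nor X.P) * Nat.card (M.subgroupOf (nor X.P)) = Nat.card (nor X.P) := by
      rw [relIndex, Subgroup.index_mul_card]
    have hAB : Nat.card ((nor X.P).subgroupOf M) = Nat.card (M.subgroupOf (nor X.P)) := by
      rw [← inf_subgroupOf_right (nor X.P) M, ← inf_subgroupOf_right M (nor X.P),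
        Nat.card_congr (subgroupOfEquivOfLe inf_le_right).toEquiv,
        Nat.card_congr (subgroupOfEquivOfLe inf_le_right).toEquiv, inf_comm]
    have hG : Nat.card M ∣ (1 + X.n * p) * Nat.card (nor X.P) := by
      rw [← X.card_sylow_eq, Sylow.card_eq_index_normalizer X.P]
      change Nat.card M ∣ (nor X.P).index * _
      rw [Subgroup.index_mul_card]
      exact card_subgroup_dvd_card _
    rw [← hA, ← hB, ← hAB, ← mul_assoc] at hG
    rw [mul_comm (M.relIndex _)]
    exact Nat.dvd_of_mul_dvd_mul_right Nat.card_pos hG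
  -- the count of pairs
  have hpairs : M.relIndex (nor X.P) * (m * (m - 1)) ≤ X.n * (X.n - 1) := by
    set A := X.pairs ((X.fixC W).erase X.P) with hA
    set U := X.pairs ((Finset.univ : Finset (Sylow p G)).erase X.P) with hU
    letI : Fintype (↥(nor X.P) ⧸ M.subgroupOf (nor X.P)) := Fintype.ofFinite _
    let f : (↥(nor X.P) ⧸ M.subgroupOf (nor X.P)) × (Sylow p G × Sylow p G) →
       
        Sylow p G × Sylow p G := fun a => (((a.1.out : nor X.P) : G) • a.2.1,
          ((a.1.out : nor X.P) : G) • a.2.2)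
    have hfU : ∀ a ∈ (Finset.univ ×ˢ A), f a ∈ U := by
      rintro ⟨c, T, T'⟩ ha
      obtain ⟨hT, hno⟩ := Finset.mem_filter.1 (Finset.mem_product.1 ha).2
      obtain ⟨hT, hT'⟩ := Finset.mem_product.1 hT
      set c' := ((c.out : nor X.P) : G)
      have hne : ∀ S : Sylow p G, S ≠ X.P → c' • S ≠ X.P := fun S hS e => hS (by
        rw [← inv_smul_smul c' S, e, smul_eq_iff.2 (inv_mem c.out.2)])
      refine Finset.mem_filter.2 ⟨Finset.mem_product.2
        ⟨Finset.mem_erase.2 ⟨hne T (Finset.mem_erase.1 hT).1, Finset.mem_univ _⟩,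
        Finset.mem_erase.2 ⟨hne T' (Finset.mem_erase.1 hT').1, Finset.mem_univ _⟩⟩, ?_⟩
      rintro ⟨x, hx, e⟩
      refine hno ⟨c'⁻¹ * x * c', by simpa using (mem_normalizer_iff''.1 c.out.2 x).1 hx, ?_⟩
      simp only [f] at e
      rw [mul_smul, mul_smul, e, inv_smul_smul]
    have hinj : Set.InjOn f (↑((Finset.univ : Finset (↥(nor X.P) ⧸ M.subgroupOf (nor X.P))) ×ˢ A) : Set _) := by
      rintro ⟨c, T, T'⟩ ha ⟨d, S, S'⟩ hb h
      obtain ⟨h1, h2⟩ := Prod.mk.inj h
      set c' := ((c.out : nor X.P) : G) with hc'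
      set d' := ((d.out : nor X.P) : G) with hd'
      set W' := X.C0 ⊓ (cen (c' • T) ⊓ cen (c' • T')) with hW'
      have hmap : ∀ (k : G), k ∈ nor X.P → ∀ a b : Sylow p G, (a, b) ∈ A →
          k • a = c' • T → k • b = c' • T' → W.map (MulAut.conj k).toMonoidHom ≤ W' := by
        rintro k hk a b hab ea eb _ ⟨z, hz, rfl⟩
        obtain ⟨hab, -⟩ := Finset.mem_filter.1 hab
        have hz1 := (Finset.mem_filter.1 (Finset.mem_erase.1 (Finset.mem_product.1 hab).1).2).2 hz
        have hz2 := (Finset.mem_filter.1 (Finset.mem_erase.1 (Finset.mem_product.1 hab).2).2).2 hz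
        show k * z * k⁻¹ ∈ W'
        refine ⟨X.conj_mem_C0 hk (hW0 hz), ?_, ?_⟩
        · exact ea ▸ mem_cen_smul.2 (by simpa [mul_assoc] using hz1)
        · exact eb ▸ mem_cen_smul.2 (by simpa [mul_assoc] using hz2)
      have hinA : ∀ {k : _ ⧸ M.subgroupOf (nor X.P)} {a}, (k, a) ∈ (↑((Finset.univ : Finset (↥(nor X.P) ⧸ M.subgroupOf (nor X.P))) ×ˢ A) : Set _) →
          a ∈ A := fun ha => (Finset.mem_product.1 (Finset.mem_coe.1 ha)).2
      have hmc := hmap c' c.out.2 T T' (hinA ha) rfl rfl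
      have hmd := hmap d' d.out.2 S S' (hinA hb) h1.symm h2.symm
      have hcW : Nat.card (W.map (MulAut.conj c').toMonoidHom) = Nat.card W :=
        Subgroup.card_map_of_injective (MulAut.conj c').injective
      have hdW : Nat.card (W.map (MulAut.conj d').toMonoidHom) = Nat.card W :=
        Subgroup.card_map_of_injective (MulAut.conj d').injective
      have hbad : Bad W' := by
        refine ⟨inf_le_left, fun e => hW1 (Subgroup.card_eq_one.1 ?_), (c' • T, c' • T'), ?_⟩
        · rw [← hcW]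
          exact Subgroup.card_eq_one.2 (le_bot_iff.1 (e ▸ hmc))
        · have hmem := hfU _ (Finset.mem_coe.1 ha)
          obtain ⟨hp1, hp2⟩ := Finset.mem_filter.1 hmem
          obtain ⟨hp1, hp1'⟩ := Finset.mem_product.1 hp1
          exact Finset.mem_filter.2 ⟨Finset.mem_product.2
            ⟨Finset.mem_erase.2 ⟨(Finset.mem_erase.1 hp1).1, Finset.mem_filter.2
              ⟨Finset.mem_univ _, inf_le_right.trans inf_le_left⟩⟩,
            Finset.mem_erase.2 ⟨(Finset.mem_erase.1 hp1').1, Finset.mem_filter.2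
              ⟨Finset.mem_univ _, inf_le_right.trans inf_le_right⟩⟩⟩, hp2⟩
      have hWle := hmax W' (Finset.mem_filter.2 ⟨Finset.mem_univ _, hbad⟩)
      have e1 := eq_of_le_of_card_ge hmc (by rw [hcW]; exact hWle)
      have e2 := eq_of_le_of_card_ge hmd (by rw [hdW]; exact hWle)
      have hcd : c = d := by
        rw [← c.out_eq, ← d.out_eq]
        refine Quotient.sound ?_
        show (QuotientGroup.leftRel (M.subgroupOf (nor X.P))) c.out d.out
        rw [QuotientGroup.leftRel_apply, mem_subgroupOf]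
        show c'⁻¹ * d' ∈ M
        refine mem_normalizer_iff.2 fun z => ⟨fun hz => ?_, fun hz => ?_⟩
        · obtain ⟨z', hz', e⟩ : d' * z * d'⁻¹ ∈ W.map (MulAut.conj c').toMonoidHom :=
            (e1.trans e2.symm) ▸ ⟨z, hz, rfl⟩
          have e' : c' * z' * c'⁻¹ = d' * z * d'⁻¹ := e
          rw [show c'⁻¹ * d' * z * (c'⁻¹ * d')⁻¹ = c'⁻¹ * (d' * z * d'⁻¹) * c' by group, ← e']
          simpa [mul_assoc] using hz'
        · obtain ⟨z', hz', e⟩ : c' * (c'⁻¹ * d' * z * (c'⁻¹ * d')⁻¹) * c'⁻¹ ∈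
              W.map (MulAut.conj d').toMonoidHom := (e2.trans e1.symm) ▸ ⟨_, hz, rfl⟩
          have e' : d' * z' * d'⁻¹ = c' * (c'⁻¹ * d' * z * (c'⁻¹ * d')⁻¹) * c'⁻¹ := e
          rw [show c' * (c'⁻¹ * d' * z * (c'⁻¹ * d')⁻¹) * c'⁻¹ = d' * z * d'⁻¹ by group] at e'
          exact (mul_left_cancel (mul_right_cancel e')) ▸ hz'
      subst hcd
      rw [hd', ← hc'] at h1 h2
      have e3 : T = S := MulAction.injective c' h1
      have e4 : T' = S' := MulAction.injective c' h2
      rw [e3, e4]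
    have h := Finset.card_le_card_of_injOn f hfU hinj
    have hUc : U.card = X.n * p * (X.n * p - p) := by
      rw [hU, X.card_pairs (Finset.notMem_erase _ _) (fun T hT x hx => Finset.mem_erase.2
          ⟨fun e => (Finset.mem_erase.1 hT).1 (by
            rw [← inv_smul_smul x T, e, smul_eq_iff.2 (le_normalizer (inv_mem hx))]),
          Finset.mem_univ _⟩), Finset.card_erase_of_mem (Finset.mem_univ _), Finset.card_univ,
        ← Nat.card_eq_fintype_card, X.card_sylow_eq, Nat.add_sub_cancel_left]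
    rw [Finset.card_product, hA, hpc, Finset.card_univ, ← Nat.card_eq_fintype_card, hUc] at h
    change M.relIndex (nor X.P) * _ ≤ _ at h
    rw [← Nat.sub_one_mul, ← Nat.sub_one_mul] at h
    refine Nat.le_of_mul_le_mul_right ?_ (Nat.mul_pos hp.out.pos hp.out.pos)
    calc M.relIndex (nor X.P) * (m * (m - 1)) * (p * p)
        = M.relIndex (nor X.P) * (m * p * ((m - 1) * p)) := by ring
      _ ≤ X.n * p * ((X.n - 1) * p) := h
      _ = _ := by ring
  obtain ⟨hrep, hfer⟩ := few_arith hp.out hm2 hmn X.n_lt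
    (Nat.pos_of_ne_zero Subgroup.index_ne_zero_of_finite) hdvd hpairs
  -- the perfect core of the centralizer
  set K := perfCore CZ with hK
  obtain ⟨hTP, hno⟩ := Finset.mem_filter.1 hpair
  obtain ⟨hQ₀, -⟩ := Finset.mem_product.1 hTP
  obtain ⟨hQ₀P, hQ₀W⟩ := Finset.mem_erase.1 hQ₀
  have hle : centralizer ((X.C0 ⊓ cen Q₀ : Subgroup G) : Set G) ≤ CZ :=
    centralizer_le (show (W : Set G) ⊆ _ from le_inf hW0 (Finset.mem_filter.1 hQ₀W).2)
  have hPK : (X.P : Subgroup G) ≤ K := (X.P_le_perfCore hm hQ₀P).trans (perfCore_mono hle)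
  have hKc : Nat.card (Sylow p K) = 1 + m * p := by
    rw [card_sylow_subgroup X.P hPK, ← hm']
    refine congrArg Finset.card (Finset.ext fun T => ?_)
    simp only [Finset.mem_filter, Finset.mem_univ, true_and, X.mem_fixC]
    refine ⟨fun h => h.trans (perfCore_le _), fun h => ?_⟩
    obtain ⟨c, hc, rfl⟩ := exists_smul_of_le hPC h
    intro x hx
    rw [mem_smul_iff] at hx
    have := derSeq_conj (fun y hy => mul_mem (mul_mem hc hy) (inv_mem hc)) (Nat.card G) _ (hPK hx)
    simpa [mul_assoc, perfCore, hK] using this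
  have hperfK := commutator_perfCore CZ
  have hPK' : Nat.card (X.P.subtype hPK) = p :=
    (Nat.card_congr (subgroupOfEquivOfLe hPK).toEquiv).trans X.card_P
  letI : Fintype K := Fintype.ofFinite _
  haveI : Fintype (K ⧸ pPrimeCore p K) := Fintype.ofFinite _
  obtain ⟨hperf', Q', hQ', hnQ⟩ := H86.FewSylowReduce.quotient_data hperfK (X.P.subtype hPK) hPK'
    (pPrimeCore p K) Cores.coprime_card_pPrimeCore hKc hrep
  have hC := H86.FewSylowReduce.centralizer_eq hperf' Q' hQ' Cores.pPrimeCore_quotient_pPrimeCore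
    hnQ hrep
  obtain ⟨S, -⟩ := H86.FewSylow.exists_sc Q' hQ' hC
  have hnn : H86.FewSylow.nn S = m := by
    have h := H86.FewSylow.card_sylow_eq S
    rw [hnQ] at h
    exact (Nat.eq_of_mul_eq_mul_right hp.out.pos (by omega)).symm
  obtain ⟨D⟩ := H86.FewSylow.exists_data S hperf' (hnn.symm ▸ hrep)
  have hDn : D.n = m := by
    have h := D.g_eq
    simp only [H86.FewSylow.Data.g, hnQ] at h
    exact (Nat.eq_of_mul_eq_mul_right hp.out.pos (by omega)).symm
  rcases D.cases with h | ⟨h, -, ht⟩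
  · omega
  · obtain ⟨a, F, i1, i2, -, hpa, -, -⟩ := D.exists_psl_even h ht
    obtain ⟨-, htn, he⟩ := D.minus_eq h
    have hX := D.card_Xp_eq_zero h ht
    have het := D.e_mul_t
    rw [hX, zero_mul, zero_add] at he
    rw [he, htn, hDn] at het
    exact hfer a hpa het

end Ctx

end Cfsg.Agent.H78.BR
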