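import Cfsg.Agent.H78.BR.Induced
import Cfsg.Agent.H78.BR.MonoArith

/-!
# An element of prime order of `C₀` fixing no further Sylow subgroup
-/

set_option linter.unusedSectionVars false
set_option linter.style.haveILetI false

open scoped Classical ComplexConjugate Pointwise

namespace Cfsg.Agent.H78.BR

open Subgroup CharBasic CharInduce BlockBasic

universe u

variable {G : Type u} [Group G] [Fintype G] {p : ℕ} [hp : Fact p.Prime]

namespace Ctx

variable (X : Ctx G p)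

include X

/-- The stabilizer of a Sylow subgroup in `C₀`. -/
noncomputable def stab (Q : Sylow p G) : Subgroup G := X.C0 ⊓ nor Q

theorem mem_stab {Q : Sylow p G} {w : G} : w ∈ X.stab Q ↔ w ∈ X.C0 ∧ w • Q = Q := by
  rw [stab, mem_inf, smul_eq_iff]

theorem eq_one_of_mem_P_C0 {x : G} (hx : x ∈ (X.P : Subgroup G)) (hC : x ∈ X.C0) : x = 1 :=
  by_contra fun h => (X.mem_C0.1 hC).2 (dvd_of_eq (X.orderOf_mem hx h).symm)

theorem mem_C0_of_fix {Q : Sylow p G} (hQ : Q ≠ X.P) {w : G} (hw : w ∈ cen X.P)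
    (hf : w • Q = Q) : w ∈ X.C0 := by
  obtain ⟨x, hx, z, hz, rfl⟩ := X.cen_dec hw
  have hc : Commute x z := mem_centralizer_iff.1 (X.C0_le hz) x hx
  set m := Nat.card X.C0 with hm
  have hzm : z ^ m = 1 := orderOf_dvd_iff_pow_eq_one.1
    ((Subgroup.orderOf_mk z hz).symm ▸ orderOf_dvd_natCard (⟨z, hz⟩ : X.C0))
  have hfix : x ^ m • Q = Q := by
    have h : (x * z) ^ m • Q = Q :=
      smul_eq_iff.2 (pow_mem (smul_eq_iff.1 hf) m)
    rwa [hc.mul_pow, hzm, mul_one] at h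
  have hxm := X.eq_one_of_fix (pow_mem hx m) hQ hfix
  rcases eq_or_ne x 1 with rfl | hx1
  · rwa [one_mul]
  · exact absurd ((dvd_of_eq (X.orderOf_mem hx hx1).symm).trans (orderOf_dvd_of_pow_eq_one hxm)) X.not_dvd_card_C0

/-- The fixed points of an element of `C₀` lie in one orbit of `P`. -/
theorem fix_orbit (hm : X.Mono) {z : G} (hz : z ∈ X.C0) (hz1 : z ≠ 1) {Q R : Sylow p G}
    (hQ : Q ≠ X.P) (hR : R ≠ X.P) (hzQ : z • Q = Q) (hzR : z • R = R) :
    ∃ x ∈ (X.P : Subgroup G), x • Q = R :=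
  X.fix_one hm (zpowers_le.2 hz) (by rwa [Ne, zpowers_eq_bot]) hQ hR
    (zpowers_le.2 (X.dich (smul_eq_iff.1 hzQ) (X.C0_le hz)))
    (zpowers_le.2 (X.dich (smul_eq_iff.1 hzR) (X.C0_le hz)))

/-- The moving elements of a stabilizer. -/
noncomputable def moved (Q : Sylow p G) : ℕ :=
  (Finset.univ.filter fun z : G => z ∈ X.C0 ∧ z ≠ 1 ∧ z • Q = Q).card

theorem card_stab (Q : Sylow p G) : Nat.card (X.stab Q) = X.moved Q + 1 := by
  rw [Nat.card_eq_fintype_card, Fintype.card_subtype]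
  have h : (Finset.univ.filter fun z : G => z ∈ X.stab Q) =
      insert 1 (Finset.univ.filter fun z : G => z ∈ X.C0 ∧ z ≠ 1 ∧ z • Q = Q) := by
    ext z
    rcases eq_or_ne z 1 with rfl | hz
    · simp [one_mem]
    · simp [X.mem_stab, hz]
  rw [h, Finset.card_insert_of_notMem (by simp)]
  rfl

theorem moved_smul {c : G} (hc : c ∈ nor X.P) (Q : Sylow p G) : X.moved (c • Q) = X.moved Q := by
  refine Finset.card_bij' (fun z _ => c⁻¹ * z * c) (fun z _ => c * z * c⁻¹) ?_ ?_ ?_ ?_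
  · intro z hz
    obtain ⟨h1, h2, h3⟩ := (Finset.mem_filter.1 hz).2
    refine Finset.mem_filter.2 ⟨Finset.mem_univ _, ?_, ?_, ?_⟩
    · simpa using X.conj_mem_C0 (inv_mem hc) h1
    · intro e
      exact h2 (by rw [show z = c * (c⁻¹ * z * c) * c⁻¹ by group, e]; group)
    · rw [mul_smul, mul_smul, h3, inv_smul_smul]
  · intro z hz
    obtain ⟨h1, h2, h3⟩ := (Finset.mem_filter.1 hz).2
    refine Finset.mem_filter.2 ⟨Finset.mem_univ _, X.conj_mem_C0 hc h1, ?_, ?_⟩
    · rwa [Ne, conj_eq_one_iff]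
    · rw [mul_smul, mul_smul, inv_smul_smul, h3]
  · intros; group
  · intros; group

theorem sum_moved_le (hm : X.Mono) :
    ∑ Q ∈ (Finset.univ : Finset (Sylow p G)).erase X.P, X.moved Q ≤
      p * (Nat.card X.C0 - 1) := by
  simp only [moved, Finset.card_filter]
  rw [Finset.sum_comm]
  simp only [← Finset.card_filter]
  have hb : ∀ z : G, ((Finset.univ.erase X.P).filter fun Q : Sylow p G =>
      z ∈ X.C0 ∧ z ≠ 1 ∧ z • Q = Q).card ≤ if z ∈ X.C0 ∧ z ≠ 1 then p else 0 := by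
    intro z
    split_ifs with hz
    · rcases Finset.eq_empty_or_nonempty ((Finset.univ.erase X.P).filter fun Q : Sylow p G =>
          z ∈ X.C0 ∧ z ≠ 1 ∧ z • Q = Q) with he | ⟨Q, hQ⟩
      · rw [he]; simp
      obtain ⟨hQ1, -, -, hQ3⟩ := Finset.mem_filter.1 hQ
      calc _ ≤ ((Finset.univ.filter fun x : G => x ∈ (X.P : Subgroup G)).image
              fun x => x • Q).card := by
            refine Finset.card_le_card fun R hR => ?_
            obtain ⟨hR1, -, -, hR3⟩ := Finset.mem_filter.1 hR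
            obtain ⟨x, hx, e⟩ := X.fix_orbit hm hz.1 hz.2 (Finset.ne_of_mem_erase hQ1)
              (Finset.ne_of_mem_erase hR1) hQ3 hR3
            exact Finset.mem_image.2 ⟨x, by simpa using hx, e⟩
        _ ≤ _ := Finset.card_image_le
        _ = p := by rw [← Fintype.card_subtype, ← Nat.card_eq_fintype_card]; exact X.card_P
    · rw [Finset.card_eq_zero.2 (Finset.filter_eq_empty_iff.2 fun Q _ h => hz ⟨h.1, h.2.1⟩)]
  refine (Finset.sum_le_sum fun z _ => hb z).trans (le_of_eq ?_)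
  rw [← Finset.sum_filter, Finset.sum_const, smul_eq_mul, mul_comm,
    show (Finset.univ.filter fun z : G => z ∈ X.C0 ∧ z ≠ 1) =
      (Finset.univ.filter fun z : G => z ∈ X.C0).erase 1 by
      ext z; simp [and_comm], Finset.card_erase_of_mem (by simp [one_mem]), ← Fintype.card_subtype,
    ← Nat.card_eq_fintype_card]

theorem card_orbit {Q : Sylow p G} (hQ : Q ≠ X.P) :
    ((Finset.univ.filter fun c : G => c ∈ cen X.P).image fun c => c • Q).card * Nat.card (X.stab Q) =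
      p * Nat.card X.C0 := by
  set U := Finset.univ.filter fun c : G => c ∈ cen X.P with hU
  have hUc : U.card = p * Nat.card X.C0 := by
    rw [← X.card_cen, Nat.card_eq_fintype_card, Fintype.card_subtype]
  rw [← hUc, Finset.card_eq_sum_card_image (fun c => c • Q) U, ← smul_eq_mul, ← Finset.sum_const]
  refine Finset.sum_congr rfl fun R hR => ?_
  obtain ⟨c, hc, rfl⟩ := Finset.mem_image.1 hR
  have hc' : c ∈ cen X.P := (Finset.mem_filter.1 hc).2
  rw [Nat.card_eq_fintype_card, Fintype.card_subtype]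
  refine Finset.card_bij (fun w _ => c * w) ?_ ?_ ?_
  · intro w hw
    obtain ⟨h1, h2⟩ := X.mem_stab.1 (Finset.mem_filter.1 hw).2
    refine Finset.mem_filter.2 ⟨Finset.mem_filter.2 ⟨Finset.mem_univ _,
      mul_mem hc' (X.C0_le h1)⟩, ?_⟩
    rw [mul_smul, h2]
  · exact fun a _ b _ h => mul_left_cancel h
  · intro b hb
    obtain ⟨hb1, hb2⟩ := Finset.mem_filter.1 hb
    have hbC : c⁻¹ * b ∈ cen X.P := mul_mem (inv_mem hc') (Finset.mem_filter.1 hb1).2
    have hbf : (c⁻¹ * b) • Q = Q := by rw [mul_smul, hb2, inv_smul_smul]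
    exact ⟨c⁻¹ * b, Finset.mem_filter.2 ⟨Finset.mem_univ _,
      X.mem_stab.2 ⟨X.mem_C0_of_fix hQ hbC hbf, hbf⟩⟩, mul_inv_cancel_left _ _⟩

theorem exists_free (hm : X.Mono) (hC : X.C0 ≠ ⊥) : ∃ z ∈ X.C0, (orderOf z).Prime ∧
    ∀ Q : Sylow p G, Q ≠ X.P → z • Q ≠ Q := by
  by_contra hno
  push Not at hno
  set c₀ := Nat.card X.C0 with hc₀
  -- two points with nontrivial stabilizers lie in the same orbit
  have horb : ∀ Q R : Sylow p G, Q ≠ X.P → R ≠ X.P → 1 ≤ X.moved Q → 1 ≤ X.moved R →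
      ∃ c ∈ cen X.P, c • Q = R := by
    intro Q R hQ hR hQm hRm
    by_contra hn
    push Not at hn
    set U := Finset.univ.filter fun c : G => c ∈ cen X.P with hU
    let O : Sylow p G → Finset (Sylow p G) := fun S => U.image fun c => c • S
    have hdis : Disjoint (O Q) (O R) := by
      refine Finset.disjoint_left.2 fun S h1 h2 => ?_
      obtain ⟨c, hc, rfl⟩ := Finset.mem_image.1 h1
      obtain ⟨d, hd, e⟩ := Finset.mem_image.1 h2
      refine hn (d⁻¹ * c) (mul_mem (inv_mem (Finset.mem_filter.1 hd).2)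
        (Finset.mem_filter.1 hc).2) ?_
      rw [mul_smul, ← e, inv_smul_smul]
    have hsub : ∀ S, S ≠ X.P → O S ⊆ Finset.univ.erase X.P := by
      intro S hS T hT
      obtain ⟨c, hc, rfl⟩ := Finset.mem_image.1 hT
      refine Finset.mem_erase.2 ⟨fun e => hS ?_, Finset.mem_univ _⟩
      rw [← inv_smul_smul c S, e,
        smul_eq_iff.2 (inv_mem (cen_le_nor _ (Finset.mem_filter.1 hc).2))]
    have hsum : ∀ S, S ≠ X.P → 1 ≤ X.moved S →
        p * c₀ ≤ 2 * ∑ T ∈ O S, X.moved T := by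
      intro S hS hSm
      rw [Finset.sum_congr rfl (g := fun _ => X.moved S) (fun T hT => by
        obtain ⟨c, hc, rfl⟩ := Finset.mem_image.1 hT
        exact X.moved_smul (cen_le_nor _ (Finset.mem_filter.1 hc).2) S), Finset.sum_const,
        smul_eq_mul, ← X.card_orbit hS, X.card_stab, mul_left_comm]
      exact Nat.mul_le_mul_left _ (by omega)
    have h1 := hsum Q hQ hQm
    have h2 := hsum R hR hRm
    have h3 := Finset.sum_le_sum_of_subset (f := X.moved)
      (Finset.union_subset (hsub Q hQ) (hsub R hR))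
    rw [Finset.sum_union hdis] at h3
    have h4 := h3.trans (X.sum_moved_le hm)
    rw [← hc₀] at h4
    have h5 : 0 < c₀ := Nat.card_pos
    have h6 : p * (c₀ - 1) + p = p * c₀ := by
      rw [← Nat.mul_succ]; congr 1; omega
    have := hp.out.pos
    omega
  obtain ⟨w, hw, hw1⟩ : ∃ w ∈ X.C0, w ≠ 1 :=
    (Subgroup.ne_bot_iff_exists_ne_one.1 hC).elim fun a ha =>
      ⟨a, a.2, fun e => ha (Subtype.ext e)⟩
  have key : ∀ r : ℕ, r.Prime → r ∣ c₀ → ∃ Q, Q ≠ X.P ∧ 1 ≤ X.moved Q ∧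
      r ^ c₀.factorization r ∣ Nat.card (X.stab Q) := by
    intro r hr hrc
    haveI := Fact.mk hr
    obtain ⟨R⟩ : Nonempty (Sylow r X.C0) := inferInstance
    have hRc : Nat.card (R : Subgroup X.C0) = r ^ c₀.factorization r := R.card_eq_multiplicity
    haveI : Nontrivial (R : Subgroup X.C0) := Finite.one_lt_card_iff_nontrivial.1 (by
      rw [hRc]
      exact Nat.one_lt_pow (hr.factorization_pos_of_dvd (Nat.card_pos (α := X.C0)).ne' hrc).ne'
        hr.one_lt)
    haveI : Nontrivial (Subgroup.center (R : Subgroup X.C0)) := R.isPGroup'.center_nontrivial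
    have hdv : r ∣ Nat.card (Subgroup.center (R : Subgroup X.C0)) := by
      obtain ⟨k, hk0, hk⟩ := (R.isPGroup'.to_subgroup _).nontrivial_iff_card.1
        (inferInstance : Nontrivial (Subgroup.center (R : Subgroup X.C0)))
      rw [hk]; exact dvd_pow_self r hk0.ne'
    obtain ⟨⟨⟨⟨z, hzC⟩, hzR⟩, hzc⟩, hzo⟩ :=
      exists_prime_orderOf_dvd_card' r hdv
    simp only [Subgroup.orderOf_mk] at hzo
    obtain ⟨Q, hQ, hzQ⟩ := hno z hzC (hzo.symm ▸ hr)
    have hz1 : z ≠ 1 := fun e => by rw [e, orderOf_one] at hzo; exact hr.ne_one hzo.symm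
    refine ⟨Q, hQ, Finset.card_pos.2 ⟨z, Finset.mem_filter.2
      ⟨Finset.mem_univ _, hzC, hz1, hzQ⟩⟩, hRc ▸ ?_⟩
    rw [← Subgroup.card_map_of_injective X.C0.subtype_injective]
    refine Subgroup.card_dvd_of_le ?_
    rintro _ ⟨y, hy, rfl⟩
    refine X.mem_stab.2 ⟨y.2, ?_⟩
    have hyz : (y : G) * z = z * y := congrArg (fun a : (R : Subgroup X.C0) => ((a : X.C0) : G))
      (Subgroup.mem_center_iff.1 hzc ⟨y, hy⟩)
    have hR : (y : G) • Q ≠ X.P := fun e => hQ (by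
      rw [← inv_smul_smul (y : G) Q, e, smul_eq_iff.2 (inv_mem (cen_le_nor _ (X.C0_le y.2)))])
    obtain ⟨x, hx, hxQ⟩ := X.fix_orbit hm hzC hz1 hQ hR hzQ
      (by rw [← mul_smul, ← hyz, mul_smul, hzQ])
    have hxy : (x⁻¹ * y) • Q = Q := by rw [mul_smul, ← hxQ, inv_smul_smul]
    have hmem := X.mem_C0_of_fix hQ (mul_mem (inv_mem (X.le_cen _ hx)) (X.C0_le y.2)) hxy
    have hx1 := X.eq_one_of_mem_P_C0 hx (by simpa using mul_mem y.2 (inv_mem hmem))
    rw [hx1, inv_one, one_mul] at hxy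
    exact hxy
  obtain ⟨r₀, hr₀, hr₀c⟩ := Nat.exists_prime_and_dvd (show c₀ ≠ 1 from fun h => hC
    (Subgroup.card_eq_one.1 h))
  obtain ⟨Q₀, hQ₀, hQ₀m, -⟩ := key r₀ hr₀ hr₀c
  have hdvd : c₀ ∣ Nat.card (X.stab Q₀) := by
    refine (Nat.dvd_iff_prime_pow_dvd_dvd _ _).2 fun r k hr hrk => ?_
    rcases Nat.eq_zero_or_pos k with rfl | hk
    · simp
    obtain ⟨Q, hQ, hQm, hQd⟩ := key r hr ((dvd_pow_self r hk.ne').trans hrk)
    obtain ⟨c, hc, e⟩ := horb Q₀ Q hQ₀ hQ hQ₀m hQm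
    have hcard : Nat.card (X.stab Q) = Nat.card (X.stab Q₀) := by
      rw [X.card_stab, X.card_stab, ← e, X.moved_smul (cen_le_nor _ hc)]
    rw [← hcard]
    exact (pow_dvd_pow r ((Nat.Prime.pow_dvd_iff_le_factorization hr Nat.card_pos.ne').1 hrk)).trans
      hQd
  have heq : X.stab Q₀ = X.C0 := eq_of_le_of_card_ge inf_le_left (Nat.le_of_dvd Nat.card_pos hdvd)
  refine hC (X.C0_eq_bot_of_le hQ₀ fun y hy => ?_)
  exact X.dich (smul_eq_iff.1 (X.mem_stab.1 (heq.symm ▸ hy)).2) (X.C0_le hy)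

/-- The elements of `C(P)` commuting with `z`. -/
noncomputable def K0 (z : G) : Subgroup G := cen X.P ⊓ centralizer ({z} : Set G)

theorem free_K0 (hm : X.Mono) {z : G} (hz : z ∈ X.C0)
    (hfree : ∀ Q : Sylow p G, Q ≠ X.P → z • Q ≠ Q) {k : G} (hk : k ∈ X.K0 z) {Q : Sylow p G}
    (hQ : Q ≠ X.P) (hf : k • Q = Q) : k = 1 := by
  by_contra hk1
  have hkC := X.mem_C0_of_fix hQ hk.1 hf
  have hzQ : z • Q ≠ X.P := fun e => hQ (by
    rw [← inv_smul_smul z Q, e, smul_eq_iff.2 (inv_mem (cen_le_nor _ (X.C0_le hz)))])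
  have hkz : k * z = z * k := mem_centralizer_singleton_iff.1 hk.2
  obtain ⟨x, hx, e⟩ := X.fix_orbit hm hkC hk1 hQ hzQ hf (by rw [← mul_smul, hkz, mul_smul, hf])
  have hxz : (x⁻¹ * z) • Q = Q := by rw [mul_smul, ← e, inv_smul_smul]
  have hmem := X.mem_C0_of_fix hQ (mul_mem (inv_mem (X.le_cen _ hx)) (X.C0_le hz)) hxz
  have hx1 := X.eq_one_of_mem_P_C0 hx (by simpa using mul_mem hz (inv_mem hmem))
  rw [hx1, inv_one, one_mul] at hxz
  exact hfree Q hQ hxz

theorem centralizer_le_nor {z : G} (hz : z ∈ X.C0)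
    (hfree : ∀ Q : Sylow p G, Q ≠ X.P → z • Q ≠ Q) : centralizer ({z} : Set G) ≤ nor X.P := by
  intro w hw
  by_contra h
  refine hfree (w • X.P) (fun e => h (smul_eq_iff.1 e)) ?_
  rw [← mul_smul, ← mem_centralizer_singleton_iff.1 hw, mul_smul,
    smul_eq_iff.2 (cen_le_nor _ (X.C0_le hz))]

theorem prime_dvd_n {z : G} (hz : z ∈ X.C0) (hr : (orderOf z).Prime)
    (hfree : ∀ Q : Sylow p G, Q ≠ X.P → z • Q ≠ Q) : orderOf z ∣ X.n := by
  haveI := Fact.mk hr
  have hpg : IsPGroup (orderOf z) (zpowers z) :=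
    IsPGroup.of_card (n := 1) (by rw [Nat.card_zpowers, pow_one])
  have h := hpg.card_modEq_card_fixedPoints (Sylow p G)
  have hset : MulAction.fixedPoints (zpowers z) (Sylow p G) = {X.P} := by
    ext Q
    rw [MulAction.mem_fixedPoints, Set.mem_singleton_iff]
    constructor
    · intro hQ
      by_contra hne
      exact hfree Q hne (hQ ⟨z, mem_zpowers z⟩)
    · rintro rfl ⟨w, hw⟩
      exact smul_eq_iff.2 (zpowers_le.2 (cen_le_nor _ (X.C0_le hz)) hw)
  rw [hset, X.card_sylow_eq, Nat.card_coe_set_eq, Set.ncard_singleton] at h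
  have h2 : orderOf z ∣ X.n * p := by
    have := (Nat.modEq_iff_dvd' (by omega)).1 h.symm
    rwa [Nat.add_sub_cancel_left] at this
  refine ((Nat.coprime_primes hr hp.out).2 fun e => ?_).dvd_of_dvd_mul_right h2
  exact (X.mem_C0.1 hz).2 (by rw [e])

theorem prime_not_dvd {r : ℕ} (hr : r.Prime) (h : r ∣ X.n) :
    ¬ r ∣ X.u ∧ ¬ r ∣ X.v + 1 := by
  have hn : X.n = X.u * (X.v + 1) + 1 := by rw [Ctx.n]; ring
  rw [hn] at h
  exact ⟨fun h' => hr.not_dvd_one ((Nat.dvd_add_right (dvd_mul_of_dvd_left h' _)).1 h),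
    fun h' => hr.not_dvd_one ((Nat.dvd_add_right (dvd_mul_of_dvd_right h' _)).1 h)⟩

end Ctx

end Cfsg.Agent.H78.BR
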