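import Cfsg.Agent.H78.BR.Action
import Cfsg.Agent.H78.BR.Arith
import Cfsg.Agent.H86.FewSylowReduce
import Mathlib.RingTheory.RootsOfUnity.Complex

/-!
# The numerical invariants and the linear characters of the normalizer
-/

set_option linter.unusedSectionVars false
set_option linter.style.haveILetI false

open scoped Classical Pointwise

namespace Cfsg.Agent.H78.BR

open Subgroup

universe u

variable {G : Type u} [Group G] [Fintype G] {p : ℕ} [hp : Fact p.Prime]

namespace Ctx

variable (X : Ctx G p)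

include X

/-- The index of the centralizer in the normalizer. -/
noncomputable abbrev e : ℕ := (cen X.P).relIndex (nor X.P)

/-- The number of exceptional characters. -/
noncomputable def t : ℕ := (p - 1) / X.e

/-- The number of Sylow subgroups. -/
abbrev g : ℕ := 1 + X.n * p

theorem g_eq : X.g = (X.u * X.v + 1) * (p + X.u + 1) := Arith.g_eq X.hpv

theorem g_pos : 0 < X.g := by rw [g]; omega

theorem e_dvd : X.e ∣ p - 1 := H86.Abelian.relIndex_dvd X.P X.card_P

theorem two_le_e : 2 ≤ X.e := by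
  have h1 := H86.FewSylowReduce.relIndex_ne_one X.perf X.P X.card_P
  have h2 : X.e ≠ 0 := Subgroup.index_ne_zero_of_finite
  show 2 ≤ X.e
  change X.e ≠ 1 at h1
  omega

theorem e_mul_t : X.e * X.t = p - 1 := Nat.mul_div_cancel' X.e_dvd

theorem t_pos : 1 ≤ X.t := Nat.pos_of_ne_zero fun h => by
  have := X.e_mul_t
  have := X.five_le_p
  rw [h, mul_zero] at *
  omega

theorem e_le : X.e ≤ p - 1 := Nat.le_of_dvd (by have := X.five_le_p; omega) X.e_dvd

theorem p_sub_one : p - 1 = X.v * (X.u + 1) := by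
  have h := X.hpv
  omega

theorem t_mul_e : X.t * X.e = X.v * (X.u + 1) := by rw [mul_comm, X.e_mul_t, X.p_sub_one]

theorem index_cen : (cen X.P).index = X.e * X.g := by
  rw [H86.FewSylowReduce.index_centralizer X.P, X.card_sylow_eq]; rfl

theorem card_nor : Nat.card (nor X.P) = X.e * Nat.card (cen X.P) := by
  rw [e, relIndex, ← Nat.card_congr (subgroupOfEquivOfLe (cen_le_nor X.P)).toEquiv,
    Subgroup.index_mul_card]

theorem card_G : Nat.card G = X.g * Nat.card (nor X.P) := by
  rw [show X.g = (nor X.P).index by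
    rw [g, ← X.card_sylow_eq, Sylow.card_eq_index_normalizer X.P]; rfl, Subgroup.index_mul_card]

theorem cen_eq_of_bot (h : X.C0 = ⊥) : cen X.P = (X.P : Subgroup G) := by
  refine (eq_of_le_of_card_ge (X.le_cen _) ?_).symm
  rw [X.card_cen, h, Subgroup.card_bot, mul_one, X.card_P]

/-- A faithful linear character of the normalizer modulo the centralizer. -/
theorem exists_psi : ∃ ψ : nor X.P →* ℂˣ,
    (∀ w : nor X.P, ψ w = 1 ↔ (w : G) ∈ cen X.P) ∧
    (∃ w : nor X.P, IsPrimitiveRoot ((ψ w : ℂ)) X.e) ∧ ∀ w : nor X.P, ψ w ^ X.e = 1 := by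
  obtain ⟨ν, hν⟩ := H86.TraceQ.exists_hom X.P X.card_P (ZMod p)
  set R := ν.toHomUnits.range with hR
  have hcard : Nat.card R = X.e := by
    rw [e, ← Subgroup.index_ker, hν]; rfl
  obtain ⟨ζ, hζ⟩ : ∃ ζ : ℂˣ, IsPrimitiveRoot ζ X.e := by
    have h := Complex.isPrimitiveRoot_exp X.e (by have := X.two_le_e; omega)
    exact ⟨(h.isUnit (by have := X.two_le_e; omega)).unit, h.isUnit_unit (by have := X.two_le_e; omega)⟩
  haveI : IsCyclic R := by infer_instance
  obtain ⟨g₀, hg₀⟩ := IsCyclic.exists_generator (α := R)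
  have hord : orderOf ζ = orderOf g₀ := by
    rw [← hζ.eq_orderOf, orderOf_eq_card_of_forall_mem_zpowers hg₀, hcard]
  let f : R →* ℂˣ := monoidHomOfForallMemZpowers hg₀ (dvd_of_eq hord)
  have hf : f g₀ = ζ := monoidHomOfForallMemZpowers_apply_gen hg₀ _
  have hinj : ∀ x, f x = 1 → x = 1 := by
    intro x hx
    obtain ⟨i, rfl⟩ := hg₀ x
    simp only [map_zpow, hf] at hx
    rw [← orderOf_dvd_iff_zpow_eq_one, hord, orderOf_dvd_iff_zpow_eq_one] at hx
    exact hx
  refine ⟨f.comp ν.toHomUnits.rangeRestrict, fun w => ?_, ?_, fun w => ?_⟩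
  · constructor
    · intro h
      have h1 := congrArg Subtype.val (hinj _ h)
      have h2 : w ∈ ν.toHomUnits.ker := MonoidHom.mem_ker.2 h1
      rw [hν, mem_subgroupOf] at h2
      exact h2
    · intro h
      have h2 : w ∈ ν.toHomUnits.ker := by rw [hν, mem_subgroupOf]; exact h
      rw [MonoidHom.comp_apply, show ν.toHomUnits.rangeRestrict w = 1 from
        Subtype.ext (MonoidHom.mem_ker.1 h2), map_one]
  · obtain ⟨w, hw⟩ := ν.toHomUnits.rangeRestrict_surjective g₀
    refine ⟨w, ?_⟩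
    rw [MonoidHom.comp_apply, hw, hf]
    exact IsPrimitiveRoot.coe_units_iff.2 hζ
  · rw [MonoidHom.comp_apply, ← map_pow, ← hcard, pow_card_eq_one', map_one]

/-- The chosen linear character. -/
noncomputable def psi : nor X.P →* ℂˣ := X.exists_psi.choose

theorem psi_eq_one {w : nor X.P} : X.psi w = 1 ↔ (w : G) ∈ cen X.P :=
  X.exists_psi.choose_spec.1 w

theorem exists_psi_gen : ∃ w : nor X.P, IsPrimitiveRoot ((X.psi w : ℂ)) X.e :=
  X.exists_psi.choose_spec.2.1

theorem psi_pow_e (w : nor X.P) : X.psi w ^ X.e = 1 := X.exists_psi.choose_spec.2.2 w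

/-- The sum of the powers of `ψ` detects the centralizer. -/
theorem sum_psi (w : nor X.P) :
    ∑ j ∈ Finset.range X.e, (X.psi w : ℂ) ^ j = if (w : G) ∈ cen X.P then (X.e : ℂ) else 0 := by
  split_ifs with h
  · rw [X.psi_eq_one.2 h]; simp
  · refine (mul_eq_zero.1 (geom_sum_mul (X.psi w : ℂ) X.e |>.trans ?_)).resolve_right ?_
    · rw [← Units.val_pow_eq_pow_val, X.psi_pow_e, Units.val_one, sub_self]
    · intro h1
      exact h (X.psi_eq_one.1 (Units.ext (sub_eq_zero.1 h1)))

/-- A regular element with a primitive value. -/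
theorem exists_regular_gen : ∃ w : nor X.P, IsPrimitiveRoot ((X.psi w : ℂ)) X.e ∧
    ¬ p ∣ orderOf (w : G) := by
  obtain ⟨w, hw⟩ := X.exists_psi_gen
  obtain ⟨k, hk⟩ : ∃ k, orderOf (w : G) ∣ p * k ∧ ¬ p ∣ k := by
    obtain ⟨L, hLP, hLN⟩ := H86.TraceQ.exists_frame X.P X.card_P
    refine ⟨Nat.card (nor X.P) / p, ?_, ?_⟩
    · rw [Nat.mul_div_cancel']
      · rw [Subgroup.orderOf_coe]; exact orderOf_dvd_natCard w
      · rw [X.card_nor, X.card_cen]; exact dvd_mul_of_dvd_right (dvd_mul_right _ _) _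
    · rw [X.card_nor, X.card_cen, mul_left_comm, Nat.mul_div_cancel_left _ hp.out.pos]
      intro h
      rcases hp.out.dvd_mul.1 h with h | h
      · have h1 : 2 ≤ X.e := X.two_le_e
        have h2 : p ≤ X.e := Nat.le_of_dvd (by omega) h
        have h3 : X.e ≤ p - 1 := X.e_le
        have h4 := hp.out.two_le
        omega
      · exact X.not_dvd_card_C0 h
  refine ⟨w ^ p, ?_, fun h => hk.2 ?_⟩
  · rw [map_pow, Units.val_pow_eq_pow_val]
    refine hw.pow_of_coprime p ((hp.out.coprime_iff_not_dvd).2 fun h => ?_)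
    have h1 : 2 ≤ X.e := X.two_le_e
    have h2 : p ≤ X.e := Nat.le_of_dvd (by omega) h
    have h3 : X.e ≤ p - 1 := X.e_le
    have h4 := hp.out.two_le
    omega
  · refine h.trans (orderOf_dvd_of_pow_eq_one ?_)
    rw [SubgroupClass.coe_pow, ← pow_mul, orderOf_dvd_iff_pow_eq_one.1 hk.1]

end Ctx

end Cfsg.Agent.H78.BR
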