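import Cfsg.Agent.H78.BR.FixOne
import Cfsg.Agent.H78.BR.Psi
import Cfsg.Agent.CharInduce.Induce

/-!
# Irreducible characters of degree `g` with value `1` on the singular part of the centralizer

They are induced from linear characters of the normalizer.
-/

set_option linter.unusedSectionVars false
set_option linter.style.haveILetI false

open scoped Classical ComplexConjugate Pointwise

namespace Cfsg.Agent.H78.BR

open Subgroup CharBasic CharInduce BlockBasic

universe u

variable {G : Type u} [Group G] [Fintype G] {p : ℕ} [hp : Fact p.Prime]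

namespace Ctx

variable (X : Ctx G p)

include X

/-- A character of degree `g` with value `1` on the singular part of the centralizer. -/
def GChar (χ : IrrCharacter G) : Prop :=
  charDegree (χ : G → ℂ) = X.g ∧
    ∀ u ∈ (X.P : Subgroup G), u ≠ 1 → ∀ y ∈ X.C0, (χ : G → ℂ) (u * y) = 1

/-- The powers of `ψ` as functions. -/
noncomputable def lin (j : ℕ) : nor X.P → ℂ := fun w => (X.psi w : ℂ) ^ j

theorem isIrr_lin (j : ℕ) : IsIrrCharacter (nor X.P) (X.lin j) :=
  H82.isIrrCharacter_hom ((powMonoidHom j).comp ((Units.coeHom ℂ).comp X.psi))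

theorem isClassFunction_lin (j : ℕ) : IsClassFunction (nor X.P) (X.lin j) :=
  IsIrr.isClassFunction (X.isIrr_lin j)

theorem lin_one (j : ℕ) : X.lin j 1 = 1 := by simp [lin]

theorem lin_cen (j : ℕ) {w : nor X.P} (h : (w : G) ∈ cen X.P) : X.lin j w = 1 := by
  rw [lin, X.psi_eq_one.2 h]; simp

theorem conj_psi (w : nor X.P) : conj (X.psi w : ℂ) = ((X.psi w : ℂ))⁻¹ := by
  have h1 : (X.psi w : ℂ) ^ X.e = 1 := by
    rw [← Units.val_pow_eq_pow_val, X.psi_pow_e, Units.val_one]
  have h2 : ‖(X.psi w : ℂ)‖ = 1 := Complex.norm_eq_one_of_pow_eq_one h1 (by have := X.two_le_e; omega)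
  exact (Complex.inv_eq_conj h2).symm

theorem lin_injOn {i j : ℕ} (hi : i < X.e) (hj : j < X.e) (h : X.lin i = X.lin j) : i = j := by
  obtain ⟨w, hw⟩ := X.exists_psi_gen
  exact hw.pow_inj hi hj (congrFun h w)

/-- A conjugator onto a Sylow subgroup. -/
noncomputable def rep (Q : Sylow p G) : G := (MulAction.exists_smul_eq G X.P Q).choose

theorem rep_smul (Q : Sylow p G) : X.rep Q • X.P = Q :=
  (MulAction.exists_smul_eq G X.P Q).choose_spec

/-- The conjugate of a linear character at a Sylow subgroup, extended by zero. -/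
noncomputable def lam (j : ℕ) (Q : Sylow p G) (w : G) : ℂ :=
  extendByZero (nor X.P) (X.lin j) ((X.rep Q)⁻¹ * w * X.rep Q)

theorem lam_eq (j : ℕ) {Q : Sylow p G} {d : G} (hd : d • X.P = Q) (w : G) :
    X.lam j Q w = extendByZero (nor X.P) (X.lin j) (d⁻¹ * w * d) := by
  have hn : (X.rep Q)⁻¹ * d ∈ nor X.P := smul_eq_iff.1 (by
    rw [mul_smul, hd, inv_smul_eq_iff, X.rep_smul])
  have h := extendByZero_conj (X.isClassFunction_lin j) hn (d⁻¹ * w * d)
  rw [lam]
  refine Eq.trans ?_ h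
  congr 1
  group

theorem lam_of_not_mem (j : ℕ) {Q : Sylow p G} {w : G} (h : w ∉ nor Q) : X.lam j Q w = 0 := by
  refine extendByZero_of_not_mem _ fun h' => h ?_
  rw [← X.rep_smul Q]
  exact mem_nor_smul.2 h'

theorem mem_rep {Q : Sylow p G} {w : G} (h : w ∈ nor Q) :
    (X.rep Q)⁻¹ * w * X.rep Q ∈ nor X.P :=
  mem_nor_smul.1 ((X.rep_smul Q).symm ▸ h)

theorem lam_P (j : ℕ) (w : nor X.P) : X.lam j X.P (w : G) = X.lin j w := by
  rw [X.lam_eq j (one_smul G X.P), inv_one, one_mul, mul_one, extendByZero_coe]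

theorem lam_cen (j : ℕ) {Q : Sylow p G} {w : G} (hw : w ∈ cen X.P) :
    X.lam j Q w = if w • Q = Q then 1 else 0 := by
  split_ifs with h
  · rw [lam, extendByZero_of_mem _ (X.mem_rep (smul_eq_iff.1 h))]
    refine X.lin_cen j ?_
    have h1 := X.dich (smul_eq_iff.1 h) hw
    rw [← X.rep_smul Q] at h1
    exact mem_cen_smul.1 h1
  · exact X.lam_of_not_mem j fun h' => h (smul_eq_iff.2 h')

theorem card_fiber (Q : Sylow p G) :
    (Finset.univ.filter fun x : G => x • X.P = Q).card = Nat.card (nor X.P) := by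
  rw [Nat.card_eq_fintype_card, ← Finset.card_univ]
  refine (Finset.card_bij (fun (w : nor X.P) _ => X.rep Q * (w : G)) ?_ ?_ ?_).symm
  · intro w _
    refine Finset.mem_filter.2 ⟨Finset.mem_univ _, ?_⟩
    rw [mul_smul, smul_eq_iff.2 w.2, X.rep_smul]
  · intro a _ b _ h
    exact Subtype.ext (mul_left_cancel h)
  · intro x hx
    refine ⟨⟨(X.rep Q)⁻¹ * x, smul_eq_iff.1 ?_⟩, Finset.mem_univ _, mul_inv_cancel_left _ _⟩
    rw [mul_smul, (Finset.mem_filter.1 hx).2, inv_smul_eq_iff, X.rep_smul]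

theorem indFun_lin (j : ℕ) (w : G) :
    indFun (nor X.P) (X.lin j) w = ∑ Q : Sylow p G, X.lam j Q w := by
  rw [indFun_apply, ← Finset.sum_fiberwise Finset.univ (fun x : G => x • X.P), Finset.mul_sum]
  refine Finset.sum_congr rfl fun Q _ => ?_
  rw [Finset.sum_congr rfl fun x hx => (X.lam_eq j (Finset.mem_filter.1 hx).2 w).symm,
    Finset.sum_const, X.card_fiber, nsmul_eq_mul, ← mul_assoc,
    inv_mul_cancel₀ (Nat.cast_ne_zero.2 Nat.card_pos.ne'), one_mul]

/-- The number of fixed Sylow subgroups. -/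
noncomputable def nfix (_Y : Ctx G p) (w : G) : ℕ :=
  (Finset.univ.filter fun Q : Sylow p G => w • Q = Q).card

theorem indFun_cen (j : ℕ) {w : G} (hw : w ∈ cen X.P) :
    indFun (nor X.P) (X.lin j) w = (X.nfix w : ℂ) := by
  rw [X.indFun_lin, Finset.sum_congr rfl fun Q _ => X.lam_cen j hw, Finset.sum_boole]
  rfl

/-- The multiplicity of `ψ ^ j` in a character. -/
noncomputable def mulp (χ : IrrCharacter G) (j : ℕ) : ℕ :=
  (classInner_isChar_nat (IsChar.res (IsIrr.isCharacter χ.2) (nor X.P))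
    (IsIrr.isCharacter (X.isIrr_lin j))).choose

theorem mulp_spec (χ : IrrCharacter G) (j : ℕ) :
    classInner (fun w : nor X.P => (χ : G → ℂ) w) (X.lin j) = (X.mulp χ j : ℂ) :=
  (classInner_isChar_nat (IsChar.res (IsIrr.isCharacter χ.2) (nor X.P))
    (IsIrr.isCharacter (X.isIrr_lin j))).choose_spec

theorem indFun_eq {χ : IrrCharacter G} (hd : charDegree (χ : G → ℂ) = X.g) {j : ℕ}
    (hm : X.mulp χ j ≠ 0) : indFun (nor X.P) (X.lin j) = (χ : G → ℂ) := by
  have hne : classInner (indFun (nor X.P) (X.lin j)) (χ : G → ℂ) ≠ 0 := by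
    rw [classInner_indFun_left _ _ _ (IsIrr.isClassFunction χ.2), ← conj_classInner,
      X.mulp_spec, Complex.conj_natCast]
    exact_mod_cast hm
  obtain ⟨r, hr, he⟩ := IsChar.exists_eq_add
    (IsChar.ind (nor X.P) (IsIrr.isCharacter (X.isIrr_lin j))) χ.2 hne
  have hidx : ((nor X.P).index : ℂ) = (X.g : ℂ) := by
    rw [Ctx.g, ← X.card_sylow_eq, Sylow.card_eq_index_normalizer X.P]; rfl
  have h1 : r 1 = 0 := by
    have h := congrFun he 1
    rw [indFun_one, X.lin_one, mul_one, hidx, Pi.add_apply, apply_one_eq_charDegree, hd] at h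
    linear_combination -h
  rw [he, IsChar.eq_zero_of_one_eq_zero hr h1, add_zero]

theorem mulp_of_indFun {χ : IrrCharacter G} {j : ℕ}
    (h : indFun (nor X.P) (X.lin j) = (χ : G → ℂ)) : X.mulp χ j = 1 := by
  have h1 : classInner (fun w : nor X.P => (χ : G → ℂ) w) (X.lin j) = 1 := by
    rw [← classInner_indFun_right _ _ _ (IsIrr.isClassFunction χ.2), h, classInner_irr_self χ.2]
  rw [X.mulp_spec] at h1
  exact_mod_cast h1

theorem mulp_le_one {χ : IrrCharacter G} (hd : charDegree (χ : G → ℂ) = X.g) (j : ℕ) :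
    X.mulp χ j ≤ 1 := by
  by_contra h
  have := X.mulp_of_indFun (X.indFun_eq hd (show X.mulp χ j ≠ 0 by omega))
  omega

theorem sum_mulp (χ : IrrCharacter G) :
    ((∑ j ∈ Finset.range X.e, X.mulp χ j : ℕ) : ℂ) * (Nat.card (cen X.P) : ℂ) =
      ∑ w : cen X.P, (χ : G → ℂ) w := by
  have hN : (Nat.card (nor X.P) : ℂ) ≠ 0 := Nat.cast_ne_zero.2 Nat.card_pos.ne'
  have key : ((∑ j ∈ Finset.range X.e, X.mulp χ j : ℕ) : ℂ) * (Nat.card (nor X.P) : ℂ) =
      ∑ w : nor X.P, (if (w : G) ∈ cen X.P then (χ : G → ℂ) w * X.e else 0) := by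
    push_cast
    rw [Finset.sum_mul]
    simp only [← X.mulp_spec, classInner_def, mul_comm ((Nat.card (nor X.P) : ℂ)⁻¹),
      inv_mul_cancel_right₀ hN]
    rw [Finset.sum_comm]
    refine Finset.sum_congr rfl fun w _ => ?_
    have h := congrArg conj (X.sum_psi w)
    rw [map_sum, apply_ite (conj : ℂ → ℂ), Complex.conj_natCast, map_zero] at h
    rw [← Finset.mul_sum]
    show (χ : G → ℂ) w * ∑ i ∈ Finset.range X.e, conj ((X.psi w : ℂ) ^ i) = _
    rw [h, mul_ite, mul_zero]
  rw [← Finset.sum_filter] at key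
  rw [← Finset.sum_mul] at key
  have hb : ∑ w ∈ Finset.univ.filter (fun w : nor X.P => (w : G) ∈ cen X.P), (χ : G → ℂ) w =
      ∑ w : cen X.P, (χ : G → ℂ) w := by
    refine Finset.sum_bij' (fun w hw => (⟨(w : G), (Finset.mem_filter.1 hw).2⟩ : cen X.P))
      (fun w _ => (⟨(w : G), cen_le_nor _ w.2⟩ : nor X.P)) ?_ ?_ ?_ ?_ ?_
    · exact fun _ _ => Finset.mem_univ _
    · exact fun w _ => Finset.mem_filter.2 ⟨Finset.mem_univ _, w.2⟩
    · exact fun _ _ => rfl
    · exact fun _ _ => rfl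
    · exact fun _ _ => rfl
  rw [hb, X.card_nor] at key
  push_cast at key ⊢
  refine mul_right_cancel₀ (show (X.e : ℂ) ≠ 0 from Nat.cast_ne_zero.2 (by
    have := X.two_le_e; omega)) ?_
  linear_combination key

theorem cen_bijective : Function.Bijective
    (fun a : ↥(X.P : Subgroup G) × X.C0 => (⟨(a.1 : G) * a.2,
      mul_mem (X.le_cen _ a.1.2) (X.C0_le a.2.2)⟩ : cen X.P)) := by
  rw [Fintype.bijective_iff_surjective_and_card]
  refine ⟨fun w => ?_, ?_⟩
  · obtain ⟨x, hx, z, hz, e⟩ := X.cen_dec w.2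
    exact ⟨(⟨x, hx⟩, ⟨z, hz⟩), Subtype.ext e.symm⟩
  · rw [← Nat.card_eq_fintype_card, ← Nat.card_eq_fintype_card, Nat.card_prod, X.card_P, X.card_cen]

theorem sum_cen_ne_zero {χ : IrrCharacter G} (hχ : X.GChar χ) :
    ∑ w : cen X.P, (χ : G → ℂ) w ≠ 0 := by
  obtain ⟨s, hs⟩ := classInner_isChar_nat (IsChar.res (IsIrr.isCharacter χ.2) X.C0)
    (IsChar.one (G := X.C0))
  simp only [classInner_def, map_one, mul_one] at hs
  have hs' : ∑ y : X.C0, (χ : G → ℂ) y = (Nat.card X.C0 : ℂ) * s := by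
    rw [← hs, ← mul_assoc, mul_inv_cancel₀ (Nat.cast_ne_zero.2 Nat.card_pos.ne'), one_mul]
  rw [← Equiv.sum_comp (Equiv.ofBijective _ X.cen_bijective), Fintype.sum_prod_type,
    Finset.sum_comm]
  simp only [Equiv.ofBijective_apply]
  rw [Finset.sum_congr rfl (g := fun y : X.C0 => (χ : G → ℂ) y + ((p - 1 : ℕ) : ℂ)) fun y _ => by
    rw [← Finset.add_sum_erase _ _ (Finset.mem_univ (1 : (X.P : Subgroup G))), Subgroup.coe_one,
      one_mul, Finset.sum_congr rfl fun (u : (X.P : Subgroup G)) hu => hχ.2 u u.2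
        (fun e => Finset.ne_of_mem_erase hu (Subtype.ext e)) y y.2, Finset.sum_const,
      Finset.card_erase_of_mem (Finset.mem_univ _), Finset.card_univ, ← Nat.card_eq_fintype_card,
      X.card_P, nsmul_eq_mul, mul_one],
    Finset.sum_add_distrib, hs', Finset.sum_const, Finset.card_univ, ← Nat.card_eq_fintype_card,
    nsmul_eq_mul, ← mul_add, mul_ne_zero_iff]
  refine ⟨Nat.cast_ne_zero.2 Nat.card_pos.ne', ?_⟩
  have := X.five_le_p
  exact_mod_cast (show s + (p - 1) ≠ 0 by omega)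

theorem exists_lin {χ : IrrCharacter G} (hχ : X.GChar χ) :
    ∃ j < X.e, indFun (nor X.P) (X.lin j) = (χ : G → ℂ) := by
  by_contra hno
  push Not at hno
  refine X.sum_cen_ne_zero hχ ?_
  rw [← X.sum_mulp χ, Finset.sum_eq_zero fun j hj => by_contra fun h =>
    hno j (Finset.mem_range.1 hj) (X.indFun_eq hχ.1 h)]
  simp

/-- The slots of a character of degree `g`. -/
noncomputable def slots (χ : IrrCharacter G) : Finset ℕ :=
  (Finset.range X.e).filter fun j => X.mulp χ j ≠ 0

theorem mem_slots_iff {χ : IrrCharacter G} (hχ : X.GChar χ) {j : ℕ} :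
    j ∈ X.slots χ ↔ j < X.e ∧ indFun (nor X.P) (X.lin j) = (χ : G → ℂ) := by
  simp only [slots, Finset.mem_filter, Finset.mem_range]
  exact and_congr_right fun _ => ⟨X.indFun_eq hχ.1, fun h => by rw [X.mulp_of_indFun h]; exact one_ne_zero⟩

theorem zero_notMem_slots {χ : IrrCharacter G} (hχ : X.GChar χ) : 0 ∉ X.slots χ := by
  intro h
  obtain ⟨-, h⟩ := (X.mem_slots_iff hχ).1 h
  have h1 : classInner (indFun (nor X.P) (X.lin 0)) ((trivialIrr : IrrCharacter G) : G → ℂ) = 1 := by
    rw [classInner_indFun_left _ _ _ (IsIrr.isClassFunction (trivialIrr : IrrCharacter G).2)]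
    have : X.lin 0 = fun _ => 1 := funext fun w => pow_zero _
    rw [this]
    exact classInner_irr_self (isIrrCharacter_one (G := nor X.P))
  rw [h, classInner_irrCharacter] at h1
  split_ifs at h1 with he
  · have h2 := congrArg (fun ψ : IrrCharacter G => charDegree (ψ : G → ℂ)) he
    simp only [hχ.1] at h2
    have h3 := apply_one_eq_charDegree (trivialIrr : IrrCharacter G)
    have h4 : charDegree ((trivialIrr : IrrCharacter G) : G → ℂ) = 1 := by
      exact_mod_cast (h3.symm.trans rfl :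
        (charDegree ((trivialIrr : IrrCharacter G) : G → ℂ) : ℂ) = 1)
    rw [h4, Ctx.g] at h2
    have h5 : 0 < X.n * p := Nat.mul_pos (by rw [Ctx.n]; omega) hp.out.pos
    omega
  · exact zero_ne_one h1

theorem slots_disjoint {χ χ' : IrrCharacter G} (hχ : X.GChar χ) (hχ' : X.GChar χ') (h : χ ≠ χ') :
    Disjoint (X.slots χ) (X.slots χ') := Finset.disjoint_left.2 fun j hj hj' => h (Subtype.ext
  (((X.mem_slots_iff hχ).1 hj).2.symm.trans ((X.mem_slots_iff hχ').1 hj').2))

theorem card_slots {χ : IrrCharacter G} (hχ : X.GChar χ) :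
    (X.slots χ).card = Nat.card (Quotient (MulAction.orbitRel (cen X.P) (Sylow p G))) := by
  have hsum : ∑ j ∈ Finset.range X.e, X.mulp χ j = (X.slots χ).card := by
    rw [slots, Finset.card_filter]
    refine Finset.sum_congr rfl fun j _ => ?_
    have := X.mulp_le_one hχ.1 j
    split_ifs <;> omega
  obtain ⟨j, -, hj⟩ := X.exists_lin hχ
  have h := X.sum_mulp χ
  rw [hsum, Finset.sum_congr rfl fun (w : cen X.P) _ => by rw [← hj, X.indFun_cen j w.2],
    ← Nat.cast_sum] at h
  have h' : (X.slots χ).card * Nat.card (cen X.P) = ∑ w : cen X.P, X.nfix w := by exact_mod_cast h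
  have hB := MulAction.sum_card_fixedBy_eq_card_orbits_mul_card_group (cen X.P) (Sylow p G)
  rw [← Nat.card_eq_fintype_card, ← Nat.card_eq_fintype_card] at hB
  refine Nat.eq_of_mul_eq_mul_right Nat.card_pos (h'.trans (Eq.trans ?_ hB))
  refine Finset.sum_congr rfl fun w _ => ?_
  rw [nfix, ← Fintype.card_subtype]
  exact Fintype.card_congr (Equiv.refl _)

theorem lam_hom (j : ℕ) (Q : Sylow p G) : ∃ f : ↥((nor Q).subgroupOf (nor X.P)) →* ℂ,
    ∀ d : ↥((nor Q).subgroupOf (nor X.P)), f d = X.lam j Q ((d : nor X.P) : G) := by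
  let f : ↥((nor Q).subgroupOf (nor X.P)) →* nor X.P :=
    { toFun := fun d => ⟨(X.rep Q)⁻¹ * ((d : nor X.P) : G) * X.rep Q,
        X.mem_rep (mem_subgroupOf.1 d.2)⟩
      map_one' := Subtype.ext (by simp)
      map_mul' := fun a b => Subtype.ext (by simp [mul_assoc]) }
  refine ⟨((powMonoidHom j).comp ((Units.coeHom ℂ).comp X.psi)).comp f, fun d => ?_⟩
  rw [lam, extendByZero_of_mem _ (X.mem_rep (mem_subgroupOf.1 d.2))]
  rfl

/-- Mackey: the conjugate linear characters differ from `ψ ^ j` on the two point stabilizers. -/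
theorem exists_lam_ne {χ : IrrCharacter G} {j : ℕ}
    (hj : indFun (nor X.P) (X.lin j) = (χ : G → ℂ)) {Q : Sylow p G} (hQ : Q ≠ X.P) :
    ∃ w : nor X.P, (w : G) ∈ nor Q ∧ X.lam j Q w ≠ X.lin j w := by
  by_contra hno
  push Not at hno
  have h1 := X.mulp_of_indFun hj
  have hspec := X.mulp_spec χ j
  rw [h1, classInner_def, Nat.cast_one,
    inv_mul_eq_one₀ (Nat.cast_ne_zero.2 Nat.card_pos.ne')] at hspec
  rw [Finset.sum_congr rfl fun (w : nor X.P) _ => by rw [← hj, X.indFun_lin, Finset.sum_mul],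
    Finset.sum_comm] at hspec
  -- every summand is a natural number
  have hterm : ∀ R : Sylow p G, ∃ k : ℕ,
      ∑ w : nor X.P, X.lam j R (w : G) * conj (X.lin j w) = k ∧
      ((∀ w : nor X.P, (w : G) ∈ nor R → X.lam j R (w : G) = X.lin j w) → k ≠ 0) := by
    intro R
    obtain ⟨f, hf⟩ := X.lam_hom j R
    let D := (nor R).subgroupOf (nor X.P)
    let h : D →* ℂ :=
      { toFun := fun d => f d * conj (X.lin j (d : nor X.P))
        map_one' := by simp [lin]
        map_mul' := fun a b => by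
          simp only [map_mul, lin, Subgroup.coe_mul, Units.val_mul, mul_pow]
          ring }
    have hsplit : ∑ w : nor X.P, X.lam j R (w : G) * conj (X.lin j w) = ∑ d : D, h d := by
      rw [← Finset.sum_subset (Finset.subset_univ (Finset.univ.filter fun w : nor X.P => w ∈ D))
        (fun w _ hw => by
          rw [X.lam_of_not_mem j (fun h' => hw (Finset.mem_filter.2
            ⟨Finset.mem_univ _, mem_subgroupOf.2 h'⟩)), zero_mul]),
        Finset.sum_subtype (p := fun w : nor X.P => w ∈ D) _ (fun w => by simp) _]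
      refine Finset.sum_congr rfl fun d _ => ?_
      show _ = f d * _
      rw [hf]
    refine ⟨if h = 1 then Fintype.card D else 0, ?_, fun hall => ?_⟩
    · rw [hsplit, sum_hom_units h]
    · have he : h = 1 := by
        refine MonoidHom.ext fun d => ?_
        show f d * _ = 1
        rw [hf, hall _ (mem_subgroupOf.1 d.2), lin, map_pow, X.conj_psi, ← mul_pow,
          mul_inv_cancel₀ (Units.ne_zero _), one_pow]
      rw [if_pos he]
      exact Fintype.card_ne_zero
  choose k hk hk0 using hterm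
  have hkP : k X.P = Nat.card (nor X.P) := by
    apply Nat.cast_injective (R := ℂ)
    rw [← hk]
    rw [Finset.sum_congr rfl (g := fun _ => (1 : ℂ)) fun w _ => by
      rw [X.lam_P, lin, map_pow, X.conj_psi, ← mul_pow, mul_inv_cancel₀ (Units.ne_zero _), one_pow],
      Finset.sum_const, Finset.card_univ, ← Nat.card_eq_fintype_card, nsmul_one]
  rw [Finset.sum_congr rfl fun R _ => hk R, ← Nat.cast_sum, Nat.cast_inj] at hspec
  have hle : ∑ R ∈ ({X.P, Q} : Finset (Sylow p G)), k R ≤ ∑ R, k R :=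
    Finset.sum_le_sum_of_subset (Finset.subset_univ _)
  rw [Finset.sum_pair hQ.symm, ← hspec, hkP] at hle
  have := hk0 Q hno
  omega

theorem mono_of_gchar {χ : IrrCharacter G} (hχ : X.GChar χ) : X.Mono := by
  obtain ⟨j, -, hj⟩ := X.exists_lin hχ
  intro Q hQ
  obtain ⟨w, hwQ, hne⟩ := X.exists_lam_ne hj hQ
  refine ⟨w, w.2, hwQ, fun m hm hc => hne ?_⟩
  have hmn : m⁻¹ * (w : G) * m ∈ nor X.P := mem_nor_smul.1 (hm ▸ hwQ)
  rw [X.lam_eq j hm, extendByZero_of_mem _ hmn]
  have h1 : X.psi ⟨_, hmn⟩ = X.psi w := by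
    have h := X.psi_eq_one (w := (⟨_, hmn⟩ : nor X.P)⁻¹ * w) |>.2 hc
    rw [map_mul, map_inv, inv_mul_eq_one] at h
    exact h
  simp only [lin, h1]

end Ctx

end Cfsg.Agent.H78.BR
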