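import Cfsg.Agent.H78.BR.Free
import Cfsg.Agent.H78.BR.Column

/-!
# Characters of degree `g` force a self-centralizing Sylow subgroup

Apart from two small configurations with `e = 4` and `v = u + 1`.
-/

set_option linter.unusedSectionVars false
set_option linter.style.haveILetI false

open scoped Classical ComplexConjugate Pointwise

namespace Cfsg.Agent.H78.BR

open Subgroup CharBasic CharInduce BlockBasic

universe u

variable {G : Type u} [Group G] [Fintype G] {p : ℕ} [hp : Fact p.Prime]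

namespace Ctx

variable (X : Ctx G p)

include X

theorem lin_mod (i : ℕ) (w : nor X.P) : X.lin (i % X.e) w = X.lin i w := by
  simp only [lin, ← Units.val_pow_eq_pow_val]
  conv_rhs => rw [← Nat.mod_add_div i X.e, pow_add, pow_mul, X.psi_pow_e, one_pow, mul_one]

theorem lin_mul_conj (i : ℕ) (w : nor X.P) : X.lin i w * conj (X.lin i w) = 1 := by
  rw [lin, map_pow, X.conj_psi, ← mul_pow, mul_inv_cancel₀ (Units.ne_zero _), one_pow]

theorem psi_pow_of_gen {w₀ : nor X.P} (h : IsPrimitiveRoot ((X.psi w₀ : ℂ)) X.e) (w : nor X.P) :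
    ∃ i, X.psi w = X.psi w₀ ^ i := by
  haveI : NeZero X.e := ⟨by have := X.two_le_e; omega⟩
  obtain ⟨i, -, hi⟩ := h.eq_pow_of_pow_eq_one (ξ := (X.psi w : ℂ))
    (by rw [← Units.val_pow_eq_pow_val, X.psi_pow_e, Units.val_one])
  exact ⟨i, Units.ext (by rw [Units.val_pow_eq_pow_val, hi])⟩

theorem psi_conj {c : G} (hc : c ∈ cen X.P) {w : G} (hw : w ∈ nor X.P)
    (h : c⁻¹ * w * c ∈ nor X.P) : X.psi ⟨c⁻¹ * w * c, h⟩ = X.psi ⟨w, hw⟩ := by
  have e : (⟨c⁻¹ * w * c, h⟩ : nor X.P) =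
      (⟨c, cen_le_nor _ hc⟩ : nor X.P)⁻¹ * ⟨w, hw⟩ * ⟨c, cen_le_nor _ hc⟩ := Subtype.ext rfl
  rw [e, map_mul, map_mul, map_inv, X.psi_eq_one.2 (show ((⟨c, _⟩ : nor X.P) : G) ∈ cen X.P from hc),
    inv_one, one_mul, mul_one]

/-- The further fixed points. -/
noncomputable def nfix' (w : G) : ℕ :=
  ((Finset.univ.erase X.P).filter fun Q : Sylow p G => w • Q = Q).card

theorem exists_shift {Q₀ : Sylow p G} (hQ₀ : Q₀ ≠ X.P)
    (htr : ∀ Q : Sylow p G, Q ≠ X.P → ∃ c ∈ cen X.P, c • Q₀ = Q) :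
    ∃ s : ℕ, ∀ (j : ℕ) (w : nor X.P), indFun (nor X.P) (X.lin j) (w : G) =
      X.lin j w + (X.nfix' w : ℂ) * X.lin (s * j) w := by
  set m := X.rep Q₀ with hm
  have hsurj : ∀ w : nor X.P, ∃ d : nor X.P, (d : G) ∈ nor Q₀ ∧ X.psi d = X.psi w := by
    intro w
    obtain ⟨c, hc, e⟩ := htr ((w : G) • Q₀) fun e => hQ₀ (by
      rw [← inv_smul_smul (w : G) Q₀, e, smul_eq_iff.2 (inv_mem w.2)])
    refine ⟨(⟨c, cen_le_nor _ hc⟩ : nor X.P)⁻¹ * w, ?_, ?_⟩
    · rw [← smul_eq_iff, Subgroup.coe_mul, mul_smul, ← e, Subgroup.coe_inv, inv_smul_smul]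
    · rw [map_mul, map_inv, X.psi_eq_one.2 (show ((⟨c, _⟩ : nor X.P) : G) ∈ cen X.P from hc),
        inv_one, one_mul]
  let τ : ↥((nor Q₀).subgroupOf (nor X.P)) →* nor X.P :=
    { toFun := fun d => ⟨m⁻¹ * ((d : nor X.P) : G) * m, X.mem_rep (mem_subgroupOf.1 d.2)⟩
      map_one' := Subtype.ext (by simp)
      map_mul' := fun a b => Subtype.ext (by simp [mul_assoc]) }
  obtain ⟨w₀, hw₀⟩ := X.exists_psi_gen
  obtain ⟨d₀, hd₀, hd₀'⟩ := hsurj w₀
  obtain ⟨s, hs⟩ := X.psi_pow_of_gen hw₀ (τ ⟨d₀, mem_subgroupOf.2 hd₀⟩)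
  have hτ : ∀ d : ↥((nor Q₀).subgroupOf (nor X.P)), X.psi (τ d) = X.psi (d : nor X.P) ^ s := by
    intro d
    obtain ⟨i, hi⟩ := X.psi_pow_of_gen hw₀ (d : nor X.P)
    set d' := (⟨d₀, mem_subgroupOf.2 hd₀⟩ : ↥((nor Q₀).subgroupOf (nor X.P))) with hd'
    have h1 : X.psi (((d' ^ i)⁻¹ * d : ↥((nor Q₀).subgroupOf (nor X.P))) : nor X.P) = 1 := by
      simp [hd', hd₀', hi]
    have hq := X.dich (mem_subgroupOf.1 ((d' ^ i)⁻¹ * d).2) (X.psi_eq_one.1 h1)
    have h2 : X.psi (τ ((d' ^ i)⁻¹ * d)) = 1 := by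
      refine X.psi_eq_one.2 ?_
      have hq' : ((((d' ^ i)⁻¹ * d : ↥((nor Q₀).subgroupOf (nor X.P))) : nor X.P) : G) ∈
          cen (X.rep Q₀ • X.P) := by
        rw [X.rep_smul]
        exact hq
      exact mem_cen_smul.1 hq'
    rw [map_mul, map_inv, map_pow, map_mul, map_inv, map_pow, inv_mul_eq_one, hs] at h2
    rw [← h2, hi, ← pow_mul, ← pow_mul, mul_comm]
  refine ⟨s, fun j w => ?_⟩
  have hval : ∀ Q : Sylow p G, Q ≠ X.P →
      X.lam j Q (w : G) = if (w : G) • Q = Q then X.lin (s * j) w else 0 := by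
    intro Q hQ
    split_ifs with hf
    · obtain ⟨c, hc, e⟩ := htr Q hQ
      have hd1 : c⁻¹ * (w : G) * c ∈ nor X.P :=
        mul_mem (mul_mem (inv_mem (cen_le_nor _ hc)) w.2) (cen_le_nor _ hc)
      have hd2 : c⁻¹ * (w : G) * c ∈ nor Q₀ := mem_nor_smul.1 (e ▸ smul_eq_iff.1 hf)
      set d : ↥((nor Q₀).subgroupOf (nor X.P)) := ⟨⟨_, hd1⟩, mem_subgroupOf.2 hd2⟩ with hd
      rw [X.lam_eq j (show (c * m) • X.P = Q by rw [mul_smul, hm, X.rep_smul, e]),
        show (c * m)⁻¹ * (w : G) * (c * m) = ((τ d : nor X.P) : G) by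
          show _ = m⁻¹ * (c⁻¹ * (w : G) * c) * m
          group, extendByZero_coe]
      simp only [lin]
      rw [hτ d, Units.val_pow_eq_pow_val, pow_mul]
      congr 3
      exact X.psi_conj hc w.2 hd1
    · exact X.lam_of_not_mem j fun h => hf (smul_eq_iff.2 h)
  rw [X.indFun_lin, ← Finset.add_sum_erase _ _ (Finset.mem_univ X.P), X.lam_P,
    Finset.sum_congr rfl fun Q hQ => hval Q (Finset.ne_of_mem_erase hQ), ← Finset.sum_filter,
    Finset.sum_const, nsmul_eq_mul]
  rfl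

theorem slot_shift {χ : IrrCharacter G} (hχ : X.GChar χ) {s : ℕ}
    (hs : ∀ (j : ℕ) (w : nor X.P), indFun (nor X.P) (X.lin j) (w : G) =
      X.lin j w + (X.nfix' w : ℂ) * X.lin (s * j) w) {j : ℕ} (hj : j ∈ X.slots χ) :
    s * j % X.e ∈ X.slots χ ∧ s * j % X.e ≠ j := by
  obtain ⟨hje, hind⟩ := (X.mem_slots_iff hχ).1 hj
  have he0 : 0 < X.e := by have := X.two_le_e; omega
  set j' := s * j % X.e with hj'
  have hj'e : j' < X.e := Nat.mod_lt _ he0
  have hN : (Nat.card (nor X.P) : ℂ) ≠ 0 := Nat.cast_ne_zero.2 Nat.card_pos.ne'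
  have key : (Nat.card (nor X.P) : ℂ) * (X.mulp χ j' : ℂ) =
      (if j = j' then (Nat.card (nor X.P) : ℂ) else 0) +
        ((∑ w : nor X.P, X.nfix' w : ℕ) : ℂ) := by
    rw [← X.mulp_spec, classInner_def, ← mul_assoc, mul_inv_cancel₀ hN, one_mul]
    have h1 : ∀ w : nor X.P, (χ : G → ℂ) w * conj (X.lin j' w) =
        X.lin j w * conj (X.lin j' w) + (X.nfix' (w : G) : ℂ) := fun w => by
      rw [← hind, hs j w, ← X.lin_mod (s * j) w, add_mul, mul_assoc, ← hj', X.lin_mul_conj,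
        mul_one]
    rw [Finset.sum_congr rfl fun w _ => h1 w, Finset.sum_add_distrib]
    push_cast
    congr 1
    have h2 := classInner_irr (X.isIrr_lin j) (X.isIrr_lin j')
    rw [classInner_def, inv_mul_eq_iff_eq_mul₀ hN] at h2
    rw [h2]
    rcases eq_or_ne j j' with e | e
    · rw [if_pos e, e, if_pos rfl, mul_one]
    · rw [if_neg e, if_neg fun h => e (X.lin_injOn hje hj'e h), mul_zero]
  have hpos : 0 < ∑ w : nor X.P, X.nfix' w := by
    refine lt_of_lt_of_le ?_ (Finset.single_le_sum (fun _ _ => Nat.zero_le _) (Finset.mem_univ 1))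
    rw [nfix', Finset.filter_true_of_mem (fun Q _ => by rw [Subgroup.coe_one, one_smul]),
      Finset.card_erase_of_mem (Finset.mem_univ _), Finset.card_univ, ← Nat.card_eq_fintype_card,
      X.card_sylow_eq, Nat.add_sub_cancel_left]
    exact Nat.mul_pos (by rw [Ctx.n]; omega) hp.out.pos
  have hne : j ≠ j' := by
    intro e
    rw [if_pos e, ← e, X.mulp_of_indFun hind] at key
    have h3 : Nat.card (nor X.P) * 1 = Nat.card (nor X.P) + ∑ w : nor X.P, X.nfix' w := by
      exact_mod_cast key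
    omega
  rw [if_neg hne, zero_add] at key
  refine ⟨Finset.mem_filter.2 ⟨Finset.mem_range.2 hj'e, fun h0 => ?_⟩, hne.symm⟩
  rw [h0, Nat.cast_zero, mul_zero] at key
  have : ∑ w : nor X.P, X.nfix' w = 0 := by exact_mod_cast key.symm
  omega

/-- The image of the centralizer of `z` under `ψ` and its kernel. -/
theorem exists_image {z : G} (hle : centralizer ({z} : Set G) ≤ nor X.P) :
    ∃ (a : ℕ) (w₁ : centralizer ({z} : Set G)),
      orderOf (X.psi ⟨w₁, hle w₁.2⟩) = a ∧ a ∣ X.e ∧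
      Nat.card (centralizer ({z} : Set G)) = a * Nat.card (X.K0 z) := by
  set f : centralizer ({z} : Set G) →* ℂˣ := X.psi.comp (Subgroup.inclusion hle) with hf
  haveI : Finite f.range := Finite.of_surjective _ f.rangeRestrict_surjective
  haveI : IsCyclic f.range := inferInstance
  obtain ⟨η, hη⟩ := IsCyclic.exists_generator (α := f.range)
  obtain ⟨w₁, hw₁⟩ := f.rangeRestrict_surjective η
  have hval : X.psi ⟨w₁, hle w₁.2⟩ = (η : ℂˣ) := congrArg Subtype.val hw₁
  refine ⟨Nat.card f.range, w₁, ?_, ?_, ?_⟩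
  · rw [hval, Subgroup.orderOf_coe, orderOf_eq_card_of_forall_mem_zpowers hη]
  · rw [← orderOf_eq_card_of_forall_mem_zpowers hη, ← Subgroup.orderOf_coe, ← hval]
    exact orderOf_dvd_of_pow_eq_one (X.psi_pow_e _)
  · have hker : f.ker = (X.K0 z).subgroupOf (centralizer ({z} : Set G)) := by
      ext w
      rw [MonoidHom.mem_ker, mem_subgroupOf, K0, mem_inf, hf, MonoidHom.comp_apply, X.psi_eq_one]
      exact ⟨fun h => ⟨h, w.2⟩, fun h => h.1⟩
    rw [← Subgroup.index_ker, ← Nat.card_congr (subgroupOfEquivOfLe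
      (show X.K0 z ≤ centralizer ({z} : Set G) from inf_le_right)).toEquiv, ← hker,
      Subgroup.index_mul_card]

/-- Characters of degree `g` force `C(P) = P`, up to two small configurations. -/
theorem C0_eq_bot_of_gchar (Gs AB : Finset (IrrCharacter G)) (hG : ∀ χ ∈ Gs, X.GChar χ)
    (hne : Gs.Nonempty) (hAB : ∀ χ ∈ AB, X.ABChar χ) (hcard : X.e ≤ Gs.card + AB.card + 1)
    (hdiv : AB.Nonempty → X.u + 1 ∣ X.e ∨ X.v ∣ X.e) :
    X.C0 = ⊥ ∨ (X.e = 4 ∧ X.v = X.u + 1 ∧ (p = 5 ∨ p = 17) ∧ Gs.card = 1 ∧ AB.card ≤ 2) := by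
  refine or_iff_not_imp_left.2 fun hC => ?_
  obtain ⟨χ₀, hχ₀⟩ := hne
  have hm := X.mono_of_gchar (hG χ₀ hχ₀)
  obtain ⟨z, hz, hzr, hfree⟩ := X.exists_free hm hC
  obtain ⟨hu', hv'⟩ := X.prime_not_dvd hzr (X.prime_dvd_n hz hzr hfree)
  have hcol := X.column_bound hz hzr hu' hv' AB hAB
  have hle := X.centralizer_le_nor hz hfree
  obtain ⟨a, w₁, hw₁, hae, hZ⟩ := X.exists_image hle
  set q := Nat.card (Quotient (MulAction.orbitRel (cen X.P) (Sylow p G))) with hqdef
  have he0 : 0 < X.e := by have := X.two_le_e; omega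
  have hslots : (Gs.biUnion X.slots).card = Gs.card * q := by
    rw [Finset.card_biUnion fun a ha b hb hab => X.slots_disjoint (hG a ha) (hG b hb) hab,
      Finset.sum_congr rfl fun χ hχ => X.card_slots (hG χ hχ), Finset.sum_const, smul_eq_mul]
  have hslots' : Gs.card * q + 1 ≤ X.e := by
    rw [← hslots]
    have h : (Gs.biUnion X.slots) ⊆ (Finset.range X.e).erase 0 := by
      intro j hj
      obtain ⟨χ, hχ, hj⟩ := Finset.mem_biUnion.1 hj
      refine Finset.mem_erase.2 ⟨fun e => X.zero_notMem_slots (hG χ hχ) (e ▸ hj),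
        Finset.mem_range.2 ((X.mem_slots_iff (hG χ hχ)).1 hj).1⟩
    have := Finset.card_le_card h
    rw [Finset.card_erase_of_mem (Finset.mem_range.2 he0), Finset.card_range] at this
    omega
  have hnp : ((Finset.univ : Finset (Sylow p G)).erase X.P).card = X.n * p := by
    rw [Finset.card_erase_of_mem (Finset.mem_univ _), Finset.card_univ, ← Nat.card_eq_fintype_card,
      X.card_sylow_eq, Nat.add_sub_cancel_left]
  have hKne : ∀ k ∈ X.K0 z, ∀ Q : Sylow p G, Q ≠ X.P → k • Q ≠ X.P := fun k hk Q hQ e => hQ (by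
    rw [← inv_smul_smul k Q, e, smul_eq_iff.2 (inv_mem (cen_le_nor _ hk.1))])
  have hKinj : ∀ Q : Sylow p G, Q ≠ X.P → ∀ k ∈ X.K0 z, ∀ k' ∈ X.K0 z,
      k • Q = k' • Q → k = k' := fun Q hQ k hk k' hk' e => by
    have h := X.free_K0 hm hz hfree (mul_mem (inv_mem hk') hk) hQ
      (by rw [mul_smul, e, inv_smul_smul])
    exact (inv_mul_eq_one.1 h).symm
  set U := Finset.univ.filter fun k : G => k ∈ X.K0 z with hU
  have hUc : U.card = Nat.card (X.K0 z) := by
    rw [Nat.card_eq_fintype_card, Fintype.card_subtype]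
  have hrelP : ∀ Q : Sylow p G, Q ≠ X.P →
      (Quotient.mk (MulAction.orbitRel (cen X.P) (Sylow p G)) Q) ≠ Quotient.mk _ X.P := by
    intro Q hQ e
    obtain ⟨⟨c, hc⟩, hcQ⟩ := MulAction.orbitRel_apply.1 (Quotient.exact e)
    exact hQ (hcQ.symm.trans (smul_eq_iff.2 (cen_le_nor _ hc)))
  have hrelQ : ∀ Q R : Sylow p G,
      (Quotient.mk (MulAction.orbitRel (cen X.P) (Sylow p G)) R) = Quotient.mk _ Q →
      ∃ c ∈ cen X.P, c • Q = R := by
    intro Q R e
    obtain ⟨⟨c, hc⟩, hcQ⟩ := MulAction.orbitRel_apply.1 (Quotient.exact e)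
    exact ⟨c, hc, hcQ⟩
  have hfin : X.n + 1 = p → X.v = X.u + 1 := fun h => by
    have h1 := X.hpv
    rw [mul_add, mul_one, mul_comm X.v X.u] at h1
    simp only [Ctx.n] at h
    omega
  have hABne : 1 ≤ AB.card → X.n + 1 = p → X.v ∣ X.e := fun h h' => by
    rcases hdiv (Finset.card_pos.1 h) with e | e
    · rwa [hfin h']
    · exact e
  have hfour : X.n + 1 = p → 1 ≤ AB.card → X.e = 4 → X.v = X.u + 1 ∧ (p = 5 ∨ p = 17) := by
    intro h1 h2 h3
    have hd := hABne h2 h1
    rw [h3] at hd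
    have hv := hfin h1
    have hle4 := Nat.le_of_dvd (by norm_num) hd
    have hu := X.hu
    have hpv := X.hpv
    refine ⟨hv, ?_⟩
    interval_cases h : X.v <;> omega
  by_cases hsplit : ∃ Q R : Sylow p G, Q ≠ X.P ∧ R ≠ X.P ∧ ∀ c ∈ cen X.P, c • Q ≠ R
  · obtain ⟨Q, R, hQ, hR, hQR⟩ := hsplit
    have hq3 : 3 ≤ q := by
      have hne3 : (Quotient.mk (MulAction.orbitRel (cen X.P) (Sylow p G)) R) ≠ Quotient.mk _ Q :=
        fun e => by obtain ⟨c, hc, h⟩ := hrelQ Q R e; exact hQR c hc h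
      have h := Finset.card_le_card (Finset.subset_univ
        ({Quotient.mk _ X.P, Quotient.mk _ R, Quotient.mk _ Q} :
          Finset (Quotient (MulAction.orbitRel (cen X.P) (Sylow p G)))))
      rw [Finset.card_insert_of_notMem (by simp [(hrelP Q hQ).symm, (hrelP R hR).symm]),
        Finset.card_pair hne3, Finset.card_univ, ← Nat.card_eq_fintype_card] at h
      exact h
    have hK : 2 * Nat.card (X.K0 z) ≤ X.n * p := by
      have hdis : Disjoint (U.image fun k => k • Q) (U.image fun k => k • R) := by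
        refine Finset.disjoint_left.2 fun S h1 h2 => ?_
        obtain ⟨k, hk, rfl⟩ := Finset.mem_image.1 h1
        obtain ⟨k', hk', e⟩ := Finset.mem_image.1 h2
        refine hQR (k'⁻¹ * k) (mul_mem (inv_mem (Finset.mem_filter.1 hk').2.1)
          (Finset.mem_filter.1 hk).2.1) ?_
        rw [mul_smul, ← e, inv_smul_smul]
      have hsub : (U.image fun k => k • Q) ∪ (U.image fun k => k • R) ⊆ Finset.univ.erase X.P := by
        refine Finset.union_subset ?_ ?_ <;>
        · intro S hS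
          obtain ⟨k, hk, rfl⟩ := Finset.mem_image.1 hS
          exact Finset.mem_erase.2 ⟨hKne k (Finset.mem_filter.1 hk).2 _ (by assumption),
            Finset.mem_univ _⟩
      have h := Finset.card_le_card hsub
      rw [Finset.card_union_of_disjoint hdis,
        Finset.card_image_of_injOn (fun k hk k' hk' e => hKinj Q hQ k (Finset.mem_filter.1 hk).2 k'
          (Finset.mem_filter.1 hk').2 e),
        Finset.card_image_of_injOn (fun k hk k' hk' e => hKinj R hR k (Finset.mem_filter.1 hk).2 k'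
          (Finset.mem_filter.1 hk').2 e), hUc, hnp] at h
      omega
    have hZ' : 2 * Nat.card (centralizer ({z} : Set G)) ≤ X.e * (X.n * p) := by
      rw [hZ, mul_left_comm]
      exact Nat.mul_le_mul (Nat.le_of_dvd he0 hae) hK
    obtain ⟨h4, hG1, hA2, hnp1⟩ := MonoArith.arith_split hp.out X.five_le_p X.n_lt X.e_dvd
      (Finset.card_pos.2 ⟨χ₀, hχ₀⟩) (by
        have : Gs.card * 3 ≤ Gs.card * q := Nat.mul_le_mul_left _ hq3
        omega) hcard hcol hZ'
    obtain ⟨h5, h6⟩ := hfour hnp1 (by omega) h4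
    exact ⟨h4, h5, h6, hG1, hA2⟩
  · push Not at hsplit
    obtain ⟨Q₀, hQ₀⟩ : ∃ Q₀ : Sylow p G, Q₀ ≠ X.P := by
      obtain ⟨Q, hQ⟩ := Finset.card_pos.1 (hnp.symm ▸ Nat.mul_pos
        (show 0 < X.n by rw [Ctx.n]; omega) hp.out.pos)
      exact ⟨Q, Finset.ne_of_mem_erase hQ⟩
    have htr : ∀ Q : Sylow p G, Q ≠ X.P → ∃ c ∈ cen X.P, c • Q₀ = Q := fun Q hQ =>
      hsplit Q₀ Q hQ₀ hQ
    have hq2 : q = 2 := by
      have h : (Finset.univ : Finset (Quotient (MulAction.orbitRel (cen X.P) (Sylow p G)))) =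
          {Quotient.mk _ X.P, Quotient.mk _ Q₀} := by
        refine (Finset.eq_univ_of_forall fun x => ?_).symm
        induction x using Quotient.inductionOn with
        | h Q =>
          rw [Finset.mem_insert, Finset.mem_singleton]
          rcases eq_or_ne Q X.P with rfl | hQ
          · exact Or.inl rfl
          · obtain ⟨c, hc, e⟩ := htr Q hQ
            exact Or.inr (Quotient.sound (MulAction.orbitRel_apply.2 ⟨⟨c, hc⟩, e⟩))
      rw [hqdef, Nat.card_eq_fintype_card, ← Finset.card_univ, h,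
        Finset.card_pair (hrelP Q₀ hQ₀).symm]
    have hK : Nat.card (X.K0 z) ≤ X.n * p := by
      rw [← hUc, ← hnp]
      exact Finset.card_le_card_of_injOn (fun k => k • Q₀)
        (fun k hk => Finset.mem_erase.2 ⟨hKne k (Finset.mem_filter.1 hk).2 _ hQ₀,
          Finset.mem_univ _⟩)
        (fun k hk k' hk' e => hKinj Q₀ hQ₀ k (Finset.mem_filter.1 hk).2 k'
          (Finset.mem_filter.1 hk').2 e)
    have hZ' : Nat.card (centralizer ({z} : Set G)) ≤ a * (X.n * p) := by
      rw [hZ]; exact Nat.mul_le_mul_left _ hK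
    obtain ⟨s, hs⟩ := X.exists_shift hQ₀ htr
    -- the slots are moved by `s` and agree with their images on the centralizer of `z`
    have hmoved : ∀ j ∈ Gs.biUnion X.slots, j < X.e ∧ (a : ℤ) ∣ ((s : ℤ) - 1) * j ∧
        ¬ (X.e : ℤ) ∣ ((s : ℤ) - 1) * j := by
      intro j hj
      obtain ⟨χ, hχ, hj⟩ := Finset.mem_biUnion.1 hj
      have hχG := hG χ hχ
      obtain ⟨hje, hind⟩ := (X.mem_slots_iff hχG).1 hj
      obtain ⟨hj', hjne⟩ := X.slot_shift hχG hs hj
      obtain ⟨hj'', hjne'⟩ := X.slot_shift hχG hs hj'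
      set j' := s * j % X.e with hj'def
      have hpair : X.slots χ = {j, j'} := by
        refine (Finset.eq_of_subset_of_card_le (Finset.insert_subset hj
          (Finset.singleton_subset_iff.2 hj')) ?_).symm
        rw [Finset.card_pair hjne.symm, X.card_slots hχG, ← hqdef, hq2]
      have hback : s * j' % X.e = j := by
        rw [hpair, Finset.mem_insert, Finset.mem_singleton] at hj''
        exact hj''.resolve_right hjne'
      refine ⟨hje, ?_, fun hdvd => hjne ?_⟩
      · set w : nor X.P := ⟨w₁, hle w₁.2⟩ with hw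
        have hf : X.nfix' (w : G) ≠ 1 := by
          intro h1
          obtain ⟨Q, hQ⟩ := Finset.card_eq_one.1 h1
          obtain ⟨hQ1, hQ2⟩ := Finset.mem_filter.1 (hQ ▸ Finset.mem_singleton_self Q :
            Q ∈ (Finset.univ.erase X.P).filter fun Q : Sylow p G => (w : G) • Q = Q)
          have hQP := Finset.ne_of_mem_erase hQ1
          have hzQ : z • Q ∈ ({Q} : Finset (Sylow p G)) := hQ ▸ Finset.mem_filter.2
            ⟨Finset.mem_erase.2 ⟨fun e => hQP (by
              rw [← inv_smul_smul z Q, e, smul_eq_iff.2 (inv_mem (cen_le_nor _ (X.C0_le hz)))]),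
              Finset.mem_univ _⟩, by
              rw [← mul_smul, mem_centralizer_singleton_iff.1 w₁.2, mul_smul, hQ2]⟩
          exact hfree Q hQP (Finset.mem_singleton.1 hzQ)
        have h1 := hs j w
        have h2 := hs j' w
        rw [hind, ← X.lin_mod (s * j) w, ← hj'def] at h1
        rw [((X.mem_slots_iff hχG).1 hj').2, ← X.lin_mod (s * j') w, hback] at h2
        have h3 : ((X.nfix' (w : G) : ℂ) - 1) * (X.lin j' w - X.lin j w) = 0 := by
          linear_combination h2 - h1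
        have h4 : X.lin j' w = X.lin j w := by
          rcases mul_eq_zero.1 h3 with e | e
          · exact absurd (by exact_mod_cast sub_eq_zero.1 e) hf
          · exact sub_eq_zero.1 e
        rw [hj'def, X.lin_mod] at h4
        simp only [lin, ← Units.val_pow_eq_pow_val, Units.val_inj, pow_eq_pow_iff_modEq, hw] at h4
        have h5 := Nat.modEq_iff_dvd.1 h4.symm
        rw [sub_mul, one_mul, ← hw₁]
        exact_mod_cast h5
      · rw [hj'def]
        rw [sub_mul, one_mul] at hdvd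
        have h6 : j ≡ s * j [MOD X.e] := Nat.modEq_iff_dvd.2 (by exact_mod_cast hdvd)
        rw [← h6, Nat.mod_eq_of_lt hje]
    have hcount := MonoArith.count_moved hae he0 _ _ hmoved
    rw [hslots, hq2] at hcount
    obtain ⟨hnp1, hA1, h | ⟨h4, hG1, hA2⟩⟩ := MonoArith.arith_single hp.out X.five_le_p X.n_lt
      X.e_dvd hae (Finset.card_pos.2 ⟨χ₀, hχ₀⟩) (by omega) hcard hcol hZ'
    · exfalso
      have hd := hABne hA1 hnp1
      rw [h] at hd
      have hv := hfin hnp1
      have hu := X.hu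
      have hle3 := Nat.le_of_dvd (by norm_num) hd
      have hpv := X.hpv
      rcases (show X.v = 2 ∨ X.v = 3 by omega) with e | e
      · rw [e] at hd; norm_num at hd
      · rw [e, show X.u + 1 = 3 by omega] at hpv
        have := hp.out
        rw [hpv] at this
        norm_num at this
    · obtain ⟨h5, h6⟩ := hfour hnp1 hA1 h4
      exact ⟨h4, h5, h6, hG1, hA2⟩

end Ctx

end Cfsg.Agent.H78.BR
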